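import Cfsg.Agent.Lib.KnownC.AutPSLOut
import Cfsg.Agent.Lib.Classical.SLGen

/-!
The automorphism groups of `PSL_n(q)` and `PGL_n(q)` are isomorphic for `n ≥ 3`; recognition of
`Aut PGL_n(q)` from a normal `PSL_n(q)` with trivial centraliser.
-/

set_option autoImplicit false
set_option linter.unusedSectionVars false

namespace CfsgLib.InvChar.LThreeFourAut

open Subgroup Matrix CfsgLib.KnownC

universe u v

/-- A normal subgroup of `Aut P` containing the inner automorphisms, in which these are carried to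
themselves by every automorphism, has the same automorphism group. -/
theorem mulAut_normal_equiv {P : Type u} [Group P] (hc : Subgroup.center P = ⊥)
    (D : Subgroup (MulAut P)) [hD : D.Normal] (hinn : ∀ x, MulAut.conj x ∈ D)
    (hchar : ∀ α : MulAut ↥D, ∀ x : P, ∃ y : P, (α ⟨MulAut.conj x, hinn x⟩ : MulAut P) = MulAut.conj y) :
    Nonempty (MulAut P ≃* MulAut ↥D) := by
  have hinj : Function.Injective (MulAut.conj : P →* MulAut P) := by
    rw [← MonoidHom.ker_eq_bot_iff, eq_bot_iff, ← hc]
    intro x hx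
    refine Subgroup.mem_center_iff.2 fun y => ?_
    have := DFunLike.congr_fun (MonoidHom.mem_ker.1 hx) y
    rw [MulAut.conj_apply, MulAut.one_apply, mul_inv_eq_iff_eq_mul] at this
    exact this.symm
  have hconj : ∀ (β : MulAut P) (x : P), β * MulAut.conj x * β⁻¹ = MulAut.conj (β x) := fun β x =>
    MulEquiv.ext fun y => by
      simp [MulAut.mul_apply, MulAut.conj_apply]
  let f : MulAut P →* MulAut ↥D := MulAut.conjNormal
  refine ⟨MulEquiv.ofBijective f ⟨?_, ?_⟩⟩
  · rw [← MonoidHom.ker_eq_bot_iff, eq_bot_iff]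
    intro β hβ
    rw [Subgroup.mem_bot]
    refine MulEquiv.ext fun x => hinj ?_
    have h := congrArg Subtype.val (DFunLike.congr_fun (MonoidHom.mem_ker.1 hβ) ⟨MulAut.conj x, hinn x⟩)
    rw [MulAut.conjNormal_apply] at h
    rw [← hconj]
    exact h
  · intro α
    choose b hb using hchar α
    choose b' hb' using hchar α⁻¹
    have hαv : ∀ x, α ⟨MulAut.conj x, hinn x⟩ = ⟨MulAut.conj (b x), hinn _⟩ :=
      fun x => Subtype.ext (hb x)
    have hαv' : ∀ x, α⁻¹ ⟨MulAut.conj x, hinn x⟩ = ⟨MulAut.conj (b' x), hinn _⟩ :=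
      fun x => Subtype.ext (hb' x)
    have hmul : ∀ x y, b (x * y) = b x * b y := fun x y => hinj (by
      rw [map_mul, ← hb, ← hb, ← hb, ← Subgroup.coe_mul, ← map_mul]
      congr 2
      exact Subtype.ext (map_mul MulAut.conj x y))
    let β : MulAut P :=
      { toFun := b
        invFun := b'
        left_inv := fun x => hinj (by
          have h := hαv' (b x)
          rw [← hαv x, MulAut.inv_apply_self] at h
          exact (congrArg Subtype.val h).symm)
        right_inv := fun x => hinj (by
          have h := hαv (b' x)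
          rw [← hαv' x, MulAut.apply_inv_self] at h
          exact (congrArg Subtype.val h).symm)
        map_mul' := hmul }
    refine ⟨β, MulEquiv.ext fun d => Subtype.ext ?_⟩
    rw [MulAut.conjNormal_apply]
    -- both have the same effect on the inner automorphisms
    have key : ∀ x, (α d : MulAut P) * MulAut.conj (b x) * (α d : MulAut P)⁻¹ =
        MulAut.conj (b ((d : MulAut P) x)) := fun x => by
      rw [← hb, ← hb, ← Subgroup.coe_inv, ← Subgroup.coe_mul, ← Subgroup.coe_mul, ← map_inv,
        ← map_mul, ← map_mul]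
      congr 2
      exact Subtype.ext (hconj d x)
    refine MulEquiv.ext fun w => hinj ?_
    obtain ⟨x, rfl⟩ : ∃ x, β x = w := β.surjective w
    rw [← hconj, ← hconj (α d : MulAut P)]
    show β * (d : MulAut P) * β⁻¹ * MulAut.conj (β x) * (β * (d : MulAut P) * β⁻¹)⁻¹ =
      (α d : MulAut P) * MulAut.conj (b x) * (α d : MulAut P)⁻¹
    rw [key, ← hconj β x,
      show MulAut.conj (b ((d : MulAut P) x)) = MulAut.conj (β ((d : MulAut P) x)) from rfl,
      ← hconj β, ← hconj (d : MulAut P)]
    group

variable {n : ℕ} {F : Type v} [Field F]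

/-- `Aut PGL_n(q) ≅ Aut PSL_n(q)`. -/
theorem mulAut_pgl_equiv [Fintype F] [DecidableEq F] (hn : 3 ≤ n) :
    Nonempty (MulAut (ProjectiveSpecialLinearGroup (Fin n) F) ≃*
      MulAut (GL (Fin n) F ⧸ Subgroup.center (GL (Fin n) F))) := by
  classical
  have hn2 : 2 ≤ n := by omega
  haveI : NeZero n := ⟨by omega⟩
  haveI hP : IsSimpleGroup (ProjectiveSpecialLinearGroup (Fin n) F) :=
    CfsgLib.Classical.isSimpleGroup_psl (by simpa using hn)
  set D : Subgroup (MulAut (ProjectiveSpecialLinearGroup (Fin n) F)) := (inndiagHom).range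
  have hker : (inndiagHom (n := n) (F := F)).ker = Subgroup.center (GL (Fin n) F) := by
    ext g
    rw [MonoidHom.mem_ker]
    show semiAut g (RingEquiv.refl F) = 1 ↔ _
    rw [← semiAut_one, semiAut_eq_iff hn2]
    simp
  have hinn : ∀ x, MulAut.conj x ∈ D := fun x => by
    obtain ⟨s, rfl⟩ := QuotientGroup.mk_surjective x
    exact ⟨SpecialLinearGroup.toGL s, (conj_eq_semiAut s).symm⟩
  -- the commutators of `D` are inner
  have hcomm : ∀ g h : GL (Fin n) F, ∃ y,
      inndiagHom (g * h * g⁻¹ * h⁻¹) = MulAut.conj (y : ProjectiveSpecialLinearGroup (Fin n) F) := by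
    intro g h
    obtain ⟨s, hs⟩ := exists_toGL_of_det_one (g * h * g⁻¹ * h⁻¹) (by
      simp only [map_mul, map_inv]
      rw [mul_comm (GeneralLinearGroup.det g)]
      group)
    exact ⟨QuotientGroup.mk s, by rw [conj_eq_semiAut, hs]; rfl⟩
  have hPcomm : commutator (ProjectiveSpecialLinearGroup (Fin n) F) = ⊤ := by
    have h : Group.IsPerfect (SpecialLinearGroup (Fin n) F) :=
      ⟨CfsgLib.Classical.commutator_sl_eq_top (by simpa using hn)⟩
    exact (inferInstance : Group.IsPerfect (ProjectiveSpecialLinearGroup (Fin n) F)).commutator_eq_top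
  have hcen : Subgroup.center (ProjectiveSpecialLinearGroup (Fin n) F) = ⊥ := by
    refine ((Subgroup.center (ProjectiveSpecialLinearGroup (Fin n) F)).normal_of_characteristic
      ).eq_bot_or_eq_top.resolve_right fun h => ?_
    have hc : commutator (ProjectiveSpecialLinearGroup (Fin n) F) = ⊥ := by
      rw [commutator_def, Subgroup.commutator_eq_bot_iff_le_centralizer, Subgroup.coe_top,
        Subgroup.centralizer_univ, h]
    rw [hPcomm] at hc
    exact top_ne_bot hc
  haveI : D.Normal := ⟨fun β hβ α => by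
    obtain ⟨g, rfl⟩ := hβ
    rcases mulAut_psl_cases hn2 α with ⟨h, σ, rfl⟩ | ⟨-, h, σ, rfl⟩
    · refine ⟨h * GeneralLinearGroup.map (σ : F →+* F) g * h⁻¹, ?_⟩
      show semiAut _ _ = semiAut h σ * semiAut g _ * (semiAut h σ)⁻¹
      rw [eq_mul_inv_iff_mul_eq, semiAut_mul, semiAut_mul]
      congr 1
      · simp only [show GeneralLinearGroup.map ((RingEquiv.refl F : F ≃+* F) : F →+* F) h = h from
          Units.ext (Matrix.ext fun i j => rfl)]
        group
    · refine ⟨h * GeneralLinearGroup.map (σ : F →+* F) (glInvTrans g) * h⁻¹, ?_⟩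
      show semiAut _ _ = semiAut h σ * itAut * semiAut g _ * (semiAut h σ * itAut)⁻¹
      rw [eq_mul_inv_iff_mul_eq, mul_assoc (semiAut h σ) itAut (semiAut g _), itAut_mul_semiAut,
        ← mul_assoc, ← mul_assoc, semiAut_mul, semiAut_mul]
      congr 2
      · simp only [show GeneralLinearGroup.map ((RingEquiv.refl F : F ≃+* F) : F →+* F) h = h from
          Units.ext (Matrix.ext fun i j => rfl)]
        group⟩
  have hchar : ∀ (α : MulAut ↥D) (x : ProjectiveSpecialLinearGroup (Fin n) F),
      ∃ y : ProjectiveSpecialLinearGroup (Fin n) F,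
      ((α ⟨MulAut.conj x, hinn x⟩ : ↥D) : MulAut (ProjectiveSpecialLinearGroup (Fin n) F)) =
        MulAut.conj y := by
    intro α x
    let j : ProjectiveSpecialLinearGroup (Fin n) F →* ↥D := MulAut.conj.codRestrict D hinn
    let ψ : ProjectiveSpecialLinearGroup (Fin n) F →* MulAut (ProjectiveSpecialLinearGroup (Fin n) F) :=
      D.subtype.comp (α.toMonoidHom.comp j)
    have hle : commutator (ProjectiveSpecialLinearGroup (Fin n) F) ≤
        (MulAut.conj : ProjectiveSpecialLinearGroup (Fin n) F →* _).range.comap ψ := by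
      rw [commutator_eq_closure, Subgroup.closure_le]
      rintro _ ⟨a, b, rfl⟩
      obtain ⟨g, hg⟩ := (α (j a)).2
      obtain ⟨h, hh⟩ := (α (j b)).2
      obtain ⟨y, hy⟩ := hcomm g h
      refine ⟨y, ?_⟩
      show MulAut.conj y = ψ _
      rw [← hy, map_commutatorElement, commutatorElement_def, map_mul, map_mul, map_mul, map_inv,
        map_inv, hg, hh]
      rfl
    obtain ⟨y, hy⟩ := hle (hPcomm ▸ mem_top x : x ∈ commutator _)
    exact ⟨y, hy.symm⟩
  obtain ⟨e⟩ := mulAut_normal_equiv hcen D hinn hchar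
  exact ⟨e.trans (MulAut.congr ((QuotientGroup.quotientMulEquivOfEq hker.symm).trans
    (QuotientGroup.quotientKerEquivRange inndiagHom)).symm)⟩

/-- A group of order `|Aut PSL_n(q)|` with a normal `PSL_n(q)` of trivial centraliser. -/
theorem equiv_mulAut_pgl [Fintype F] [DecidableEq F] (hn : 3 ≤ n) {G : Type u} [Group G] [Finite G]
    (L : Subgroup G) [L.Normal] (hcL : Subgroup.centralizer (L : Set G) = ⊥)
    (e : ↥L ≃* ProjectiveSpecialLinearGroup (Fin n) F)
    (hcard : Nat.card (MulAut (ProjectiveSpecialLinearGroup (Fin n) F)) ≤ Nat.card G) :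
    Nonempty (G ≃* MulAut (GL (Fin n) F ⧸ Subgroup.center (GL (Fin n) F))) := by
  obtain ⟨f⟩ := mulAut_pgl_equiv (F := F) hn
  haveI : Finite (MulAut (ProjectiveSpecialLinearGroup (Fin n) F)) :=
    Finite.of_injective (fun g : MulAut (ProjectiveSpecialLinearGroup (Fin n) F) => (g : _ → _))
      DFunLike.coe_injective
  let φ : G →* MulAut (ProjectiveSpecialLinearGroup (Fin n) F) :=
    (MulAut.congr e).toMonoidHom.comp MulAut.conjNormal
  have hinj : Function.Injective φ := by
    rw [← MonoidHom.ker_eq_bot_iff, eq_bot_iff, ← hcL]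
    intro g hg
    refine Subgroup.mem_centralizer_iff.2 fun l hl => ?_
    have h1 : MulAut.conjNormal g = (1 : MulAut ↥L) :=
      (MulAut.congr e).injective ((MonoidHom.mem_ker.1 hg).trans (map_one _).symm)
    have h2 := congrArg Subtype.val (DFunLike.congr_fun h1 ⟨l, hl⟩)
    rw [MulAut.conjNormal_apply, MulAut.one_apply, mul_inv_eq_iff_eq_mul] at h2
    exact h2.symm
  have hb := (Nat.bijective_iff_injective_and_card φ).2
    ⟨hinj, le_antisymm (Nat.card_le_card_of_injective φ hinj) hcard⟩
  exact ⟨(MulEquiv.ofBijective φ hb).trans f⟩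

end CfsgLib.InvChar.LThreeFourAut
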