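import Mathlib.GroupTheory.Sylow
import Mathlib.GroupTheory.Commutator.Basic
import Mathlib.GroupTheory.Solvable

/-!
Local data of an involution centraliser of order 768 with an extraspecial normal subgroup of order
32 of minus type and quotient the symmetric group of degree four (statement 3237): the interface
between the computations in the models and the fusion arguments.
-/

set_option autoImplicit false

namespace CfsgLib.InvChar.LThreeFourAut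

open Subgroup

universe u

variable {G : Type u} [Group G]

/-- The centraliser of an involution. -/
abbrev cz (z : G) : Subgroup G := centralizer ({z} : Set G)

/-- A group `T` of order 64 with two elementary abelian subgroups of order 16 meeting in `U`. -/
structure TwoSixteen (z : G) (U T A B : Subgroup G) : Prop where
  cardT : Nat.card T = 64
  hA : A ≤ T
  hB : B ≤ T
  eA : ∀ a ∈ A, a * a = 1
  eB : ∀ b ∈ B, b * b = 1
  cardA : Nat.card A = 16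
  cardB : Nat.card B = 16
  inter : A ⊓ B = U
  cardU : Nat.card U = 4
  zU : z ∈ U
  nA : ∀ t ∈ T, ∀ a ∈ A, t * a * t⁻¹ ∈ A
  nB : ∀ t ∈ T, ∀ b ∈ B, t * b * t⁻¹ ∈ B
  selfA : ∀ a ∈ A, a ∉ U → ∀ t ∈ T, t * a = a * t → t ∈ A
  selfB : ∀ b ∈ B, b ∉ U → ∀ t ∈ T, t * b = b * t → t ∈ B
  invol : ∀ t ∈ T, t * t = 1 → t ∈ A ∨ t ∈ B
  commU : ∀ u ∈ U, ∀ t ∈ T, t * u = u * t

/-- Facts on `C(z)` shared by all the models. -/
structure Base (z : G) (U : Subgroup G) : Prop where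
  hz : orderOf z = 2
  cardH : Nat.card (cz z) = 768
  solv : Group.IsSolvable ↥(cz z)
  sylow : ∃ P : Sylow 2 G, (P : Subgroup G) ≤ cz z
  root : ∀ k ∈ cz z, k * k = 1 → ∃ q ∈ cz z, q * k = k * q ∧ q * q = z
  hU : U ≤ cz z
  cardU : Nat.card U = 4
  eU : ∀ u ∈ U, u * u = 1
  zU : z ∈ U
  nU : ∀ h ∈ cz z, ∀ u ∈ U, h * u * h⁻¹ ∈ U
  conjU : ∀ u ∈ U, ∀ v ∈ U, u ≠ 1 → u ≠ z → v ≠ 1 → v ≠ z → ∃ h ∈ cz z, h * u * h⁻¹ = v
  centU : ∀ u ∈ U, u ≠ 1 → u ≠ z → Nat.card ↥(cz z ⊓ cz u) = 384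

/-- The two subgroups of order 16, swapped in `C(z)`, and the square involutions. -/
structure Sixteen (z : G) (U T A B : Subgroup G) : Prop extends TwoSixteen z U T A B where
  hT : T ≤ cz z
  nT : ∀ h ∈ cz z, ∀ t ∈ T, h * t * h⁻¹ ∈ T
  swap : ∃ h ∈ cz z, A.map (MulAut.conj h).toMonoidHom = B
  orbitA : ∀ a ∈ A, a ∉ U → ∀ b ∈ A, b ∉ U →
    ∃ h ∈ cz z, A.map (MulAut.conj h).toMonoidHom = A ∧ h * a * h⁻¹ = b
  centA : ∀ a ∈ A, a ∉ U → Nat.card ↥(cz z ⊓ cz a) = 32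
  sq : ∀ q ∈ cz z, q ^ 4 = 1 → q * q ∈ T

/-- The number of square roots of `v` in `C(z) ∩ C(u)`. -/
noncomputable def roots (z u v : G) : ℕ :=
  Nat.card {q : G // q ∈ cz z ∧ q * u = u * q ∧ q * q = v}

/-- The three models in which the involutions of `U` other than `z` are not fused to `z`. -/
structure Bad (z : G) (U : Subgroup G) : Prop extends Base z U where
  roots_ne : ∀ u ∈ U, u ≠ 1 → u ≠ z → roots z u z ≠ roots z u u
  squares : (∀ q ∈ cz z, q ^ 4 = 1 → q * q ∈ U) ∨ ∃ T A B : Subgroup G, Sixteen z U T A B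

/-- An involution whose centraliser in `C(z)` has a Sylow subgroup of order 32 with fourth
powers `1` and `z` and an element of order 8. -/
structure Eight (z : G) (r : G) : Prop where
  mem : r ∈ cz z
  sq : r * r = 1
  ne : r ≠ 1
  not_dvd : ¬ 64 ∣ Nat.card ↥(cz z ⊓ cz r)
  exists_sub : ∃ P : Subgroup G, P ≤ cz z ⊓ cz r ∧ Nat.card P = 32 ∧
    (∀ q ∈ P, q ^ 4 = 1 ∨ q ^ 4 = z) ∧ ∃ q ∈ P, q ^ 4 = z

/-- The local data in the remaining model. -/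
structure Loc (z : G) (U T A B D : Subgroup G) (a w x o : G) : Prop
    extends Base z U, Sixteen z U T A B where
  hTD : T ≤ D
  hD : D ≤ cz z
  cardD : Nat.card D = 192
  nD : ∀ h ∈ cz z, ∀ d ∈ D, h * d * h⁻¹ ∈ D
  derived : D ≤ ⁅cz z, cz z⁆
  normal : ∀ M : Subgroup G, U ≤ M → M ≤ D → (∀ h ∈ cz z, ∀ m ∈ M, h * m * h⁻¹ ∈ M) →
    M = U ∨ T ≤ M ∨ ((∃ q ∈ M, q * q = z) ∧ ∀ q ∈ M, q * q = 1 ∨ q * q = z)
  topT : ∀ M : Subgroup G, Nat.card M = 64 → M ≤ centralizer (U : Set G) →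
    (∀ c ∈ centralizer (U : Set G), ∀ m ∈ M, c * m * c⁻¹ ∈ M) → M = T
  ha : a ∈ D
  orderA : orderOf a = 3
  aU : ∀ v ∈ U, a * v = v * a
  afix : ∀ t ∈ T, a * t = t * a → t ∈ U
  cover : ∀ h ∈ cz z, h ∈ D ∨ h * w⁻¹ ∈ D ∨ h * x⁻¹ ∈ D ∨ h * o⁻¹ ∈ D
  hw : w ∈ cz z
  wsq : w * w = 1
  hwD : w ∉ D
  wcard : Nat.card ↥(cz z ⊓ cz w) = 16
  wroot : (∀ q ∈ cz z ⊓ cz w, q * q = 1 ∨ q * q = z) ∧ ∃ q ∈ cz z ⊓ cz w, q * q = z
  wclass : ∀ k ∈ cz z, k * k = 1 → k * w⁻¹ ∈ D → ∃ h ∈ cz z, h * w * h⁻¹ = k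
  eightX : Eight z x
  eightO : Eight z o
  hxD : x ∉ D
  hoD : o ∉ D
  big : ∀ k ∈ cz z, k * k = 1 → k * w⁻¹ ∉ D →
    ∃ Y : Subgroup G, Y ≤ cz z ⊓ cz k ∧ Nat.card Y = 32
  small : ∀ k ∈ D, k * k = 1 →
    ∃ Y : Subgroup G, Y ≤ cz z ⊓ cz k ∧ Nat.card Y = 32 ∧ ∀ q ∈ Y, q ^ 4 = 1

/-- An involution centraliser `D = T⟨a⟩` of order 192 in a simple group (to be excluded). -/
structure TThree (z : G) (U T A B D : Subgroup G) (a : G) : Prop
    extends TwoSixteen z U T A B where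
  hz : orderOf z = 2
  hD : cz z = D
  cardD : Nat.card D = 192
  odd_index : ¬ 2 ∣ T.index
  hTD : T ≤ D
  nT : ∀ d ∈ D, ∀ t ∈ T, d * t * d⁻¹ ∈ T
  ha : a ∈ D
  orderA : orderOf a = 3
  aU : ∀ v ∈ U, a * v = v * a
  afix : ∀ t ∈ T, a * t = t * a → t ∈ U
  conjU : ∀ v ∈ U, v ≠ 1 → IsConj z v

end CfsgLib.InvChar.LThreeFourAut
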