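import Cfsg.Agent.Lib.InvChar.LThreeFourAut.Defs
import Cfsg.Agent.Lib.InvChar.LThreeFourAut.ModelData

/-!
Computing in a centraliser of order 768 given by a table: bit masks for subgroups, generation and
derivation sequences, and their soundness.
-/

set_option autoImplicit false
set_option linter.unusedSectionVars false
set_option maxRecDepth 100000

namespace CfsgLib.InvChar.LThreeFourAut.Facts

open Subgroup Model
open scoped commutatorElement

universe u

/-- The generators used in the certificates. -/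
def gens3 : List ℕ := [2, 32, 64]

/-- The involutions and the identity. -/
def isInv (b : Fin 4) (k : ℕ) : Bool := Nat.beq (mulN b k k) 0

/-- Commuting in a table. -/
def commB (b : Fin 4) (i j : ℕ) : Bool := Nat.beq (mulN b i j) (mulN b j i)

/-- Powers in a table. -/
def powN (b : Fin 4) (i : ℕ) : ℕ → ℕ
  | 0 => 0
  | n + 1 => mulN b (powN b i n) i

/-- The elements of a mask. -/
def elems (m : ℕ) : List ℕ := (List.range 768).filter fun i => m.testBit i

/-- A mask is a subgroup with `n` elements. -/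
def subOK (b : Fin 4) (m n : ℕ) : Bool :=
  m.testBit 0 && Nat.beq (elems m).length n &&
    (elems m).all fun i => (elems m).all fun j => m.testBit (mulN b i j)

/-- The subgroup of a mask is normalised by the generators. -/
def normOK (b : Fin 4) (m : ℕ) : Bool :=
  gens3.all fun g => (elems m).all fun i => (elems m).any fun j =>
    Nat.beq (mulN b g i) (mulN b j g)

/-- A mask contains another. -/
def leB (m m' : ℕ) : Bool := (elems m).all fun i => m'.testBit i

/-- The step check of a generation sequence. -/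
def reachOK (b : Fin 4) : List (ℕ × ℕ × ℕ) → ℕ → Bool
  | [], seen => (List.range 768).all fun i => seen.testBit i
  | (v, p, g) :: l, seen =>
    seen.testBit p && Nat.blt p 768 && gens3.contains g && Nat.beq (mulN b p g) v &&
      reachOK b l (seen ||| 2 ^ v)

/-- The step check of a derivation: `0` is a base element, `1` a product, `2` a conjugate by a
generator, `3` a commutator. -/
def derOK (b : Fin 4) (base : ℕ → Bool) (com : Bool) (fin : ℕ → Bool) :
    List (ℕ × ℕ × ℕ × ℕ) → ℕ → Bool
  | [], seen => fin seen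
  | (v, k, x, y) :: l, seen =>
    Nat.blt v 768 &&
      (bif Nat.beq k 0 then base v
      else bif Nat.beq k 1 then seen.testBit x && seen.testBit y && Nat.blt x 768 && Nat.blt y 768 &&
        Nat.beq (mulN b x y) v
      else bif Nat.beq k 2 then seen.testBit x && Nat.blt x 768 && gens3.contains y &&
        Nat.beq (mulN b y x) (mulN b v y)
      else com && Nat.blt x 768 && Nat.blt y 768 &&
        Nat.beq (mulN b x y) (mulN b v (mulN b y x))) &&
      derOK b base com fin l (seen ||| 2 ^ v)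

theorem qTab_lt : ((List.range 24).all fun i => (List.range 24).all fun j =>
    Nat.blt (get qTab i j) 24) = true := by
  decide +kernel

theorem blt_lt {a b : ℕ} (h : Nat.blt a b = true) : a < b := Nat.le_of_ble_eq_true h

theorem emul_lt {a b : ℕ} (ha : a < 32) (hb : b < 32) : emul a b < 32 := by
  have h : a ^^^ b < 2 ^ 5 := Nat.xor_lt_two_pow ha hb
  refine Nat.xor_lt_two_pow (n := 5) h ?_
  rw [Nat.and_one_is_mod, Nat.shiftLeft_eq]
  omega

theorem mulN_lt (b : Fin 4) {i j : ℕ} (hi : i < 768) (hj : j < 768) : mulN b i j < 768 := by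
  have hq := blt_lt (List.all_eq_true.1 (List.all_eq_true.1 qTab_lt (i / 32)
    (List.mem_range.2 (by omega))) (j / 32) (List.mem_range.2 (by omega)))
  have he : ∀ t r c, get t r c < 32 := fun t r c => Nat.mod_lt _ (by norm_num)
  have := emul_lt (emul_lt (Nat.mod_lt i (by norm_num : 0 < 32)) (he actTab (i / 32) (j % 32)))
    (he (cocTab b) (i / 32) (j / 32))
  unfold mulN
  omega

theorem mulN_zero_ok : ((([0, 1, 2, 3] : List (Fin 4))).all fun b => Nat.beq (mulN b 0 0) 0) = true := by
  decide +kernel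

theorem mulN_zero (b : Fin 4) : mulN b 0 0 = 0 :=
  Nat.eq_of_beq_eq_true (List.all_eq_true.1 mulN_zero_ok b (by fin_cases b <;> simp))

theorem mem_elems {m i : ℕ} : i ∈ elems m ↔ i < 768 ∧ m.testBit i = true := by
  simp [elems]

theorem powN_lt (b : Fin 4) {i : ℕ} (hi : i < 768) : ∀ n, powN b i n < 768
  | 0 => by simp [powN]
  | n + 1 => mulN_lt b (powN_lt b hi n) hi

variable {G : Type u} [Group G]

/-- An element of a table is carried to an element of the centraliser. -/
structure Rep (z : G) (b : Fin 4) (f : ℕ → G) : Prop where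
  inj : ∀ i < 768, ∀ j < 768, f i = f j → i = j
  mul : ∀ i < 768, ∀ j < 768, f (mulN b i j) = f i * f j
  range : ∀ g : G, g ∈ cz z ↔ ∃ i < 768, f i = g
  hz : f 16 = z

namespace Rep

variable {z : G} {b : Fin 4} {f : ℕ → G} (R : Rep z b f)
include R

theorem one : f 0 = 1 := by
  have h := R.mul 0 (by norm_num) 0 (by norm_num)
  rw [mulN_zero] at h
  exact left_eq_mul.1 h

theorem mem {i : ℕ} (hi : i < 768) : f i ∈ cz z := (R.range _).2 ⟨i, hi, rfl⟩

theorem pow {i : ℕ} (hi : i < 768) : ∀ n, f (powN b i n) = f i ^ n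
  | 0 => by rw [powN, R.one, pow_zero]
  | n + 1 => by rw [powN, R.mul _ (powN_lt b hi n) _ hi, pow hi n, pow_succ]

theorem eq_iff {i j : ℕ} (hi : i < 768) (hj : j < 768) : f i = f j ↔ i = j :=
  ⟨R.inj i hi j hj, fun h => by rw [h]⟩

theorem one_iff {i : ℕ} (hi : i < 768) : f i = 1 ↔ i = 0 := by
  rw [← R.one, R.eq_iff hi (by norm_num)]

theorem z_iff {i : ℕ} (hi : i < 768) : f i = z ↔ i = 16 := by
  rw [← R.hz, R.eq_iff hi (by norm_num)]

theorem comm_iff {i j : ℕ} (hi : i < 768) (hj : j < 768) :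
    f i * f j = f j * f i ↔ commB b i j = true := by
  rw [← R.mul i hi j hj, ← R.mul j hj i hi, R.eq_iff (mulN_lt b hi hj) (mulN_lt b hj hi), commB]
  exact ⟨fun h => by rw [h, Nat.beq_refl], Nat.eq_of_beq_eq_true⟩

theorem conj_iff {h i j : ℕ} (hh : h < 768) (hi : i < 768) (hj : j < 768) :
    f h * f i * (f h)⁻¹ = f j ↔ mulN b h i = mulN b j h := by
  rw [mul_inv_eq_iff_eq_mul, ← R.mul h hh i hi, ← R.mul j hj h hh,
    R.eq_iff (mulN_lt b hh hi) (mulN_lt b hj hh)]

theorem sq_iff {i : ℕ} (hi : i < 768) : f i * f i = 1 ↔ isInv b i = true := by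
  rw [← R.mul i hi i hi, R.one_iff (mulN_lt b hi hi), isInv]
  exact ⟨fun h => by rw [h]; rfl, Nat.eq_of_beq_eq_true⟩

theorem mem_centralizer_iff {i k : ℕ} (hi : i < 768) (hk : k < 768) :
    f i ∈ cz (f k) ↔ commB b i k = true := by
  rw [← R.comm_iff hi hk]
  exact mem_centralizer_singleton_iff

theorem card_cz [Finite G] : Nat.card ↥(cz z) = 768 := by
  let φ : Fin 768 → cz z := fun i => ⟨f i, R.mem i.2⟩
  have hb : Function.Bijective φ :=
    ⟨fun i j h => Fin.ext (R.inj i i.2 j j.2 (congrArg Subtype.val h)), fun g => by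
      obtain ⟨i, hi, e⟩ := (R.range g.1).1 g.2
      exact ⟨⟨i, hi⟩, Subtype.ext e⟩⟩
  rw [← Nat.card_eq_of_bijective φ hb, Nat.card_fin]

theorem card_inter [Finite G] {k : ℕ} (hk : k < 768) :
    Nat.card ↥(cz z ⊓ cz (f k)) = ((List.range 768).filter fun i => commB b i k).length := by
  classical
  have e : ((List.range 768).filter fun i => commB b i k).length =
      ((Finset.range 768).filter fun i => commB b i k = true).card := by
    rw [Finset.card_def, Finset.filter_val, Finset.range_val, Multiset.range, Multiset.filter_coe,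
      Multiset.coe_card]
    congr 1
    exact List.filter_congr fun i _ => by simp
  rw [e, ← Nat.card_eq_finsetCard]
  have hf : ∀ i : {i // i ∈ ((Finset.range 768).filter fun i => commB b i k = true)},
      f i.1 ∈ cz z ⊓ cz (f k) := fun i => by
    obtain ⟨hi, hc⟩ := Finset.mem_filter.1 i.2
    exact ⟨R.mem (Finset.mem_range.1 hi), (R.mem_centralizer_iff (Finset.mem_range.1 hi) hk).2 hc⟩
  refine (Nat.card_congr (Equiv.ofBijective (fun i => (⟨f i.1, hf i⟩ : ↥(cz z ⊓ cz (f k))))
    ⟨?_, ?_⟩)).symm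
  · intro i j h
    exact Subtype.ext (R.inj _ (Finset.mem_range.1 (Finset.mem_filter.1 i.2).1) _
      (Finset.mem_range.1 (Finset.mem_filter.1 j.2).1) (congrArg Subtype.val h))
  · rintro ⟨g, hg, hg'⟩
    obtain ⟨i, hi, rfl⟩ := (R.range g).1 hg
    exact ⟨⟨i, Finset.mem_filter.2 ⟨Finset.mem_range.2 hi, (R.mem_centralizer_iff hi hk).1 hg'⟩⟩, rfl⟩

theorem roots_eq [Finite G] {u v : ℕ} (hu : u < 768) (hv : v < 768) : roots z (f u) (f v) =
    ((List.range 768).filter fun q => commB b q u && Nat.beq (mulN b q q) v).length := by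
  classical
  have e : ((List.range 768).filter fun q => commB b q u && Nat.beq (mulN b q q) v).length =
      ((Finset.range 768).filter fun q => commB b q u = true ∧ mulN b q q = v).card := by
    rw [Finset.card_def, Finset.filter_val, Finset.range_val, Multiset.range, Multiset.filter_coe,
      Multiset.coe_card]
    congr 1
    refine List.filter_congr fun i _ => ?_
    rw [Bool.eq_iff_iff]
    simp
  rw [e, roots, ← Nat.card_eq_finsetCard]
  have hf : ∀ i : {i // i ∈ ((Finset.range 768).filter fun q => commB b q u = true ∧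
      mulN b q q = v)}, f i.1 ∈ cz z ∧ f i.1 * f u = f u * f i.1 ∧ f i.1 * f i.1 = f v := fun i => by
    obtain ⟨hi, hc, hs⟩ := Finset.mem_filter.1 i.2
    exact ⟨R.mem (Finset.mem_range.1 hi), (R.comm_iff (Finset.mem_range.1 hi) hu).2 hc,
      by rw [← R.mul _ (Finset.mem_range.1 hi) _ (Finset.mem_range.1 hi), hs]⟩
  refine (Nat.card_congr (Equiv.ofBijective
    (fun i => (⟨f i.1, hf i⟩ : {q : G // q ∈ cz z ∧ q * f u = f u * q ∧ q * q = f v}))
    ⟨?_, ?_⟩)).symm
  · intro i j h
    exact Subtype.ext (R.inj _ (Finset.mem_range.1 (Finset.mem_filter.1 i.2).1) _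
      (Finset.mem_range.1 (Finset.mem_filter.1 j.2).1) (congrArg Subtype.val h))
  · rintro ⟨g, hg, hc, hs⟩
    obtain ⟨i, hi, rfl⟩ := (R.range g).1 hg
    refine ⟨⟨i, Finset.mem_filter.2 ⟨Finset.mem_range.2 hi, (R.comm_iff hi hu).1 hc, ?_⟩⟩, rfl⟩
    exact R.inj _ (mulN_lt b hi hi) _ hv (by rw [R.mul i hi i hi]; exact hs)

/-- A predicate closed under products which holds at the generators holds everywhere. -/
theorem reach {L : List (ℕ × ℕ × ℕ)} (hL : reachOK b L (2 ^ 0) = true) (Q : G → Prop) (h1 : Q 1)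
    (hg : ∀ g ∈ gens3, Q (f g)) (hm : ∀ x y : G, Q x → Q y → Q (x * y)) {g : G}
    (hgz : g ∈ cz z) : Q g := by
  obtain ⟨i, hi, rfl⟩ := (R.range g).1 hgz
  have key : ∀ (L : List (ℕ × ℕ × ℕ)) (seen : ℕ), reachOK b L seen = true →
      (∀ j < 768, seen.testBit j = true → Q (f j)) → ∀ j < 768, Q (f j) := by
    intro L
    induction L with
    | nil => exact fun seen h hs j hj => hs j hj (List.all_eq_true.1 h j (List.mem_range.2 hj))
    | cons e L ih =>
      obtain ⟨v, p, g⟩ := e
      intro seen h hs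
      simp only [reachOK, Bool.and_eq_true, List.contains_iff_mem] at h
      obtain ⟨⟨⟨⟨h1', h2⟩, h3⟩, h4⟩, h5⟩ := h
      refine ih _ h5 fun j hj hb => ?_
      rw [Nat.testBit_or, Bool.or_eq_true, Nat.testBit_two_pow, decide_eq_true_iff] at hb
      rcases hb with hb | rfl
      · exact hs j hj hb
      · have hg' : g < 768 := by
          simp only [gens3, List.mem_cons, List.not_mem_nil, or_false] at h3
          omega
        rw [← Nat.eq_of_beq_eq_true h4, R.mul p (blt_lt h2) g hg']
        exact hm _ _ (hs p (blt_lt h2) h1') (hg g h3)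
  refine key L _ hL (fun j hj hb => ?_) i hi
  rw [Nat.testBit_two_pow, decide_eq_true_iff] at hb
  rw [← hb, R.one]
  exact h1

/-- Soundness of a derivation. -/
theorem derive {base : ℕ → Bool} {com : Bool} {fin : ℕ → Bool} {L : List (ℕ × ℕ × ℕ × ℕ)}
    (hL : derOK b base com fin L 0 = true) (M : Subgroup G)
    (hb : ∀ v < 768, base v = true → f v ∈ M)
    (hn : ∀ g ∈ gens3, ∀ m ∈ M, f g * m * (f g)⁻¹ ∈ M)
    (hc : com = true → ∀ x < 768, ∀ y < 768, ⁅f x, f y⁆ ∈ M) :
    ∃ s, fin s = true ∧ ∀ j < 768, s.testBit j = true → f j ∈ M := by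
  suffices H : ∀ (L : List (ℕ × ℕ × ℕ × ℕ)) (seen : ℕ), derOK b base com fin L seen = true →
      (∀ j < 768, seen.testBit j = true → f j ∈ M) →
      ∃ s, fin s = true ∧ ∀ j < 768, s.testBit j = true → f j ∈ M from
    H L 0 hL (by simp)
  intro L
  induction L with
  | nil => exact fun seen h hs => ⟨seen, h, hs⟩
  | cons e L ih =>
    obtain ⟨v, k, x, y⟩ := e
    intro seen h hs
    simp only [derOK, Bool.and_eq_true] at h
    obtain ⟨⟨hv, h1⟩, h2⟩ := h
    have hv' := blt_lt hv
    refine ih _ h2 fun j hj hb' => ?_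
    rw [Nat.testBit_or, Bool.or_eq_true, Nat.testBit_two_pow, decide_eq_true_iff] at hb'
    rcases hb' with hb' | rfl
    · exact hs j hj hb'
    cases k0 : Nat.beq k 0
    · rw [k0, cond_false] at h1
      cases k1 : Nat.beq k 1
      · rw [k1, cond_false] at h1
        cases k2 : Nat.beq k 2
        · rw [k2, cond_false, Bool.and_eq_true, Bool.and_eq_true, Bool.and_eq_true] at h1
          obtain ⟨⟨⟨a, hx⟩, hy⟩, e⟩ := h1
          have hx' := blt_lt hx
          have hy' := blt_lt hy
          have e' : f x * f y = f v * (f y * f x) := by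
            rw [← R.mul x hx' y hy', ← R.mul y hy' x hx', ← R.mul v hv' _ (mulN_lt b hy' hx'),
              Nat.eq_of_beq_eq_true e]
          have : f v = ⁅f x, f y⁆ := by
            rw [commutatorElement_def, e']
            group
          rw [this]
          exact hc a x hx' y hy'
        · rw [k2, cond_true, Bool.and_eq_true, Bool.and_eq_true, Bool.and_eq_true] at h1
          obtain ⟨⟨⟨a, hx⟩, hy⟩, e⟩ := h1
          rw [List.contains_iff_mem] at hy
          have hy' : y < 768 := by
            have hy2 := hy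
            simp only [gens3, List.mem_cons, List.not_mem_nil, or_false] at hy2
            omega
          rw [← (R.conj_iff hy' (blt_lt hx) hv').2 (Nat.eq_of_beq_eq_true e)]
          exact hn y hy _ (hs x (blt_lt hx) a)
      · rw [k1, cond_true, Bool.and_eq_true, Bool.and_eq_true, Bool.and_eq_true,
          Bool.and_eq_true] at h1
        obtain ⟨⟨⟨⟨a, a'⟩, hx⟩, hy⟩, e⟩ := h1
        rw [← Nat.eq_of_beq_eq_true e, R.mul x (blt_lt hx) y (blt_lt hy)]
        exact mul_mem (hs x (blt_lt hx) a) (hs y (blt_lt hy) a')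
    · rw [k0, cond_true] at h1
      exact hb v hv' h1

variable [Finite G]

/-- The subgroup of a mask. -/
theorem exists_sub {m n : ℕ} (h : subOK b m n = true) :
    ∃ H : Subgroup G, Nat.card H = n ∧ H ≤ cz z ∧
      (∀ g, g ∈ H ↔ ∃ i ∈ elems m, f i = g) := by
  simp only [subOK, Bool.and_eq_true, List.all_eq_true] at h
  obtain ⟨⟨h0, hn⟩, hcl⟩ := h
  let S : Submonoid G :=
    { carrier := {g | ∃ i ∈ elems m, f i = g}
      one_mem' := ⟨0, mem_elems.2 ⟨by norm_num, h0⟩, R.one⟩
      mul_mem' := by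
        rintro _ _ ⟨i, hi, rfl⟩ ⟨j, hj, rfl⟩
        exact ⟨mulN b i j,
          mem_elems.2 ⟨mulN_lt b (mem_elems.1 hi).1 (mem_elems.1 hj).1, hcl i hi j hj⟩,
          R.mul i (mem_elems.1 hi).1 j (mem_elems.1 hj).1⟩ }
  let H : Subgroup G :=
    { S with
      inv_mem' := by
        intro g hg
        have hp : g ^ (orderOf g - 1) ∈ S := pow_mem hg _
        have e : g ^ (orderOf g - 1) = g⁻¹ := by
          refine (inv_eq_of_mul_eq_one_right ?_).symm
          rw [← pow_succ', Nat.sub_add_cancel (orderOf_pos g), pow_orderOf_eq_one]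
        rw [e] at hp
        exact hp }
  refine ⟨H, ?_, ?_, fun g => Iff.rfl⟩
  · rw [← Nat.eq_of_beq_eq_true hn]
    have e : Function.Bijective (fun i : {i // i ∈ (elems m).toFinset} =>
        (⟨f i.1, i.1, List.mem_toFinset.1 i.2, rfl⟩ : H)) :=
      ⟨fun i j e => Subtype.ext (R.inj _ (mem_elems.1 (List.mem_toFinset.1 i.2)).1 _
        (mem_elems.1 (List.mem_toFinset.1 j.2)).1 (congrArg Subtype.val e)), fun g => by
        obtain ⟨i, hi, e⟩ := g.2
        exact ⟨⟨i, List.mem_toFinset.2 hi⟩, Subtype.ext e⟩⟩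
    rw [← Nat.card_eq_of_bijective _ e, Nat.card_eq_finsetCard]
    exact List.toFinset_card_of_nodup (List.nodup_range.filter _)
  · rintro g ⟨i, hi, rfl⟩
    exact R.mem (mem_elems.1 hi).1

/-- A subgroup normalised by the generators is normalised by the centraliser. -/
theorem norm_all {L : List (ℕ × ℕ × ℕ)} (hL : reachOK b L (2 ^ 0) = true) {m : ℕ} {H : Subgroup G}
    (hH : ∀ g, g ∈ H ↔ ∃ i ∈ elems m, f i = g) (hn : normOK b m = true) :
    ∀ h ∈ cz z, ∀ x ∈ H, h * x * h⁻¹ ∈ H := by
  intro h hh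
  refine R.reach hL (fun g => ∀ x ∈ H, g * x * g⁻¹ ∈ H) (by simp) ?_ ?_ hh
  · intro g hg x hx
    obtain ⟨i, hi, rfl⟩ := (hH x).1 hx
    simp only [normOK, List.all_eq_true, List.any_eq_true] at hn
    obtain ⟨j, hj, e⟩ := hn g hg i hi
    have hg' : g < 768 := by
      simp only [gens3, List.mem_cons, List.not_mem_nil, or_false] at hg
      omega
    exact (hH _).2 ⟨j, hj,
      ((R.conj_iff hg' (mem_elems.1 hi).1 (mem_elems.1 hj).1).2 (Nat.eq_of_beq_eq_true e)).symm⟩
  · intro a c ha hc x hx
    rw [show a * c * x * (a * c)⁻¹ = a * (c * x * c⁻¹) * a⁻¹ by group]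
    exact ha _ (hc x hx)

end Rep

end CfsgLib.InvChar.LThreeFourAut.Facts
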