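import Cfsg.Agent.Lib.InvChar.LThreeFourAut.FactsBase
import Cfsg.Agent.Lib.InvChar.LThreeFourAut.FactsData

/-!
The kernel checks shared by the four models and those of the models in which the involutions of `U`
are not fused.
-/

set_option autoImplicit false
set_option maxRecDepth 100000
set_option Elab.async false

namespace CfsgLib.InvChar.LThreeFourAut.Facts

open Model

/-- The generation sequence of a model. -/
def reachL (b : Fin 4) : List (ℕ × ℕ × ℕ) := [reach0, reach1, reach2, reach3].getD b.val []

/-- The subgroup checks of a model. -/
def subsOK (b : Fin 4) : Bool :=
  reachOK b (reachL b) (2 ^ 0) && subOK b uM 4 && normOK b uM && subOK b tM 64 && normOK b tM &&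
    subOK b dM 192 && normOK b dM && leB uM tM && leB tM dM &&
    gens3.all fun x => gens3.all fun y => (elems dM).any fun d =>
      Nat.beq (mulN b x y) (mulN b d (mulN b y x))

/-- The Sylow check of a model: only the central involution is a central involution. -/
def sylOK (b : Fin 4) : Bool :=
  subOK b sM 256 && (elems sM).all fun k =>
    !isInv b k || Nat.beq k 0 || Nat.beq k 16 || (elems sM).any fun s => !commB b k s

/-- The facts on square roots and on `U`. -/
def baseOK (b : Fin 4) : Bool :=
  ((List.range 768).all fun k => !isInv b k ||
      (List.range 768).any fun q => commB b q k && Nat.beq (mulN b q q) 16) &&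
    uM.testBit 16 && ((elems uM).all fun u => isInv b u &&
      (Nat.beq u 0 || Nat.beq u 16 ||
        (Nat.beq ((List.range 768).filter fun i => commB b i u).length 384 &&
          (elems uM).all fun v => Nat.beq v 0 || Nat.beq v 16 ||
            (List.range 768).any fun h => Nat.beq (mulN b h u) (mulN b v h))))

/-- The counts of square roots differ. -/
def rootsOK (b : Fin 4) : Bool :=
  (elems uM).all fun u => Nat.beq u 0 || Nat.beq u 16 ||
    !Nat.beq ((List.range 768).filter fun q => commB b q u && Nat.beq (mulN b q q) 16).length
      ((List.range 768).filter fun q => commB b q u && Nat.beq (mulN b q q) u).length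

/-- Squares of elements of order at most four lie in a subgroup. -/
def sqOK (b : Fin 4) (m : ℕ) : Bool :=
  (List.range 768).all fun q => !Nat.beq (powN b q 4) 0 || m.testBit (mulN b q q)

/-- An element normalises a subgroup. -/
def normBy (b : Fin 4) (m h : ℕ) : Bool :=
  (elems m).all fun i => (elems m).any fun j => Nat.beq (mulN b h i) (mulN b j h)

/-- An element carries one subgroup into another. -/
def carries (b : Fin 4) (m m' h : ℕ) : Bool :=
  (elems m).all fun i => (elems m').any fun j => Nat.beq (mulN b h i) (mulN b j h)

/-- The two subgroups of order sixteen. -/
def sixteenOK (b : Fin 4) : Bool :=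
  subOK b aM 16 && subOK b bM 16 && leB aM tM && leB bM tM && leB uM aM && leB uM bM &&
    ((elems aM).all fun i => isInv b i && (!bM.testBit i || uM.testBit i)) &&
    ((elems bM).all fun i => isInv b i) &&
    ((elems tM).all fun t => normBy b aM t && normBy b bM t &&
      (!isInv b t || aM.testBit t || bM.testBit t) &&
      ((elems uM).all fun u => commB b t u) &&
      ((elems aM).all fun a => uM.testBit a || aM.testBit t || !commB b t a) &&
      ((elems bM).all fun a => uM.testBit a || bM.testBit t || !commB b t a))

/-- The action of the centraliser on the two subgroups of order sixteen. -/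
def swapOK (b : Fin 4) : Bool :=
  ((List.range 768).any fun h => carries b aM bM h) &&
    aM.testBit 320 && !uM.testBit 320 &&
    ((elems aM).all fun a => uM.testBit a ||
      (Nat.beq ((List.range 768).filter fun i => commB b i a).length 32 &&
        (List.range 768).any fun h => Nat.beq (mulN b h 320) (mulN b a h) && normBy b aM h))

theorem subs0 : subsOK 0 = true := by decide +kernel

theorem subs1 : subsOK 1 = true := by decide +kernel

theorem subs2 : subsOK 2 = true := by decide +kernel

theorem subs3 : subsOK 3 = true := by decide +kernel

theorem syl0 : sylOK 0 = true := by decide +kernel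

theorem syl1 : sylOK 1 = true := by decide +kernel

theorem syl2 : sylOK 2 = true := by decide +kernel

theorem syl3 : sylOK 3 = true := by decide +kernel

theorem base0 : baseOK 0 = true := by decide +kernel

theorem base1 : baseOK 1 = true := by decide +kernel

theorem base2 : baseOK 2 = true := by decide +kernel

theorem base3 : baseOK 3 = true := by decide +kernel

theorem roots1 : (rootsOK 1 && sqOK 1 uM) = true := by decide +kernel

theorem roots2 : (rootsOK 2 && sqOK 2 tM && sixteenOK 2 && swapOK 2) = true := by decide +kernel

theorem roots3 : (rootsOK 3 && sqOK 3 uM) = true := by decide +kernel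

theorem sixteen0 : (sqOK 0 tM && sixteenOK 0 && swapOK 0) = true := by decide +kernel

end CfsgLib.InvChar.LThreeFourAut.Facts
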