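import Cfsg.Agent.Lib.InvChar.LThreeFourAut.FactsChecks

/-!
The kernel checks of the model of the automorphism group of the linear group.
-/

set_option autoImplicit false
set_option maxRecDepth 100000
set_option Elab.async false

namespace CfsgLib.InvChar.LThreeFourAut.Facts

open Model

/-- The step check of the classes of `D` outside `U`. -/
def classOK : List (ℕ × ℕ × ℕ) → ℕ → Bool
  | [], seen => (elems dM).all fun d => uM.testBit d || seen.testBit d
  | (v, p, g) :: l, seen =>
    Nat.blt v 768 && dM.testBit v &&
      (bif Nat.beq g 0 then [4, 64, 65, 68, 320, 328].contains v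
      else seen.testBit p && Nat.blt p 768 && gens3.contains g &&
        Nat.beq (mulN 0 g p) (mulN 0 v g)) &&
      classOK l (seen ||| 2 ^ v)

/-- The base of a derivation in a normal subgroup containing `U` and `r`. -/
def baseUr (r v : ℕ) : Bool := uM.testBit v || Nat.beq v r

/-- The classes whose normal closure contains `T`. -/
def bigRep : List (List (ℕ × ℕ × ℕ × ℕ) × ℕ) :=
  [(normSeq64, 64), (normSeq65, 65), (normSeq68, 68), (normSeq320, 320), (normSeq328, 328)]

theorem class_ok : classOK classSeq 0 = true := by decide +kernel

theorem norm_big : (bigRep.all fun q =>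
    derOK 0 (baseUr q.2) false (fun s => (elems tM).all fun i => s.testBit i) q.1 0) = true := by
  decide +kernel

theorem norm_four :
    (derOK 0 (baseUr 4) false (fun s => s.testBit rootFour) normSeq4 0 &&
      Nat.blt rootFour 768 && Nat.beq (mulN 0 rootFour rootFour) 16) = true := by
  decide +kernel

theorem class_four : (classSeq.all fun e => !Nat.beq e.2.2 0 ||
    Nat.beq e.1 4 || bigRep.any fun q => Nat.beq q.2 e.1) = true := by
  decide +kernel

theorem four_sq : (isInv 0 4 || Nat.beq (mulN 0 4 4) 16) = true := by decide +kernel

theorem derived_ok : derOK 0 (fun v => Nat.beq v 0) true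
    (fun s => (elems dM).all fun i => s.testBit i) derivedSeq 0 = true := by
  decide +kernel

/-- An element outside `T` centralising `U` has a conjugate there with a product not of two-power
order. -/
def topOK : Bool :=
  let cu := (List.range 768).filter fun i => (elems uM).all fun u => commB 0 i u
  cu.all fun q => tM.testBit q || !Nat.beq (powN 0 q 64) 0 ||
    cu.any fun c => cu.any fun x =>
      Nat.beq (mulN 0 c q) (mulN 0 x c) && !Nat.beq (powN 0 (mulN 0 q x) 64) 0

theorem top_ok : topOK = true := by decide +kernel

theorem elts_ok : (dM.testBit aElt && !Nat.beq aElt 0 && Nat.beq (powN 0 aElt 3) 0 &&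
    ((elems uM).all fun u => commB 0 aElt u) &&
    ((elems tM).all fun t => !commB 0 aElt t || uM.testBit t) &&
    isInv 0 wElt && !dM.testBit wElt && !dM.testBit xElt && !dM.testBit oElt &&
    Nat.beq ((List.range 768).filter fun i => commB 0 i wElt).length 16 &&
    ((List.range 768).all fun q => !commB 0 q wElt ||
      Nat.beq (mulN 0 q q) 0 || Nat.beq (mulN 0 q q) 16) &&
    ((List.range 768).any fun q => commB 0 q wElt && Nat.beq (mulN 0 q q) 16)) = true := by
  decide +kernel

theorem cover_ok : ((List.range 768).all fun h => dM.testBit h ||
    (elems dM).any fun d => Nat.beq (mulN 0 d wElt) h || Nat.beq (mulN 0 d xElt) h ||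
      Nat.beq (mulN 0 d oElt) h) = true := by
  decide +kernel

theorem wclass_ok : ((elems dM).all fun d => !isInv 0 (mulN 0 d wElt) ||
    (List.range 768).any fun h =>
      Nat.beq (mulN 0 h wElt) (mulN 0 (mulN 0 d wElt) h)) = true := by
  decide +kernel

/-- A group of order 32 centralising an involution. -/
def cent32 (k m : ℕ) : Bool := subOK 0 m 32 && (elems m).all fun q => commB 0 q k

/-- The check of an element whose centraliser has an element of order eight. -/
def eightOK (k m : ℕ) : Bool :=
  isInv 0 k && !Nat.beq k 0 && cent32 k m &&
    Nat.ble 1 (((List.range 768).filter fun i => commB 0 i k).length % 64) &&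
    ((elems m).all fun q => Nat.beq (powN 0 q 4) 0 || Nat.beq (powN 0 q 4) 16) &&
    (elems m).any fun q => Nat.beq (powN 0 q 4) 16

theorem eight_ok : (eightOK xElt xP && eightOK oElt oP) = true := by decide +kernel

theorem big_ok : ((List.range 768).all fun k => !isInv 0 k ||
    ((elems dM).any fun d => Nat.beq (mulN 0 d wElt) k) ||
    bigCert.any fun q => Nat.beq q.1 k && cent32 k q.2) = true := by
  decide +kernel

theorem small_ok : ((elems dM).all fun k => !isInv 0 k ||
    smallCert.any fun q => Nat.beq q.1 k && cent32 k q.2 &&
      (elems q.2).all fun i => Nat.beq (powN 0 i 4) 0) = true := by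
  decide +kernel

end CfsgLib.InvChar.LThreeFourAut.Facts
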