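import Cfsg.Agent.Lib.InvChar.LThreeFourAut.Defs
import Cfsg.Agent.Lib.Invol.BrauerSuzuki
import Cfsg.Prelude.Def_TwoFusion

/-!
Fusion of the involution `z` in its centraliser (statement 3237): the conjugates lie in the
subgroup of order 64, and either `z` is isolated or the four-group `U` is fused.
-/

set_option autoImplicit false

namespace CfsgLib.InvChar.LThreeFourAut

open Subgroup

universe u

variable {G : Type u} [Group G]

theorem mem_cz {z x : G} : x ∈ cz z ↔ x * z = z * x := mem_centralizer_singleton_iff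

theorem conj_mem_cz {k x : G} (g : G) (hx : x ∈ cz k) : g * x * g⁻¹ ∈ cz (g * k * g⁻¹) := by
  rw [mem_cz] at hx ⊢
  calc g * x * g⁻¹ * (g * k * g⁻¹) = g * (x * k) * g⁻¹ := by group
    _ = g * (k * x) * g⁻¹ := by rw [hx]
    _ = g * k * g⁻¹ * (g * x * g⁻¹) := by group

theorem mem_map_conj' {H : Subgroup G} {g x : G} :
    x ∈ H.map (MulAut.conj g).toMonoidHom ↔ g⁻¹ * x * g ∈ H := by
  constructor
  · rintro ⟨y, hy, rfl⟩
    simpa [mul_assoc] using hy
  · exact fun h => ⟨g⁻¹ * x * g, h, by simp [mul_assoc]⟩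

theorem card_map_conj' (H : Subgroup G) (g : G) :
    Nat.card (H.map (MulAut.conj g).toMonoidHom) = Nat.card H :=
  Subgroup.card_map_of_injective (MulAut.conj g).injective

theorem isConj_conj_iff {z x : G} (g : G) : IsConj z (g * x * g⁻¹) ↔ IsConj z x :=
  ⟨fun h => h.trans (isConj_iff.2 ⟨g⁻¹, by group⟩), fun h => h.trans (isConj_iff.2 ⟨g, rfl⟩)⟩

/-- Conjugation of the centraliser of two elements. -/
theorem card_cz_inf (g a b : G) :
    Nat.card ↥(cz (g * a * g⁻¹) ⊓ cz (g * b * g⁻¹)) = Nat.card ↥(cz a ⊓ cz b) := by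
  rw [← card_map_conj' (cz a ⊓ cz b) g]
  congr 2
  ext x
  rw [mem_map_conj', mem_inf, mem_inf]
  constructor
  · rintro ⟨h1, h2⟩
    have e : ∀ y : G, g⁻¹ * (g * y * g⁻¹) * g⁻¹⁻¹ = y := fun y => by group
    refine ⟨?_, ?_⟩
    · have := conj_mem_cz g⁻¹ h1
      rwa [e, inv_inv] at this
    · have := conj_mem_cz g⁻¹ h2
      rwa [e, inv_inv] at this
  · rintro ⟨h1, h2⟩
    have e : g * (g⁻¹ * x * g) * g⁻¹ = x := by group
    exact ⟨e ▸ conj_mem_cz g h1, e ▸ conj_mem_cz g h2⟩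

/-- The elements of a four-group. -/
theorem four_cases {U : Subgroup G} (hU : Nat.card U = 4) {z u x : G} (hz : z ∈ U)
    (hu : u ∈ U) (hz1 : z ≠ 1) (hu1 : u ≠ 1) (huz : u ≠ z) (he : ∀ y ∈ U, y * y = 1)
    (hx : x ∈ U) : x = 1 ∨ x = z ∨ x = u ∨ x = z * u := by
  classical
  haveI : Finite U := Nat.finite_of_card_ne_zero (by omega)
  have hzu1 : z * u ≠ 1 := fun e => huz (mul_left_cancel (e.trans (he z hz).symm))
  have hzu : z * u ≠ u := fun e => hz1 (mul_eq_right.1 e)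
  have hzu' : z * u ≠ z := fun e => hu1 (mul_eq_left.1 e)
  have h4 : ({1, z, u, z * u} : Set G).ncard = 4 := by
    rw [Set.ncard_insert_of_notMem (by simp [Ne.symm hz1, Ne.symm hu1, Ne.symm hzu1]),
      Set.ncard_insert_of_notMem (by simp [Ne.symm huz, Ne.symm hzu']),
      Set.ncard_pair (Ne.symm hzu)]
  have hsub : ({1, z, u, z * u} : Set G) ⊆ (U : Set G) := by
    rintro y (rfl | rfl | rfl | rfl)
    exacts [one_mem U, hz, hu, mul_mem hz hu]
  have heq := Set.eq_of_subset_of_ncard_le hsub (by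
    rw [h4, ← Nat.card_coe_set_eq, SetLike.coe_sort_coe, hU]) (Set.toFinite (U : Set G))
  have hx' : x ∈ ({1, z, u, z * u} : Set G) := heq ▸ hx
  simpa using hx'

/-- If the elements of `A ∖ U` are conjugates of `z` and `z` is fused to no other element of `U`,
the normaliser of `A` centralises `z`. -/
theorem conj_eq_of_normalizes {z g : G} {U A : Subgroup G} (hU : Nat.card U = 4) (hUA : U ≤ A)
    (eU : ∀ y ∈ U, y * y = 1) (hz : z ∈ U) (hz1 : z ≠ 1)
    (hUc : ∀ u ∈ U, IsConj z u → u = z) (hA : ∀ a ∈ A, a ∉ U → IsConj z a)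
    (hg : ∀ a ∈ A, g * a * g⁻¹ ∈ A) : g * z * g⁻¹ = z := by
  obtain ⟨u, hu, hu1, huz⟩ : ∃ u ∈ U, u ≠ 1 ∧ u ≠ z := by
    classical
    haveI : Finite U := Nat.finite_of_card_ne_zero (by omega)
    by_contra h
    push Not at h
    have hsub : (U : Set G) ⊆ {1, z} := fun x hx => by
      by_cases h1 : x = 1
      · exact Or.inl h1
      · exact Or.inr (h x hx h1)
    have h2 := Set.ncard_le_ncard hsub (Set.toFinite _)
    rw [← Nat.card_coe_set_eq, SetLike.coe_sort_coe, hU, Set.ncard_pair (Ne.symm hz1)] at h2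
    omega
  have key : ∀ v ∈ U, v ≠ 1 → v ≠ z → g * v * g⁻¹ = u ∨ g * v * g⁻¹ = z * u := by
    intro v hv hv1 hvz
    have hnc : ¬ IsConj z v := fun h => hvz (hUc v hv h)
    have hvU : g * v * g⁻¹ ∈ U := by
      by_contra h
      exact hnc ((isConj_conj_iff g).1 (hA _ (hg v (hUA hv)) h))
    rcases four_cases hU hz hu hz1 hu1 huz eU hvU with h | h | h | h
    · exact absurd (conj_eq_one_iff.1 h) hv1
    · exact absurd ((isConj_conj_iff g).1 (h ▸ IsConj.refl z)) hnc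
    · exact Or.inl h
    · exact Or.inr h
  have hzu : z * u ≠ 1 := fun e => huz (mul_left_cancel (e.trans (eU z hz).symm))
  have hzu' : z * u ≠ z := fun e => hu1 (mul_eq_left.1 e)
  have hsplit : g * z * g⁻¹ = g * (z * u) * g⁻¹ * (g * u * g⁻¹) := by
    calc g * z * g⁻¹ = g * (z * (u * u)) * g⁻¹ := by rw [eU u hu, mul_one]
      _ = g * (z * u) * g⁻¹ * (g * u * g⁻¹) := by group
  have hne : g * (z * u) * g⁻¹ ≠ g * u * g⁻¹ := fun e =>
    hz1 (mul_eq_right.1 (mul_left_cancel (mul_right_cancel e)))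
  rw [hsplit]
  rcases key _ (mul_mem hz hu) hzu hzu' with h1 | h1 <;> rcases key u hu hu1 huz with h2 | h2
  · exact absurd (h1.trans h2.symm) hne
  · have hcomm : u * z = z * u := by
      have h3 : u * z = (u * z)⁻¹ := eq_inv_of_mul_eq_one_left (eU _ (mul_mem hu hz))
      rw [h3, mul_inv_rev, inv_eq_of_mul_eq_one_right (eU z hz),
        inv_eq_of_mul_eq_one_right (eU u hu)]
    rw [h1, h2, ← mul_assoc, hcomm, mul_assoc, eU u hu, mul_one]
  · rw [h1, h2, mul_assoc, eU u hu, mul_one]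
  · exact absurd (h1.trans h2.symm) hne

namespace TwoSixteen

variable {z : G} {U T A B : Subgroup G} (S : TwoSixteen z U T A B)
include S

theorem symm : TwoSixteen z U T B A :=
  ⟨S.cardT, S.hB, S.hA, S.eB, S.eA, S.cardB, S.cardA, (inf_comm B A).trans S.inter, S.cardU,
    S.zU, S.nB, S.nA, S.selfB, S.selfA, fun t ht h => (S.invol t ht h).symm, S.commU⟩

theorem hUA : U ≤ A := S.inter ▸ inf_le_left

theorem hUB : U ≤ B := S.inter ▸ inf_le_right

theorem hUT : U ≤ T := S.hUA.trans S.hA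

theorem eU : ∀ u ∈ U, u * u = 1 := fun u hu => S.eA u (S.hUA hu)

theorem exists_not_mem_U : ∃ a ∈ A, a ∉ U :=
  SetLike.exists_of_lt (lt_of_le_of_ne S.hUA fun h => by
    have := S.cardA
    rw [← h, S.cardU] at this
    norm_num at this)

/-- The elementary abelian subgroups of order 16 of `T`. -/
theorem eq_or_eq {E : Subgroup G} (hE : E ≤ T) (h2 : ∀ e ∈ E, e * e = 1)
    (hc : Nat.card E = 16) : E = A ∨ E = B := by
  haveI : Finite A := Nat.finite_of_card_ne_zero (by rw [S.cardA]; norm_num)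
  haveI : Finite B := Nat.finite_of_card_ne_zero (by rw [S.cardB]; norm_num)
  by_cases h : E ≤ A
  · exact Or.inl (Subgroup.eq_of_le_of_card_ge h (by rw [hc, S.cardA]))
  · refine Or.inr (Subgroup.eq_of_le_of_card_ge (fun e he => ?_) (by rw [hc, S.cardB]))
    obtain ⟨x, hx, hxA⟩ := SetLike.not_le_iff_exists.1 h
    rcases S.invol e (hE he) (h2 e he) with heA | heB
    · by_cases heU : e ∈ U
      · exact S.hUB heU
      · refine absurd (S.selfA e heA heU x (hE hx) ?_) hxA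
        have h1 : x * e = (x * e)⁻¹ := eq_inv_of_mul_eq_one_left (h2 _ (mul_mem hx he))
        rw [h1, mul_inv_rev, inv_eq_of_mul_eq_one_right (h2 e he),
          inv_eq_of_mul_eq_one_right (h2 x hx)]
    · exact heB

end TwoSixteen

namespace Base

variable {z : G} {U : Subgroup G} (S : Base z U)
include S

theorem z_sq : z * z = 1 := S.eU z S.zU

theorem z_ne : z ≠ 1 := fun h => by simpa [h] using S.hz

theorem z_mem : z ∈ cz z := mem_cz.2 rfl

theorem exists_other : ∃ u ∈ U, u ≠ 1 ∧ u ≠ z := by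
  classical
  haveI : Finite U := Nat.finite_of_card_ne_zero (by rw [S.cardU]; norm_num)
  by_contra h
  push Not at h
  have hsub : (U : Set G) ⊆ {1, z} := fun x hx => by
    by_cases h1 : x = 1
    · exact Or.inl h1
    · exact Or.inr (h x hx h1)
  have h2 := Set.ncard_le_ncard hsub (Set.toFinite _)
  rw [← Nat.card_coe_set_eq, SetLike.coe_sort_coe, S.cardU,
    Set.ncard_pair (Ne.symm S.z_ne)] at h2
  omega

/-- A conjugate of `z` in `C(z)` is the square of an element of `C(z)`. -/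
theorem exists_sqrt {y : G} (hy : y ∈ cz z) (h : IsConj z y) :
    ∃ q ∈ cz z, q ^ 4 = 1 ∧ q * q = y := by
  obtain ⟨g, rfl⟩ := isConj_iff.1 h
  have hk : g⁻¹ * z * g ∈ cz z := by
    have := conj_mem_cz g⁻¹ (mem_cz.2 (mem_cz.1 hy).symm)
    rwa [show g⁻¹ * (g * z * g⁻¹) * g⁻¹⁻¹ = z by group, inv_inv] at this
  have hk2 : g⁻¹ * z * g * (g⁻¹ * z * g) = 1 := by
    rw [show g⁻¹ * z * g * (g⁻¹ * z * g) = g⁻¹ * (z * z) * g by group, S.z_sq, mul_one,
      inv_mul_cancel]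
  obtain ⟨q, hq, hqk, hq2⟩ := S.root _ hk hk2
  refine ⟨g * q * g⁻¹, ?_, ?_, ?_⟩
  · have := conj_mem_cz g (mem_cz.2 hqk)
    rwa [show g * (g⁻¹ * z * g) * g⁻¹ = z by group] at this
  · rw [conj_pow, show (4 : ℕ) = 2 * 2 from rfl, pow_mul, pow_two, pow_two, hq2, S.z_sq, mul_one,
      mul_inv_cancel]
  · rw [show g * q * g⁻¹ * (g * q * g⁻¹) = g * (q * q) * g⁻¹ by group, hq2]

/-- If `g` carries `z` into `U ∖ {z}`, then the element carried to `z` lies in `U`, provided the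
conjugates of `z` in `C(z)` outside `U` have small centralisers. -/
theorem preimage_mem {g : G} (hu : g * z * g⁻¹ ∈ U) (hne : g * z * g⁻¹ ≠ z)
    (hsmall : ∀ y ∈ cz z, IsConj z y → y ∉ U → Nat.card ↥(cz z ⊓ cz y) < 384) :
    g⁻¹ * z * g ∈ U := by
  by_contra hk
  have hk' : g⁻¹ * z * g ∈ cz z := by
    have := conj_mem_cz g⁻¹ (mem_cz.2 (mem_cz.1 (S.hU hu)).symm)
    rwa [show g⁻¹ * (g * z * g⁻¹) * g⁻¹⁻¹ = z by group, inv_inv] at this
  have hlt := hsmall _ hk' (isConj_iff.2 ⟨g⁻¹, by group⟩) hk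
  have hu1 : g * z * g⁻¹ ≠ 1 := fun e => S.z_ne (conj_eq_one_iff.1 e)
  have heq := S.centU _ hu hu1 hne
  rw [← card_cz_inf g z (g⁻¹ * z * g), show g * (g⁻¹ * z * g) * g⁻¹ = z by group, inf_comm,
    heq] at hlt
  exact lt_irrefl _ hlt

theorem isolated (h : ∀ y ∈ cz z, IsConj z y → y = z) : Cfsg.IsIsolatedInvolution z :=
  ⟨S.hz, fun g hg => h _ (mem_cz.2 hg.eq.symm) (isConj_iff.2 ⟨g, rfl⟩)⟩

theorem solvable_of_isolated [Finite G] (hO : Cfsg.oddCore G = ⊥)
    (h : ∀ y ∈ cz z, IsConj z y → y = z) : Group.IsSolvable G := by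
  have hc : cz z = ⊤ := by
    refine eq_top_iff.2 fun g _ => mem_cz.2 ?_
    have h1 := CfsgLib.Invol.zstar G (S.isolated h) g
    rw [hO, mem_bot, mul_inv_eq_one, mul_inv_eq_iff_eq_mul] at h1
    exact h1.symm
  haveI := S.solv
  exact Group.isSolvable_of_surjective (f := (cz z).subtype)
    (fun g => ⟨⟨g, hc ▸ mem_top g⟩, rfl⟩)

end Base

namespace Sixteen

variable {z : G} {U T A B : Subgroup G} (X : Sixteen z U T A B) (S : Base z U)
include X S

theorem mem_T {y : G} (hy : y ∈ cz z) (h : IsConj z y) : y ∈ T := by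
  obtain ⟨q, hq, hq4, rfl⟩ := S.exists_sqrt hy h
  exact X.sq q hq hq4

theorem card_lt {y : G} (hy : y ∈ cz z) (h : IsConj z y) (hyU : y ∉ U) :
    Nat.card ↥(cz z ⊓ cz y) < 384 := by
  obtain ⟨g, hg⟩ := isConj_iff.1 h
  have hy2 : y * y = 1 := by
    rw [← hg, show g * z * g⁻¹ * (g * z * g⁻¹) = g * (z * z) * g⁻¹ by group, S.z_sq, mul_one,
      mul_inv_cancel]
  rcases X.invol y (X.mem_T S hy h) hy2 with hA | hB
  · rw [X.centA y hA hyU]; norm_num
  · obtain ⟨k, hk, hkB⟩ := X.swap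
    obtain ⟨a, ha, rfl⟩ := hkB.symm ▸ hB
    have haU : a ∉ U := fun e => hyU (S.nU k hk a e)
    have hz' : k * z * k⁻¹ = z := by rw [mem_cz.1 hk, mul_inv_cancel_right]
    have e := card_cz_inf k z a
    rw [hz'] at e
    change Nat.card ↥(cz z ⊓ cz (k * a * k⁻¹)) < 384
    rw [e, X.centA a ha haU]
    norm_num

/-- If `z` is fused to no other element of `U`, it is isolated in its centraliser. -/
theorem eq_of_conj (hUc : ∀ u ∈ U, IsConj z u → u = z) {y : G} (hy : y ∈ cz z)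
    (h : IsConj z y) : y = z := by
  by_contra hne
  have hyU : y ∉ U := fun e => hne (hUc y e h)
  obtain ⟨k, hk, hkB⟩ := X.swap
  -- one element of `A ∖ U` is a conjugate, hence all are
  obtain ⟨a, ha, haU, hac⟩ : ∃ a ∈ A, a ∉ U ∧ IsConj z a := by
    have hy2 : y * y = 1 := by
      obtain ⟨g, hg⟩ := isConj_iff.1 h
      rw [← hg, show g * z * g⁻¹ * (g * z * g⁻¹) = g * (z * z) * g⁻¹ by group, S.z_sq, mul_one,
        mul_inv_cancel]
    rcases X.invol y (X.mem_T S hy h) hy2 with hA | hB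
    · exact ⟨y, hA, hyU, h⟩
    · obtain ⟨a, ha, rfl⟩ := hkB.symm ▸ hB
      exact ⟨a, ha, fun e => hyU (S.nU k hk a e), (isConj_conj_iff k).1 h⟩
  have hall : ∀ b ∈ A, b ∉ U → IsConj z b := fun b hb hbU => by
    obtain ⟨m, -, -, rfl⟩ := X.orbitA a ha haU b hb hbU
    exact (isConj_conj_iff m).2 hac
  obtain ⟨g, hg⟩ := isConj_iff.1 hac.symm
  -- the conjugate of `A` lies in `T`
  have hEz : ∀ b ∈ A, g * b * g⁻¹ ∈ cz z := fun b hb => by
    have hab : b ∈ cz a := mem_cz.2 (by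
      have h1 : b * a = (b * a)⁻¹ := eq_inv_of_mul_eq_one_left (X.eA _ (mul_mem hb ha))
      rw [h1, mul_inv_rev, inv_eq_of_mul_eq_one_right (X.eA a ha),
        inv_eq_of_mul_eq_one_right (X.eA b hb)])
    exact hg ▸ conj_mem_cz g hab
  have hET : ∀ b ∈ A, g * b * g⁻¹ ∈ T := by
    have hout : ∀ b ∈ A, b ∉ U → g * b * g⁻¹ ∈ T := fun b hb hbU =>
      X.mem_T S (hEz b hb) ((isConj_conj_iff g).2 (hall b hb hbU))
    intro b hb
    by_cases hbU : b ∈ U
    · have habU : a * b ∉ U := fun e => haU ((mul_mem_cancel_right hbU).1 e)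
      have h1 := mul_mem (inv_mem (hout a ha haU)) (hout _ (mul_mem ha hb) habU)
      rwa [show (g * a * g⁻¹)⁻¹ * (g * (a * b) * g⁻¹) = g * b * g⁻¹ by group] at h1
    · exact hout b hb hbU
  -- correct it into `A`
  obtain ⟨m, hm, hmA⟩ : ∃ m ∈ cz z, ∀ b ∈ A, m * (g * b * g⁻¹) * m⁻¹ ∈ A := by
    have hle : A.map (MulAut.conj g).toMonoidHom ≤ T := by
      rintro _ ⟨b, hb, rfl⟩
      exact hET b hb
    have h2 : ∀ e ∈ A.map (MulAut.conj g).toMonoidHom, e * e = 1 := by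
      rintro _ ⟨b, hb, rfl⟩
      rw [← map_mul, X.eA b hb, map_one]
    rcases X.toTwoSixteen.eq_or_eq hle h2 (by rw [card_map_conj', X.cardA]) with e | e
    · exact ⟨1, one_mem _, fun b hb => by simpa using (e ▸ ⟨b, hb, rfl⟩ : g * b * g⁻¹ ∈ A)⟩
    · refine ⟨k⁻¹, inv_mem hk, fun b hb => ?_⟩
      have h3 : g * b * g⁻¹ ∈ A.map (MulAut.conj k).toMonoidHom :=
        hkB.symm ▸ (e ▸ ⟨b, hb, rfl⟩ : g * b * g⁻¹ ∈ B)
      rw [inv_inv]
      exact mem_map_conj'.1 h3
  have hfix := conj_eq_of_normalizes X.cardU X.toTwoSixteen.hUA S.eU S.zU S.z_ne hUc hall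
    (g := m * g) (fun b hb => by
      rw [show m * g * b * (m * g)⁻¹ = m * (g * b * g⁻¹) * m⁻¹ by group]
      exact hmA b hb)
  have haz : m * g * a * (m * g)⁻¹ = z := by
    rw [show m * g * a * (m * g)⁻¹ = m * (g * a * g⁻¹) * m⁻¹ by group, hg, mem_cz.1 hm,
      mul_inv_cancel_right]
  exact haU ((mul_left_cancel (mul_right_cancel (haz.trans hfix.symm))) ▸ S.zU)

end Sixteen

namespace Bad

variable {z : G} {U : Subgroup G} (S : Bad z U)
include S

theorem card_lt {y : G} (hy : y ∈ cz z) (h : IsConj z y) (hyU : y ∉ U) :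
    Nat.card ↥(cz z ⊓ cz y) < 384 := by
  rcases S.squares with hs | ⟨T, A, B, X⟩
  · obtain ⟨q, hq, hq4, rfl⟩ := S.toBase.exists_sqrt hy h
    exact absurd (hs q hq hq4) hyU
  · exact X.card_lt S.toBase hy h hyU

theorem conj_U {u : G} (hu : u ∈ U) (h : IsConj z u) : u = z := by
  by_contra huz
  obtain ⟨g, rfl⟩ := isConj_iff.1 h
  have hk := S.toBase.preimage_mem hu huz (fun y hy hc hn => S.card_lt hy hc hn)
  have hu1 : g * z * g⁻¹ ≠ 1 := fun e => S.toBase.z_ne (conj_eq_one_iff.1 e)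
  have hk1 : g⁻¹ * z * g ≠ 1 := fun e => S.toBase.z_ne
    (conj_eq_one_iff.1 (show g⁻¹ * z * g⁻¹⁻¹ = 1 by rwa [inv_inv]))
  have hkz : g⁻¹ * z * g ≠ z := fun e => huz (by
    conv_rhs => rw [← show g * (g⁻¹ * z * g) * g⁻¹ = z by group, e])
  obtain ⟨m, hm, hmk⟩ := S.conjU _ hk _ hu hk1 hkz hu1 huz
  have hmz : m * z * m⁻¹ = z := by rw [mem_cz.1 hm, mul_inv_cancel_right]
  refine S.roots_ne _ hu hu1 huz ?_
  -- two bijections between the sets of roots
  have key : ∀ (k v w : G) (f : G), f * z * f⁻¹ = w → f * k * f⁻¹ = v →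
      Nat.card {q : G // q ∈ cz z ∧ q * k = k * q ∧ q * q = z} =
        Nat.card {q : G // q ∈ cz w ∧ q * v = v * q ∧ q * q = w} := by
    intro k v w f hw hv
    refine Nat.card_congr ((MulAut.conj f).toEquiv.subtypeEquiv fun q => ?_)
    change _ ↔ f * q * f⁻¹ ∈ cz w ∧ f * q * f⁻¹ * v = v * (f * q * f⁻¹) ∧
      f * q * f⁻¹ * (f * q * f⁻¹) = w
    constructor
    · rintro ⟨h1, h2, h3⟩
      refine ⟨hw ▸ conj_mem_cz f h1, mem_cz.1 (hv ▸ conj_mem_cz f (mem_cz.2 h2)), ?_⟩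
      rw [show f * q * f⁻¹ * (f * q * f⁻¹) = f * (q * q) * f⁻¹ by group, h3, hw]
    · rintro ⟨h1, h2, h3⟩
      have e : ∀ y : G, f⁻¹ * (f * y * f⁻¹) * f⁻¹⁻¹ = y := fun y => by group
      refine ⟨?_, ?_, ?_⟩
      · have := conj_mem_cz f⁻¹ h1
        rwa [← hw, e, e] at this
      · have := conj_mem_cz f⁻¹ (mem_cz.2 h2)
        rw [← hv, e, e] at this
        exact mem_cz.1 this
      · have h3' : f * (q * q) * f⁻¹ = f * z * f⁻¹ := by
          rw [hw, ← h3]; simp [mul_assoc]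
        exact mul_left_cancel (mul_right_cancel h3')
  have h1 := key (g⁻¹ * z * g) z (g * z * g⁻¹) g rfl (by group)
  have h2 := key (g⁻¹ * z * g) (g * z * g⁻¹) z m hmz hmk
  rw [roots, roots, ← h2, h1]
  refine Nat.card_congr (Equiv.subtypeEquivRight fun q => ?_)
  rw [mem_cz, mem_cz]
  tauto

theorem isSolvable [Finite G] (hO : Cfsg.oddCore G = ⊥) : Group.IsSolvable G := by
  refine S.toBase.solvable_of_isolated hO fun y hy h => ?_
  rcases S.squares with hs | ⟨T, A, B, X⟩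
  · obtain ⟨q, hq, hq4, rfl⟩ := S.toBase.exists_sqrt hy h
    exact S.conj_U (hs q hq hq4) h
  · exact X.eq_of_conj S.toBase (fun u hu hc => S.conj_U hu hc) hy h

end Bad

namespace Loc

variable {z : G} {U T A B D : Subgroup G} {a w x o : G} (S : Loc z U T A B D a w x o)
include S

theorem isConj_of_mem_U [Finite G] (hO : Cfsg.oddCore G = ⊥) (hns : ¬ Group.IsSolvable G) :
    ∀ v ∈ U, v ≠ 1 → IsConj z v := by
  by_contra h
  push Not at h
  obtain ⟨v, hv, hv1, hvc⟩ := h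
  have hUc : ∀ u ∈ U, IsConj z u → u = z := by
    intro u hu hc
    by_contra huz
    have hvz : v ≠ z := fun e => hvc (e ▸ IsConj.refl z)
    have hu1 : u ≠ 1 := fun e => S.toBase.z_ne (isConj_one_left.1 (e ▸ hc))
    obtain ⟨m, -, rfl⟩ := S.conjU u hu v hv hu1 huz hv1 hvz
    exact hvc ((isConj_conj_iff m).2 hc)
  exact hns (S.toBase.solvable_of_isolated hO fun y hy hc =>
    S.toSixteen.eq_of_conj S.toBase hUc hy hc)

theorem exists_moving [Finite G] (hU : ∀ v ∈ U, v ≠ 1 → IsConj z v) :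
    ∃ g ∈ normalizer (U : Set G), g * z * g⁻¹ ≠ z := by
  obtain ⟨u, hu, hu1, huz⟩ := S.toBase.exists_other
  obtain ⟨g, hg⟩ := isConj_iff.1 (hU u hu hu1)
  subst hg
  have hk := S.toBase.preimage_mem hu huz
    (fun y hy hc hn => S.toSixteen.card_lt S.toBase hy hc hn)
  have hk1 : g⁻¹ * z * g ≠ 1 := fun e => S.toBase.z_ne
    (conj_eq_one_iff.1 (show g⁻¹ * z * g⁻¹⁻¹ = 1 by rwa [inv_inv]))
  have hkz : g⁻¹ * z * g ≠ z := fun e => huz (by
    conv_rhs => rw [← show g * (g⁻¹ * z * g) * g⁻¹ = z by group, e])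
  refine ⟨g, ?_, huz⟩
  have hmem : ∀ y ∈ U, g * y * g⁻¹ ∈ U := by
    intro y hy
    rcases four_cases S.toBase.cardU S.toBase.zU hk S.toBase.z_ne hk1 hkz S.toBase.eU hy
      with e | e | e | e <;> subst e
    · simpa using one_mem U
    · exact hu
    · rw [show g * (g⁻¹ * z * g) * g⁻¹ = z by group]
      exact S.toBase.zU
    · rw [show g * (z * (g⁻¹ * z * g)) * g⁻¹ = g * z * g⁻¹ * z by group]
      exact mul_mem hu S.toBase.zU
  exact mem_normalizer_fintype (S := (U : Set G)) hmem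

end Loc

end CfsgLib.InvChar.LThreeFourAut
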