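import Cfsg.Agent.Lib.InvChar.LThreeFourAut.Minimal
import Cfsg.Agent.Lib.InvChar.LThreeFourAut.AutModel
import Cfsg.Agent.Lib.InvChar.LThreeFour.Iso
import Cfsg.Agent.Lib.InvChar.LThreeFour.Order

/-!
Identification of a nonsolvable group with the local data `Loc` with the automorphism group of
`PGL_3(4)` (statement 3237).
-/

set_option autoImplicit false

namespace CfsgLib.InvChar.LThreeFourAut

open Subgroup

universe u v

/-- A field with four elements has at most two automorphisms. -/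
theorem card_ringAut_le {F : Type v} [Field F] [Fintype F] (hF : Fintype.card F = 4) :
    Nat.card (F ≃+* F) ≤ 2 := by
  classical
  obtain ⟨w, hw⟩ : ∃ w : F, w ∉ ({0, 1} : Finset F) := by
    by_contra h
    push Not at h
    have := Finset.card_le_card (fun x _ => h x : (Finset.univ : Finset F) ⊆ {0, 1})
    rw [Finset.card_univ, hF, Finset.card_pair zero_ne_one] at this
    omega
  simp only [Finset.mem_insert, Finset.mem_singleton, not_or] at hw
  have hgen : ∀ σ τ : F ≃+* F, σ w = τ w → σ = τ := by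
    intro σ τ h
    refine RingEquiv.ext fun x => ?_
    have hsub : ({0, 1, w, w + 1} : Finset F) = Finset.univ := by
      refine Finset.eq_univ_of_card _ ?_
      rw [hF]
      have hw1 : w + 1 ≠ 1 := fun e => hw.1 (add_eq_right.1 e)
      have hww : w + 1 ≠ w := fun e => one_ne_zero (add_eq_left.1 e)
      have hw0 : w + 1 ≠ 0 := fun e => by
        have h2 : ringChar F = 2 := by
          obtain ⟨n, hp, hn⟩ := FiniteField.card F (ringChar F)
          rw [hF] at hn
          have hd : ringChar F ∣ 2 ^ 2 := by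
            rw [show (2 : ℕ) ^ 2 = 4 by norm_num, hn]; exact dvd_pow_self _ n.pos.ne'
          exact (Nat.prime_dvd_prime_iff_eq hp Nat.prime_two).1 (hp.dvd_of_dvd_pow hd)
        haveI : CharP F 2 := h2 ▸ ringChar.charP F
        exact hw.2 ((CharTwo.add_eq_zero (a := w) (b := (1 : F))).1 e)
      rw [Finset.card_insert_of_notMem, Finset.card_insert_of_notMem,
        Finset.card_insert_of_notMem, Finset.card_singleton] <;>
        simp [Ne.symm hw.1, Ne.symm hw.2, Ne.symm hw0, Ne.symm hw1, Ne.symm hww]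
    have hx := hsub.ge (Finset.mem_univ x)
    simp only [Finset.mem_insert, Finset.mem_singleton] at hx
    rcases hx with rfl | rfl | rfl | rfl <;> simp [h]
  let f : (F ≃+* F) → {x : F // x ∉ ({0, 1} : Finset F)} := fun σ => ⟨σ w, by
    simp only [Finset.mem_insert, Finset.mem_singleton, not_or]
    exact ⟨fun e => hw.1 (σ.injective (e.trans (map_zero σ).symm)),
      fun e => hw.2 (σ.injective (e.trans (map_one σ).symm))⟩⟩
  refine (Nat.card_le_card_of_injective f fun σ τ h => hgen σ τ (congrArg Subtype.val h)).trans ?_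
  rw [Nat.card_eq_fintype_card, Fintype.card_subtype_compl, hF, Fintype.card_coe,
    Finset.card_pair zero_ne_one]

/-- `|Aut PSL_3(4)|` is at most `241920`. -/
theorem card_mulAut_psl_le {F : Type v} [Field F] [Fintype F] [DecidableEq F]
    (hF : Fintype.card F = 4) :
    Nat.card (MulAut (Matrix.ProjectiveSpecialLinearGroup (Fin 3) F)) ≤ 241920 := by
  have h := CfsgLib.Classical.card_sl_mul (F := F) (n := 3) (by norm_num)
  rw [hF, Fin.prod_univ_three] at h
  norm_num at h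
  rw [CfsgLib.KnownC.card_mulAut_psl (by norm_num), if_neg (by norm_num),
    CfsgLib.Classical.card_pgl]
  have h2 := card_ringAut_le hF
  calc 2 * Nat.card (F ≃+* F) * Nat.card (Matrix.SpecialLinearGroup (Fin 3) F)
      ≤ 2 * 2 * 60480 := Nat.mul_le_mul (Nat.mul_le_mul le_rfl h2) (by rw [Nat.card_eq_fintype_card]; omega)
    _ ≤ 241920 := by norm_num

namespace Loc

variable {G : Type u} [Group G] [Finite G] {z : G} {U T A B D : Subgroup G} {a w x o : G}

/-- `z` is conjugate in `M` to every involution of `U`, when `M ∩ C(z) = D` and `M` is simple. -/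
theorem conjU_minimal (L : Loc z U T A B D a w x o) (hO : Cfsg.oddCore G = ⊥)
    {M : Subgroup G} [hM : M.Normal] (hMD : M ⊓ cz z = D) (hc : center ↥M = ⊥) :
    ∀ v ∈ U, v ≠ 1 → ∃ m ∈ M, m * z * m⁻¹ = v := by
  have hDM : D ≤ M := hMD ▸ inf_le_left
  have hzM : z ∈ M := hDM (L.hTD (L.toTwoSixteen.hUT L.toBase.zU))
  -- being conjugate to `z` in `M` is preserved by `C(z)` and by `M`
  have hH : ∀ h ∈ cz z, ∀ v, (∃ m ∈ M, m * z * m⁻¹ = v) → ∃ m ∈ M, m * z * m⁻¹ = h * v * h⁻¹ := by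
    rintro h hh v ⟨m, hm, rfl⟩
    refine ⟨h * m * h⁻¹, hM.conj_mem m hm h, ?_⟩
    calc h * m * h⁻¹ * z * (h * m * h⁻¹)⁻¹ = h * m * (h⁻¹ * z * h) * m⁻¹ * h⁻¹ := by group
      _ = h * m * z * m⁻¹ * h⁻¹ := by rw [mul_assoc h⁻¹ z h, ← mem_cz.1 hh, inv_mul_cancel_left]
      _ = h * (m * z * m⁻¹) * h⁻¹ := by group
  suffices hex : ∃ u ∈ U, u ≠ z ∧ ∃ m ∈ M, m * z * m⁻¹ = u by
    obtain ⟨u, hu, huz, hum⟩ := hex
    have hu1 : u ≠ 1 := fun e => by
      obtain ⟨m, -, hm⟩ := hum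
      exact L.z_ne' (conj_eq_one_iff.1 (hm.trans e))
    intro v hv hv1
    by_cases hvz : v = z
    · exact ⟨1, one_mem _, by simp [hvz]⟩
    · obtain ⟨h, hh, rfl⟩ := L.conjU u hu v hv hu1 huz hv1 hvz
      exact hH h hh u hum
  by_contra hno
  push Not at hno
  have hnoU : ∀ u ∈ U, (∃ m ∈ M, m * z * m⁻¹ = u) → u = z := fun u hu ⟨m, hm, e⟩ => by
    by_contra hne
    exact hno u hu hne m hm e
  -- a conjugate in `D` outside `U`
  obtain ⟨y, hy, hyz, hyM⟩ : ∃ y ∈ cz z, y ≠ z ∧ ∃ m ∈ M, m * z * m⁻¹ = y := by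
    by_contra hn
    push Not at hn
    have hiso : Cfsg.IsIsolatedInvolution (⟨z, hzM⟩ : ↥M) :=
      ⟨by rw [← Subgroup.orderOf_coe]; exact L.hz, fun g hg => Subtype.ext (by
        by_contra hne
        exact hn _ (mem_cz.2 (congrArg Subtype.val hg.eq).symm) hne g g.2 rfl)⟩
    have hzc : (⟨z, hzM⟩ : ↥M) ∈ center ↥M := mem_center_iff.2 fun g => by
      have h1 := CfsgLib.Invol.zstar ↥M hiso g
      rw [oddCore_eq_bot_of_le hO M, mem_bot, mul_inv_eq_one, mul_inv_eq_iff_eq_mul] at h1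
      exact h1.symm
    rw [hc, mem_bot] at hzc
    exact L.z_ne' (congrArg Subtype.val hzc)
  have hinv : ∀ v, (∃ m ∈ M, m * z * m⁻¹ = v) → v * v = 1 := by
    rintro v ⟨m, -, rfl⟩
    rw [show m * z * m⁻¹ * (m * z * m⁻¹) = m * (z * z) * m⁻¹ by group, L.toBase.z_sq, mul_one,
      mul_inv_cancel]
  have hyD : y ∈ D := by
    rw [← hMD]
    obtain ⟨m, hm, e⟩ := hyM
    exact mem_inf.2 ⟨e ▸ mul_mem (mul_mem hm hzM) (inv_mem hm), hy⟩
  obtain ⟨k, hk, hkB⟩ := L.swap
  obtain ⟨b, hb, hbU, hbM⟩ : ∃ b ∈ A, b ∉ U ∧ ∃ m ∈ M, m * z * m⁻¹ = b := by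
    have hyU : y ∉ U := fun h => hyz (hnoU y h hyM)
    rcases L.invol y (L.mem_T_of_invol hyD (hinv y hyM)) (hinv y hyM) with h | h
    · exact ⟨y, h, hyU, hyM⟩
    · obtain ⟨b, hb, rfl⟩ := hkB.symm ▸ h
      refine ⟨b, hb, fun e => hyU (L.nU k hk b e), ?_⟩
      have := hH k⁻¹ (inv_mem hk) _ hyM
      rwa [show k⁻¹ * (MulAut.conj k).toMonoidHom b * k⁻¹⁻¹ = b by
        simp [MulAut.conj_apply, mul_assoc]] at this
  have hall : ∀ c ∈ A, c ∉ U → ∃ m ∈ M, m * z * m⁻¹ = c := fun c hcA hcU => by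
    obtain ⟨h, hh, -, rfl⟩ := L.orbitA b hb hbU c hcA hcU
    exact hH h hh b hbM
  obtain ⟨m, hm, hmb⟩ := hbM
  -- carry `b` to `z`, then correct the image of `A` back into `A`
  have hAT : ∀ c ∈ A, m⁻¹ * c * m ∈ T := fun c hcA => by
    refine L.mem_T_of_invol ?_ ?_
    · rw [← hMD]
      refine mem_inf.2 ⟨mul_mem (mul_mem (inv_mem hm) (hDM (L.hTD (L.hA hcA)))) hm, mem_cz.2 ?_⟩
      have hcb : c * b = b * c := by
        have h1 : c * b = (c * b)⁻¹ := eq_inv_of_mul_eq_one_left (L.eA _ (mul_mem hcA hb))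
        rw [h1, mul_inv_rev, inv_eq_of_mul_eq_one_right (L.eA b hb),
          inv_eq_of_mul_eq_one_right (L.eA c hcA)]
      rw [← hmb] at hcb
      calc m⁻¹ * c * m * z = m⁻¹ * (c * (m * z * m⁻¹)) * m := by group
        _ = m⁻¹ * (m * z * m⁻¹ * c) * m := by rw [hcb]
        _ = z * (m⁻¹ * c * m) := by group
    · rw [show m⁻¹ * c * m * (m⁻¹ * c * m) = m⁻¹ * (c * c) * m by group, L.eA c hcA, mul_one,
        inv_mul_cancel]
  obtain ⟨h, hh, hhA⟩ : ∃ h ∈ cz z, ∀ c ∈ A, h * (m⁻¹ * c * m) * h⁻¹ ∈ A := by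
    have hle : A.map (MulAut.conj m⁻¹).toMonoidHom ≤ T := by
      rintro _ ⟨c, hcA, rfl⟩
      simpa using hAT c hcA
    have h2 : ∀ e ∈ A.map (MulAut.conj m⁻¹).toMonoidHom, e * e = 1 := by
      rintro _ ⟨c, hcA, rfl⟩
      rw [← map_mul, L.eA c hcA, map_one]
    rcases L.toTwoSixteen.eq_or_eq hle h2 (by rw [card_map_conj', L.cardA]) with e | e
    · refine ⟨1, one_mem _, fun c hcA => ?_⟩
      have : (MulAut.conj m⁻¹).toMonoidHom c ∈ A := e ▸ ⟨c, hcA, rfl⟩
      simpa using this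
    · refine ⟨k⁻¹, inv_mem hk, fun c hcA => ?_⟩
      have h3 : (MulAut.conj m⁻¹).toMonoidHom c ∈ A.map (MulAut.conj k).toMonoidHom :=
        hkB.symm ▸ (e ▸ ⟨c, hcA, rfl⟩ : (MulAut.conj m⁻¹).toMonoidHom c ∈ B)
      rw [mem_map_conj'] at h3
      simpa using h3
  -- `g = h m⁻¹` normalises `A` and permutes the elements not conjugate to `z` in `M`
  have hP : ∀ v, (∃ n ∈ M, n * z * n⁻¹ = h * (m⁻¹ * v * m) * h⁻¹) → ∃ n ∈ M, n * z * n⁻¹ = v := by
    intro v hv
    have h1 := hH h⁻¹ (inv_mem hh) _ hv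
    rw [show h⁻¹ * (h * (m⁻¹ * v * m) * h⁻¹) * h⁻¹⁻¹ = m⁻¹ * v * m by group] at h1
    obtain ⟨n, hn, e⟩ := h1
    exact ⟨m * n, mul_mem hm hn, by
      rw [show m * n * z * (m * n)⁻¹ = m * (n * z * n⁻¹) * m⁻¹ by group, e]; group⟩
  obtain ⟨u, hu, hu1, huz⟩ := L.toBase.exists_other
  have key : ∀ v ∈ U, v ≠ 1 → v ≠ z →
      h * (m⁻¹ * v * m) * h⁻¹ = u ∨ h * (m⁻¹ * v * m) * h⁻¹ = z * u := by
    intro v hv hv1 hvz
    have hnc : ¬ ∃ n ∈ M, n * z * n⁻¹ = v := fun hc' => hvz (hnoU v hv hc')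
    have hvU : h * (m⁻¹ * v * m) * h⁻¹ ∈ U := by
      by_contra hn
      exact hnc (hP v (hall _ (hhA v (L.toTwoSixteen.hUA hv)) hn))
    rcases four_cases L.toBase.cardU L.toBase.zU hu L.z_ne' hu1 huz L.toBase.eU hvU
      with e | e | e | e
    · rw [conj_eq_one_iff, show m⁻¹ * v * m = m⁻¹ * v * m⁻¹⁻¹ by rw [inv_inv],
        conj_eq_one_iff] at e
      exact absurd e hv1
    · exact absurd (hP v ⟨1, one_mem _, by rw [e]; simp⟩) hnc
    · exact Or.inl e
    · exact Or.inr e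
  have hzu : z * u ≠ 1 := fun e => huz (mul_left_cancel (e.trans L.toBase.z_sq.symm))
  have hzu' : z * u ≠ z := fun e => hu1 (mul_eq_left.1 e)
  have hzz : h * (m⁻¹ * z * m) * h⁻¹ = z := by
    have hsplit : h * (m⁻¹ * z * m) * h⁻¹ =
        h * (m⁻¹ * (z * u) * m) * h⁻¹ * (h * (m⁻¹ * u * m) * h⁻¹) := by
      calc h * (m⁻¹ * z * m) * h⁻¹ = h * (m⁻¹ * (z * (u * u)) * m) * h⁻¹ := by
            rw [L.toBase.eU u hu, mul_one]
        _ = _ := by group
    have hne : h * (m⁻¹ * (z * u) * m) * h⁻¹ ≠ h * (m⁻¹ * u * m) * h⁻¹ := fun e =>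
      L.z_ne' (mul_eq_right.1 (mul_left_cancel (mul_right_cancel
        (mul_left_cancel (mul_right_cancel e)))))
    rw [hsplit]
    rcases key _ (mul_mem L.toBase.zU hu) hzu hzu' with h1 | h1 <;>
      rcases key u hu hu1 huz with h2 | h2
    · exact absurd (h1.trans h2.symm) hne
    · rw [h1, h2, ← mul_assoc, ← L.commU u hu z (L.toTwoSixteen.hUT L.toBase.zU) |>.symm.symm,
        mul_assoc, L.toBase.eU u hu, mul_one]
    · rw [h1, h2, mul_assoc, L.toBase.eU u hu, mul_one]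
    · exact absurd (h1.trans h2.symm) hne
  have hbz : h * (m⁻¹ * b * m) * h⁻¹ = z := by
    rw [show m⁻¹ * b * m = z by rw [← hmb]; group, mem_cz.1 hh, mul_inv_cancel_right]
  exact hbU ((mul_left_cancel (mul_right_cancel
    (mul_left_cancel (mul_right_cancel (hbz.trans hzz.symm))))) ▸ L.toBase.zU)

/-- The recognition theorem, given the exclusion of `TThree`. -/
theorem nonempty_mulEquiv_of_three
    (hthree : ∀ (H : Type u) [Group H] [Finite H] [IsSimpleGroup H], ¬ IsMulCommutative H →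
      ∀ (z : H) (U T A B D : Subgroup H) (a : H), TThree z U T A B D a → False)
    (L : Loc z U T A B D a w x o) (hO : Cfsg.oddCore G = ⊥) (hns : ¬ Group.IsSolvable G)
    (hU : ∀ v ∈ U, v ≠ 1 → IsConj z v)
    (hg : ∃ g ∈ normalizer (U : Set G), g * z * g⁻¹ ≠ z)
    (hN : ∃ N : Subgroup G, N.Normal ∧ N.index = 4 ∧ N ⊓ cz z = D)
    {F : Type v} [Field F] [Fintype F] (hF : Fintype.card F = 4) :
    Nonempty (G ≃* MulAut (GL (Fin 3) F ⧸ Subgroup.center (GL (Fin 3) F))) := by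
  classical
  obtain ⟨N₀, hN₀, hi, hND⟩ := hN
  have hUD : U ≤ D := L.toTwoSixteen.hUT.trans L.hTD
  have hN0ne : N₀ ≠ ⊥ := fun h => L.z_ne' (mem_bot.1 (h ▸ (mem_inf.1 (hND.ge (hUD L.toBase.zU))).1))
  obtain ⟨M, hM, hMne, hM0, hmin⟩ := CfsgLib.Solvable.exists_minimal_normal_le hN₀ hN0ne
  haveI := hM
  have hzM := L.z_mem_of_normal hO hN₀ hi hND hM hMne
  have hUM : U ≤ M := fun v hv => by
    by_cases hv1 : v = 1
    · exact hv1 ▸ one_mem M
    · obtain ⟨g, rfl⟩ := isConj_iff.1 (hU v hv hv1)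
      exact hM.conj_mem z hzM g
  have hMD : M ⊓ cz z ≤ D := (inf_le_inf_right _ hM0).trans hND.le
  have hMns := L.not_solvable_minimal hns hMne hmin hUM hMD
  have hc := center_eq_bot_of_minimal hmin hMns
  have hcG := L.centralizer_eq_bot hO hN₀ hi hND M hMne hc
  have hTM : T ≤ M := by
    rcases L.meet_cases hUM hMD with h | h | ⟨⟨q, hq, hqz⟩, hsq⟩
    · exact (L.not_four h (commutator_eq_top_of_minimal hmin hMns) hU).elim
    · exact h
    · exact (L.not_sixteen hMD hg hq hqz hsq).elim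
  haveI := L.simple_of_minimal hO hMne hmin hMns hMD hTM hU
  have hMc : ¬ IsMulCommutative ↥M := fun h =>
    hMns (Group.isSolvable_of_comm fun p q => h.is_comm.comm p q)
  have hodd := L.not_dvd_index_T hMD hTM
  set z' : ↥M := ⟨z, hzM⟩
  have hz' : orderOf z' = 2 := by rw [← Subgroup.orderOf_coe]; exact L.hz
  have hcard : ∀ X : Subgroup G, X ≤ M → Nat.card ↥(X.subgroupOf M) = Nat.card ↥X := fun X hX =>
    Nat.card_congr (subgroupOfEquivOfLe hX).toEquiv
  have hAM : A ≤ M := L.hA.trans hTM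
  have hBM : B ≤ M := L.hB.trans hTM
  have hcz : cz z' = (M ⊓ cz z).subgroupOf M := by
    ext y
    rw [mem_cz, Subgroup.mem_subgroupOf, mem_inf, mem_cz]
    exact ⟨fun h => ⟨y.2, congrArg Subtype.val h⟩, fun h => Subtype.ext h.2⟩
  have hTle : T ≤ M ⊓ cz z := le_inf hTM L.hT
  have hd1 : 64 ∣ Nat.card ↥(M ⊓ cz z) := L.cardT ▸ Subgroup.card_dvd_of_le hTle
  have hd2 : Nat.card ↥(M ⊓ cz z) ∣ 192 := L.cardD ▸ Subgroup.card_dvd_of_le hMD
  have hcases : Nat.card ↥(M ⊓ cz z) = 64 ∨ Nat.card ↥(M ⊓ cz z) = 192 := by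
    obtain ⟨c, hc'⟩ := hd1
    rw [hc'] at hd2 ⊢
    have h3 : c ∣ 3 := Nat.dvd_of_mul_dvd_mul_left (by norm_num : 0 < 64) hd2
    rcases (Nat.dvd_prime Nat.prime_three).1 h3 with e | e <;> simp [e]
  rcases hcases with h64 | h192
  · have hT : M ⊓ cz z = T := (eq_of_le_of_card_ge hTle (by rw [h64, L.cardT])).symm
    have Φ : CfsgLib.InvChar.LThreeFour.Flag z' (T.subgroupOf M) (A.subgroupOf M)
        (B.subgroupOf M) (U.subgroupOf M) :=
      CfsgLib.InvChar.LThreeFour.flag_of_invol hz' (by rw [← hT]; exact hcz) hodd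
        (by rw [hcard T hTM, L.cardT]) (fun y hy => L.hA hy) (fun y hy => L.hB hy)
        (fun y hy => Subtype.ext (L.eA _ hy)) (fun y hy => Subtype.ext (L.eB _ hy))
        (by rw [hcard A hAM, L.cardA]) (by rw [hcard B hBM, L.cardB])
        (by rw [← L.inter]; rfl) (by rw [hcard U hUM, L.toBase.cardU]) L.toBase.zU
        (fun t ht h2 => L.invol _ ht (congrArg Subtype.val h2))
        (fun p hp q hq => by
          rw [Subgroup.mem_subgroupOf, ← L.inter]
          refine mem_inf.2 ⟨?_, mul_mem (L.nB _ (L.hA hp) _ hq) (inv_mem hq)⟩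
          change (p : G) * q * (p : G)⁻¹ * (q : G)⁻¹ ∈ A
          rw [show (p : G) * q * (p : G)⁻¹ * (q : G)⁻¹ =
            (p : G) * ((q : G) * (p : G)⁻¹ * (q : G)⁻¹) by group]
          exact mul_mem hp (L.nA _ (L.hB hq) _ (inv_mem hp)))
    obtain ⟨hM20, hone⟩ := Φ.card_eq hMc
    obtain ⟨e⟩ := Φ.equiv_psl hMc hF
    have hG := card_mul_of_one_class M (z := z) (fun g => by
      have hgz : g * z * g⁻¹ ∈ M := hM.conj_mem z hzM g
      have ho : orderOf (⟨g * z * g⁻¹, hgz⟩ : ↥M) = 2 := by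
        rw [← Subgroup.orderOf_coe, ← L.hz]
        exact orderOf_injective (MulAut.conj g).toMonoidHom (MulAut.conj g).injective z
      obtain ⟨l, hl⟩ := isConj_iff.1 (hone z' _ hz' ho)
      exact ⟨l, l.2, congrArg Subtype.val hl⟩)
    rw [h64, hM20, L.cardH] at hG
    exact equiv_mulAut_pgl (by norm_num) M hcG e ((card_mulAut_psl_le hF).trans (by omega))
  · exfalso
    have hD : M ⊓ cz z = D := eq_of_le_of_card_ge hMD (by rw [h192, L.cardD])
    have hDM : D ≤ M := hD ▸ inf_le_left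
    refine hthree ↥M hMc z' (U.subgroupOf M) (T.subgroupOf M) (A.subgroupOf M) (B.subgroupOf M)
      (D.subgroupOf M) ⟨a, hDM L.ha⟩ ?_
    refine { cardT := by rw [hcard T hTM, L.cardT], hA := fun y hy => L.hA hy,
             hB := fun y hy => L.hB hy, eA := fun y hy => Subtype.ext (L.eA _ hy),
             eB := fun y hy => Subtype.ext (L.eB _ hy),
             cardA := by rw [hcard A hAM, L.cardA], cardB := by rw [hcard B hBM, L.cardB],
             inter := by rw [← L.inter]; rfl, cardU := by rw [hcard U hUM, L.toBase.cardU],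
             zU := L.toBase.zU, nA := fun t ht p hp => L.nA _ ht _ hp,
             nB := fun t ht p hp => L.nB _ ht _ hp,
             selfA := fun p hp hpU t ht e => L.selfA _ hp hpU _ ht (congrArg Subtype.val e),
             selfB := fun p hp hpU t ht e => L.selfB _ hp hpU _ ht (congrArg Subtype.val e),
             invol := fun t ht h2 => L.invol _ ht (congrArg Subtype.val h2),
             commU := fun p hp t ht => Subtype.ext (L.commU _ hp _ ht),
             hz := hz', hD := by rw [← hD]; exact hcz,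
             cardD := by rw [hcard D hDM, L.cardD], odd_index := hodd,
             hTD := fun y hy => L.hTD hy, nT := fun d hd t ht => L.nT _ (L.hD hd) _ ht,
             ha := L.ha, orderA := by rw [← Subgroup.orderOf_coe]; exact L.orderA,
             aU := fun p hp => Subtype.ext (L.aU _ hp),
             afix := fun t ht e => L.afix _ ht (congrArg Subtype.val e),
             conjU := fun p hp hp1 => ?_ }
    obtain ⟨m, hm, hmv⟩ := L.conjU_minimal hO hD hc p hp (fun e => hp1 (Subtype.ext e))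
    exact isConj_iff.2 ⟨⟨m, hm⟩, Subtype.ext hmv⟩

end Loc

end CfsgLib.InvChar.LThreeFourAut
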