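import Cfsg.Agent.Lib.InvChar.LThreeFourAut.ModelData
import Mathlib.Algebra.Group.MinimalAxioms
import Mathlib.Data.Fintype.Card
import Mathlib.Data.Fintype.Prod
import Mathlib.SetTheory.Cardinal.Finite
import Mathlib.Tactic

/-!
The four groups of order 768 given by the tables of `ModelData`: group axioms and basic lemmas.
-/

set_option autoImplicit false

namespace CfsgLib.InvChar.LThreeFourAut.Model

/-- Inverse in the extraspecial group. -/
def einv (x : ℕ) : ℕ := emul x (emul x x)

/-- Inversion in the quotient. -/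
def qInvTab : List ℕ := [0, 1, 5, 9, 7, 2, 11, 4, 15, 3, 10, 6, 12, 13, 14, 8, 18, 19, 16, 17, 20, 21, 22, 23]

/-- Inversion in the quotient. -/
def qinv (q : ℕ) : ℕ := qInvTab.getD q 0

/-- Inversion in variant `b`. -/
def invN (b : Fin 4) (u : ℕ) : ℕ :=
  einv (emul (get actTab (qinv (u / 32)) (u % 32)) (get (cocTab b) (qinv (u / 32)) (u / 32))) +
    32 * qinv (u / 32)

theorem emul_lt : ∀ x < 32, ∀ y < 32, emul x y < 32 := by decide +kernel

theorem emul_assoc : ∀ x < 32, ∀ y < 32, ∀ w < 32, emul (emul x y) w = emul x (emul y w) := by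
  decide +kernel

theorem emul_zero : ∀ x < 32, emul 0 x = x ∧ emul x 0 = x := by decide +kernel

theorem einv_lt : ∀ x < 32, einv x < 32 ∧ emul (einv x) x = 0 := by decide +kernel

theorem get_lt (t : List ℕ) (i j : ℕ) : get t i j < 32 := Nat.mod_lt _ (by norm_num)

theorem qmul_lt : ∀ q < 24, ∀ q' < 24, get qTab q q' < 24 := by decide +kernel

theorem qmul_assoc : ∀ q < 24, ∀ q' < 24, ∀ r < 24,
    get qTab (get qTab q q') r = get qTab q (get qTab q' r) := by decide +kernel

theorem qmul_one : ∀ q < 24, get qTab 0 q = q ∧ qinv q < 24 ∧ get qTab (qinv q) q = 0 := by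
  decide +kernel

theorem act_mul : ∀ q < 24, ∀ x < 32, ∀ y < 32,
    get actTab q (emul x y) = emul (get actTab q x) (get actTab q y) := by decide +kernel

theorem act_one : ∀ x < 32, get actTab 0 x = x := by decide +kernel

theorem coc_act (b : Fin 4) : ∀ q < 24, ∀ q' < 24, ∀ x < 32,
    emul (get (cocTab b) q q') (get actTab (get qTab q q') x) =
      emul (get actTab q (get actTab q' x)) (get (cocTab b) q q') := by
  revert b; decide +kernel

theorem coc_coc (b : Fin 4) : ∀ q < 24, ∀ q' < 24, ∀ r < 24,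
    emul (get (cocTab b) q q') (get (cocTab b) (get qTab q q') r) =
      emul (get actTab q (get (cocTab b) q' r)) (get (cocTab b) q (get qTab q' r)) := by
  revert b; decide +kernel

theorem coc_one (b : Fin 4) : ∀ q < 24, get (cocTab b) 0 q = 0 := by
  revert b; decide +kernel

theorem mulN_mod (b : Fin 4) (u v : ℕ) :
    mulN b u v % 32 = emul (emul (u % 32) (get actTab (u / 32) (v % 32))) (get (cocTab b) (u / 32) (v / 32)) ∧
      mulN b u v / 32 = get qTab (u / 32) (v / 32) := by
  have h := emul_lt _ (emul_lt _ (Nat.mod_lt u (by norm_num)) _ (get_lt actTab (u / 32) (v % 32))) _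
    (get_lt (cocTab b) (u / 32) (v / 32))
  unfold mulN
  constructor <;> omega

theorem mulN_lt (b : Fin 4) {u v : ℕ} (hu : u < 768) (hv : v < 768) : mulN b u v < 768 := by
  have h1 := (mulN_mod b u v).2
  have h2 := qmul_lt (u / 32) (by omega) (v / 32) (by omega)
  omega

theorem invN_lt (b : Fin 4) {u : ℕ} (hu : u < 768) : invN b u < 768 := by
  have h1 := (qmul_one (u / 32) (by omega)).2.1
  have h2 := (einv_lt _ (emul_lt _ (get_lt actTab (qinv (u / 32)) (u % 32)) _
    (get_lt (cocTab b) (qinv (u / 32)) (u / 32)))).1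
  unfold invN
  omega

theorem mulN_assoc (b : Fin 4) {u v w : ℕ} (hu : u < 768) (hv : v < 768) (hw : w < 768) :
    mulN b (mulN b u v) w = mulN b u (mulN b v w) := by
  obtain ⟨h1, h2⟩ := mulN_mod b u v
  obtain ⟨h3, h4⟩ := mulN_mod b v w
  obtain ⟨h5, h6⟩ := mulN_mod b (mulN b u v) w
  obtain ⟨h7, h8⟩ := mulN_mod b u (mulN b v w)
  rw [h1, h2] at h5
  rw [h2] at h6
  rw [h3, h4] at h7
  rw [h4] at h8
  have hq : u / 32 < 24 := by omega
  have hq' : v / 32 < 24 := by omega
  have hr : w / 32 < 24 := by omega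
  have ha : u % 32 < 32 := Nat.mod_lt _ (by norm_num)
  have ha' : v % 32 < 32 := Nat.mod_lt _ (by norm_num)
  have ha'' : w % 32 < 32 := Nat.mod_lt _ (by norm_num)
  have hd : mulN b (mulN b u v) w / 32 = mulN b u (mulN b v w) / 32 := by
    rw [h6, h8, qmul_assoc _ hq _ hq' _ hr]
  have hm : mulN b (mulN b u v) w % 32 = mulN b u (mulN b v w) % 32 := by
    rw [h5, h7]
    have A := get_lt
    have M := emul_lt
    rw [act_mul _ hq _ (M _ ha' _ (A _ _ _)) _ (A _ _ _), act_mul _ hq _ ha' _ (A _ _ _)]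
    set a := u % 32
    set p := get actTab (u / 32) (v % 32) with hp
    set c := get (cocTab b) (u / 32) (v / 32) with hc
    set s := get actTab (get qTab (u / 32) (v / 32)) (w % 32) with hs
    set c' := get (cocTab b) (get qTab (u / 32) (v / 32)) (w / 32) with hc'
    set s' := get actTab (u / 32) (get actTab (v / 32) (w % 32)) with hs'
    set c'' := get actTab (u / 32) (get (cocTab b) (v / 32) (w / 32)) with hc''
    set c3 := get (cocTab b) (u / 32) (get qTab (v / 32) (w / 32)) with hc3
    have e1 : emul c s = emul s' c := coc_act b _ hq _ hq' _ ha''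
    have e2 : emul c c' = emul c'' c3 := coc_coc b _ hq _ hq' _ hr
    have lp : p < 32 := A _ _ _
    have lc : c < 32 := A _ _ _
    have ls : s < 32 := A _ _ _
    have lc' : c' < 32 := A _ _ _
    have ls' : s' < 32 := A _ _ _
    have lc'' : c'' < 32 := A _ _ _
    have lc3 : c3 < 32 := A _ _ _
    have lap : emul a p < 32 := M _ ha _ lp
    rw [emul_assoc _ lap _ lc _ ls, e1, ← emul_assoc _ lap _ ls' _ lc,
      emul_assoc _ (M _ lap _ ls') _ lc _ lc', e2, ← emul_assoc _ (M _ lap _ ls') _ lc'' _ lc3,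
      emul_assoc _ ha _ lp _ ls', emul_assoc _ ha _ (M _ lp _ ls') _ lc'']
  omega

theorem mulN_one (b : Fin 4) {u : ℕ} (hu : u < 768) : mulN b 0 u = u := by
  obtain ⟨h1, h2⟩ := mulN_mod b 0 u
  simp only [Nat.zero_mod, Nat.zero_div] at h1 h2
  rw [act_one _ (Nat.mod_lt _ (by norm_num)), (emul_zero _ (Nat.mod_lt _ (by norm_num))).1,
    coc_one b _ (show u / 32 < 24 by omega), (emul_zero _ (Nat.mod_lt _ (by norm_num))).2] at h1
  rw [(qmul_one _ (show u / 32 < 24 by omega)).1] at h2
  omega

theorem mulN_inv (b : Fin 4) {u : ℕ} (hu : u < 768) : mulN b (invN b u) u = 0 := by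
  obtain ⟨h1, h2⟩ := mulN_mod b (invN b u) u
  have hq := qmul_one (u / 32) (by omega)
  set y := emul (get actTab (qinv (u / 32)) (u % 32)) (get (cocTab b) (qinv (u / 32)) (u / 32)) with hy
  have hyl : y < 32 := emul_lt _ (get_lt _ _ _) _ (get_lt _ _ _)
  have hi := einv_lt y hyl
  have e1 : invN b u % 32 = einv y ∧ invN b u / 32 = qinv (u / 32) := by
    unfold invN
    rw [← hy]
    omega
  rw [e1.2] at h1 h2
  rw [e1.1, emul_assoc _ hi.1 _ (get_lt _ _ _) _ (get_lt _ _ _), ← hy, hi.2] at h1
  rw [hq.2.2] at h2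
  omega

/-- Variant `b` of the group of order 768. -/
structure K (b : Fin 4) where
  /-- the code `e + 32 q` -/
  n : Fin 768
deriving DecidableEq

variable {b : Fin 4}

theorem K.ext' {x y : K b} (h : x.n.val = y.n.val) : x = y := by
  cases x; cases y; exact congrArg K.mk (Fin.ext h)

/-- The element with a given code. -/
def mk (b : Fin 4) (u : ℕ) (h : u < 768 := by decide) : K b := ⟨⟨u, h⟩⟩

instance : Mul (K b) := ⟨fun x y => ⟨⟨mulN b x.n y.n, mulN_lt b x.n.2 y.n.2⟩⟩⟩

instance : One (K b) := ⟨⟨0⟩⟩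

instance : Inv (K b) := ⟨fun x => ⟨⟨invN b x.n, invN_lt b x.n.2⟩⟩⟩

theorem val_mul (x y : K b) : (x * y).n.val = mulN b x.n y.n := rfl

theorem val_inv (x : K b) : x⁻¹.n.val = invN b x.n := rfl

theorem val_one : (1 : K b).n.val = 0 := rfl

instance : Group (K b) :=
  Group.ofLeftAxioms
    (fun x y w => K.ext' (mulN_assoc b x.n.2 y.n.2 w.n.2))
    (fun x => K.ext' (mulN_one b x.n.2))
    (fun x => K.ext' (mulN_inv b x.n.2))

/-- The codes. -/
def equivFin (b : Fin 4) : K b ≃ Fin 768 where
  toFun := K.n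
  invFun := K.mk
  left_inv _ := rfl
  right_inv _ := rfl

instance : Fintype (K b) := Fintype.ofEquiv _ (equivFin b).symm

instance : Finite (K b) := Finite.of_equiv _ (equivFin b).symm

theorem card_K : Nat.card (K b) = 768 := by
  rw [Nat.card_congr (equivFin b), Nat.card_fin]

/-- The central involution. -/
def z0 (b : Fin 4) : K b := mk b 16

theorem val_mk {u : ℕ} (h : u < 768) : (mk b u h).n.val = u := rfl

/-- A property of all codes holds for all elements. -/
theorem forall_of_nat {P : ℕ → Prop} (h : ∀ u < 768, P u) (x : K b) : P x.n.val := h _ x.n.2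

theorem eq_iff {x y : K b} : x = y ↔ x.n.val = y.n.val := ⟨fun h => h ▸ rfl, K.ext'⟩

theorem commute_iff {x y : K b} : Commute x y ↔ mulN b x.n y.n = mulN b y.n x.n :=
  ⟨fun h => congrArg (fun w : K b => w.n.val) h.eq, fun h => K.ext' h⟩

theorem sq_eq_one_iff {x : K b} : x * x = 1 ↔ mulN b x.n x.n = 0 :=
  ⟨fun h => congrArg (fun w : K b => w.n.val) h, fun h => K.ext' h⟩

theorem card_subtype (P : ℕ → Prop) [DecidablePred P] {k : ℕ}
    (h : ((List.range 768).filter fun u => decide (P u)).length = k) :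
    Nat.card {x : K b // P x.n.val} = k := by
  classical
  have e : Nat.card {x : K b // P x.n.val} = Nat.card {i : Fin 768 // P i.val} :=
    Nat.card_congr ((equivFin b).subtypeEquiv (q := fun i : Fin 768 => P i.val) fun x => Iff.rfl)
  rw [e,
    Nat.card_eq_fintype_card, Fintype.card_subtype, ← h]
  rw [← List.toFinset_card_of_nodup (List.nodup_range.filter _)]
  refine Finset.card_bij (fun i _ => i.val) ?_ ?_ ?_
  · intro i hi
    simpa [i.2] using hi
  · intro i _ j _ e
    exact Fin.ext e
  · intro u hu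
    simp only [List.mem_toFinset, List.mem_filter, List.mem_range, decide_eq_true_eq] at hu
    exact ⟨⟨u, hu.1⟩, by simpa using hu.2, rfl⟩

end CfsgLib.InvChar.LThreeFourAut.Model
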