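import Cfsg.Agent.Lib.InvChar.LThreeFourAut.LocalLoc
import Cfsg.Agent.Lib.InvChar.LThreeFourAut.Model

/-!
The local facts in a centraliser isomorphic to one of the four models.
-/

set_option autoImplicit false

namespace CfsgLib.InvChar.LThreeFourAut

open Subgroup

universe u

variable {G : Type u} [Group G]

open Classical in
/-- The image of a code. -/
noncomputable def repFun {b : Fin 4} (φ : Model.K b →* G) (i : ℕ) : G :=
  if h : i < 768 then φ (Model.mk b i h) else 1

theorem rep_of_hom {z : G} {b : Fin 4} (φ : Model.K b →* G) (hφ : Function.Injective φ)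
    (hr : φ.range = cz z) (hz : φ (Model.z0 b) = z) : Facts.Rep z b (repFun φ) := by
  refine ⟨fun i hi j hj e => ?_, fun i hi j hj => ?_, fun g => ?_, ?_⟩
  · rw [repFun, repFun, dif_pos hi, dif_pos hj] at e
    exact congrArg (fun x : Model.K b => x.n.val) (hφ e)
  · rw [repFun, repFun, repFun, dif_pos hi, dif_pos hj, dif_pos (Facts.mulN_lt b hi hj), ← map_mul]
    exact congrArg φ (Model.K.ext' rfl)
  · rw [← hr, MonoidHom.mem_range]
    constructor
    · rintro ⟨x, rfl⟩
      exact ⟨x.n.val, x.n.2, by rw [repFun, dif_pos x.n.2]; rfl⟩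
    · rintro ⟨i, hi, rfl⟩
      exact ⟨Model.mk b i hi, by rw [repFun, dif_pos hi]⟩
  · rw [repFun, dif_pos (by norm_num : (16 : ℕ) < 768)]
    exact hz

/-- In each model the local data of one of the two kinds hold. -/
theorem loc_or_bad [Finite G] {z : G} {b : Fin 4} (φ : Model.K b →* G) (hφ : Function.Injective φ)
    (hr : φ.range = cz z) (hz : φ (Model.z0 b) = z) :
    (∃ (U T A B D : Subgroup G) (a w x o : G), Loc z U T A B D a w x o) ∨
      ∃ U : Subgroup G, Bad z U := by
  have R := rep_of_hom φ hφ hr hz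
  by_cases h0 : b = 0
  · subst h0
    exact Or.inl (Facts.exists_loc R)
  refine Or.inr ?_
  obtain ⟨U, T, D, mU, mT, -, cU, cT, -, -, hTD, hD, nU, nT, -⟩ := Facts.exists_UTD R
  have hB := Facts.base_of_rep R mU cU nU
  have h1 := Facts.roots1
  have h2 := Facts.roots2
  have h3 := Facts.roots3
  simp only [Bool.and_eq_true] at h1 h2 h3
  fin_cases b
  · exact absurd rfl h0
  · exact ⟨U, hB, Facts.roots_ne_of_rep R h1.1 mU, Or.inl (Facts.sq_of_rep R h1.2 mU)⟩
  · obtain ⟨A, B, h16, -⟩ := Facts.sixteen_of_rep R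
      (by simp only [Bool.and_eq_true]; exact ⟨⟨h2.1.1.2, h2.1.2⟩, h2.2⟩) mU mT cU cT hB.zU
      (hTD.trans hD) nT
    exact ⟨U, hB, Facts.roots_ne_of_rep R h2.1.1.1 mU, Or.inr ⟨T, A, B, h16⟩⟩
  · exact ⟨U, hB, Facts.roots_ne_of_rep R h3.1 mU, Or.inl (Facts.sq_of_rep R h3.2 mU)⟩

end CfsgLib.InvChar.LThreeFourAut
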