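import Cfsg.Agent.Lib.InvChar.LThreeFourAut.FactsChecks
import Mathlib.GroupTheory.Nilpotent

/-!
The facts shared by the four models, from the tables.
-/

set_option autoImplicit false
set_option linter.unusedSectionVars false
set_option maxRecDepth 100000

namespace CfsgLib.InvChar.LThreeFourAut.Facts

open Subgroup Model
open scoped commutatorElement

universe u

theorem subs_all (b : Fin 4) : subsOK b = true := by
  fin_cases b
  exacts [subs0, subs1, subs2, subs3]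

theorem syl_all (b : Fin 4) : sylOK b = true := by
  fin_cases b
  exacts [syl0, syl1, syl2, syl3]

theorem base_all (b : Fin 4) : baseOK b = true := by
  fin_cases b
  exacts [base0, base1, base2, base3]

theorem beq_false_ne {a c : ℕ} (h : ¬ Nat.beq a c = true) : a ≠ c := fun e => h (by rw [e]; exact Nat.beq_refl c)

variable {G : Type u} [Group G]

/-- A group with an abelian quotient by a solvable subgroup is solvable. -/
theorem solvable_ext (N H : Subgroup G) (hle : N ≤ H) [Group.IsSolvable ↥N]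
    (hn : ∀ h ∈ H, ∀ n ∈ N, h * n * h⁻¹ ∈ N) (hc : ∀ x ∈ H, ∀ y ∈ H, ⁅x, y⁆ ∈ N) :
    Group.IsSolvable ↥H := by
  haveI hnn : (N.subgroupOf H).Normal := ⟨fun n hn' g => hn g g.2 n hn'⟩
  haveI : Group.IsSolvable ↥(N.subgroupOf H) :=
    Group.isSolvable_of_isSolvable_injective (f := (subgroupOfEquivOfLe hle).toMonoidHom)
      (subgroupOfEquivOfLe hle).injective
  haveI : Group.IsSolvable (↥H ⧸ N.subgroupOf H) := by
    refine Group.isSolvable_of_comm fun a c => ?_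
    induction a using QuotientGroup.induction_on with
    | _ x =>
      induction c using QuotientGroup.induction_on with
      | _ y =>
        rw [← QuotientGroup.mk_mul, ← QuotientGroup.mk_mul, QuotientGroup.eq]
        show ((x : G) * y)⁻¹ * (y * x) ∈ N
        have := hc _ (inv_mem y.2) _ (inv_mem x.2)
        rw [commutatorElement_def] at this
        simpa [mul_assoc] using this
  exact (Group.isSolvable_iff_subgroup_quotient (N.subgroupOf H)).2 ⟨‹_›, ‹_›⟩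

variable [Finite G] {z : G} {b : Fin 4} {f : ℕ → G} (R : Rep z b f)
include R

theorem reach_ok : reachOK b (reachL b) (2 ^ 0) = true := by
  have h := subs_all b
  simp only [subsOK, Bool.and_eq_true] at h
  exact h.1.1.1.1.1.1.1.1.1

/-- The three subgroups `U`, `T` and `D`. -/
theorem exists_UTD : ∃ U T D : Subgroup G,
    (∀ g, g ∈ U ↔ ∃ i ∈ elems uM, f i = g) ∧ (∀ g, g ∈ T ↔ ∃ i ∈ elems tM, f i = g) ∧
    (∀ g, g ∈ D ↔ ∃ i ∈ elems dM, f i = g) ∧ Nat.card U = 4 ∧ Nat.card T = 64 ∧ Nat.card D = 192 ∧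
    U ≤ T ∧ T ≤ D ∧ D ≤ cz z ∧ (∀ h ∈ cz z, ∀ u ∈ U, h * u * h⁻¹ ∈ U) ∧
    (∀ h ∈ cz z, ∀ t ∈ T, h * t * h⁻¹ ∈ T) ∧ (∀ h ∈ cz z, ∀ d ∈ D, h * d * h⁻¹ ∈ D) := by
  have h := subs_all b
  simp only [subsOK, Bool.and_eq_true] at h
  obtain ⟨⟨⟨⟨⟨⟨⟨⟨⟨hr, su⟩, nu⟩, st⟩, nt⟩, sd⟩, nd⟩, lu⟩, lt⟩, -⟩ := h
  obtain ⟨U, cU, -, mU⟩ := R.exists_sub su
  obtain ⟨T, cT, -, mT⟩ := R.exists_sub st
  obtain ⟨D, cD, lD, mD⟩ := R.exists_sub sd
  simp only [leB, List.all_eq_true] at lu lt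
  refine ⟨U, T, D, mU, mT, mD, cU, cT, cD, ?_, ?_, lD, R.norm_all hr mU nu, R.norm_all hr mT nt,
    R.norm_all hr mD nd⟩
  · intro g hg
    obtain ⟨i, hi, rfl⟩ := (mU g).1 hg
    exact (mT _).2 ⟨i, mem_elems.2 ⟨(mem_elems.1 hi).1, lu i hi⟩, rfl⟩
  · intro g hg
    obtain ⟨i, hi, rfl⟩ := (mT g).1 hg
    exact (mD _).2 ⟨i, mem_elems.2 ⟨(mem_elems.1 hi).1, lt i hi⟩, rfl⟩

theorem comm_mem_D {D : Subgroup G} (mD : ∀ g, g ∈ D ↔ ∃ i ∈ elems dM, f i = g)
    (nD : ∀ h ∈ cz z, ∀ d ∈ D, h * d * h⁻¹ ∈ D) {x y : G} (hx : x ∈ cz z) (hy : y ∈ cz z) :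
    ⁅x, y⁆ ∈ D := by
  have h := subs_all b
  simp only [subsOK, Bool.and_eq_true, List.all_eq_true, List.any_eq_true] at h
  have hb := h.2
  have hr := reach_ok R
  have glt : ∀ g ∈ gens3, g < 768 := by decide
  have key : ∀ g ∈ gens3, ∀ g' ∈ gens3, ⁅f g, f g'⁆ ∈ D := by
    intro g hg g' hg'
    obtain ⟨d, hd, e⟩ := hb g hg g' hg'
    have hd' := (mem_elems.1 hd).1
    have e' : f g * f g' = f d * (f g' * f g) := by
      rw [← R.mul g (glt g hg) g' (glt g' hg'), ← R.mul g' (glt g' hg') g (glt g hg),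
        ← R.mul d hd' _ (Facts.mulN_lt b (glt g' hg') (glt g hg)), Nat.eq_of_beq_eq_true e]
    rw [commutatorElement_def, e']
    exact (mD _).2 ⟨d, hd, by group⟩
  have left : ∀ g ∈ gens3, ∀ w ∈ cz z, ⁅f g, w⁆ ∈ D := by
    intro g hg w hw
    refine (R.reach hr (fun w => w ∈ cz z ∧ ⁅f g, w⁆ ∈ D) ⟨one_mem _, by
      rw [commutatorElement_one_right]; exact one_mem D⟩
      (fun g' hg' => ⟨R.mem (glt g' hg'), key g hg g' hg'⟩) ?_ hw).2
    rintro p q ⟨hp, h1⟩ ⟨hq, h2⟩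
    refine ⟨mul_mem hp hq, ?_⟩
    rw [show ⁅f g, p * q⁆ = ⁅f g, p⁆ * (p * ⁅f g, q⁆ * p⁻¹) by
      simp only [commutatorElement_def]; group]
    exact mul_mem h1 (nD p hp _ h2)
  refine (R.reach hr (fun w => w ∈ cz z ∧ ∀ v ∈ cz z, ⁅w, v⁆ ∈ D) ⟨one_mem _, fun v _ => by
      rw [commutatorElement_one_left]; exact one_mem D⟩
    (fun g hg => ⟨R.mem (glt g hg), left g hg⟩) ?_ hx).2 y hy
  rintro p q ⟨hp, h1⟩ ⟨hq, h2⟩
  refine ⟨mul_mem hp hq, fun v hv => ?_⟩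
  rw [show ⁅p * q, v⁆ = (p * ⁅q, v⁆ * p⁻¹) * ⁅p, v⁆ by
    simp only [commutatorElement_def]; group]
  exact mul_mem (nD p hp _ (h2 v hv)) (h1 v hv)

theorem solvable_cz : Group.IsSolvable ↥(cz z) := by
  obtain ⟨U, T, D, -, -, mD, -, cT, cD, -, hTD, hD, -, nT, nD⟩ := exists_UTD R
  haveI : Fact (Nat.Prime 2) := ⟨Nat.prime_two⟩
  haveI : Fact (Nat.Prime 3) := ⟨Nat.prime_three⟩
  haveI : Group.IsNilpotent ↥T := (IsPGroup.of_card (p := 2) (n := 6) (by rw [cT]; norm_num)).isNilpotent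
  haveI : Group.IsSolvable ↥T := inferInstance
  haveI : Group.IsSolvable ↥D := by
    haveI : (T.subgroupOf D).Normal := ⟨fun n hn g => nT g (hD g.2) n hn⟩
    haveI : Group.IsSolvable ↥(T.subgroupOf D) :=
      Group.isSolvable_of_isSolvable_injective (f := (subgroupOfEquivOfLe hTD).toMonoidHom)
        (subgroupOfEquivOfLe hTD).injective
    have hq : Nat.card (↥D ⧸ T.subgroupOf D) = 3 := by
      have h := card_eq_card_quotient_mul_card_subgroup (T.subgroupOf D)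
      rw [cD, Nat.card_congr (subgroupOfEquivOfLe hTD).toEquiv, cT] at h
      omega
    haveI : Group.IsSolvable (↥D ⧸ T.subgroupOf D) := by
      haveI := isCyclic_of_prime_card hq
      exact Group.isSolvable_of_comm (IsCyclic.isMulCommutative (α := ↥D ⧸ T.subgroupOf D)).is_comm.comm
    exact (Group.isSolvable_iff_subgroup_quotient (T.subgroupOf D)).2 ⟨‹_›, ‹_›⟩
  exact solvable_ext D (cz z) hD nD fun x hx y hy => comm_mem_D R mD nD hx hy

theorem sylow_cz : ∃ S : Sylow 2 G, (S : Subgroup G) ≤ cz z := by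
  have h := syl_all b
  simp only [sylOK, Bool.and_eq_true, List.all_eq_true, Bool.or_eq_true, List.any_eq_true,
    Bool.not_eq_true'] at h
  obtain ⟨hs, hc⟩ := h
  obtain ⟨S, cS, lS, mS⟩ := R.exists_sub hs
  haveI : Fact (Nat.Prime 2) := ⟨Nat.prime_two⟩
  obtain ⟨P, hP⟩ := (IsPGroup.of_card (G := ↥S) (p := 2) (n := 8) (by rw [cS]; norm_num)).exists_le_sylow
  refine ⟨P, ?_⟩
  have hSP : (P : Subgroup G) ⊓ cz z = S := by
    refine (Subgroup.eq_of_le_of_card_ge (le_inf hP lS) ?_).symm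
    obtain ⟨k, hk⟩ := (IsPGroup.to_le P.2 inf_le_left : IsPGroup 2 ↥((P : Subgroup G) ⊓ cz z)).exists_card_eq
    have hd : Nat.card ↥((P : Subgroup G) ⊓ cz z) ∣ 768 :=
      R.card_cz ▸ Subgroup.card_dvd_of_le inf_le_right
    rw [cS, hk]
    rw [hk] at hd
    have : k ≤ 8 := by
      by_contra hlt
      have := (pow_dvd_pow 2 (show 9 ≤ k by omega)).trans hd
      norm_num at this
    exact le_trans (Nat.pow_le_pow_right (by norm_num) this) (by norm_num)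
  by_contra hne
  have hnP : Group.IsNilpotent ↥(P : Subgroup G) := P.2.isNilpotent
  have hlt : S.subgroupOf (P : Subgroup G) < ⊤ := by
    refine lt_top_iff_ne_top.2 fun e => hne ?_
    rw [subgroupOf_eq_top] at e
    exact e.trans lS
  obtain ⟨⟨g, hgP⟩, hgn, hgS⟩ := SetLike.exists_of_lt
    (normalizerCondition_of_isNilpotent (h := hnP) _ hlt)
  apply hgS
  show g ∈ S
  rw [← hSP]
  refine ⟨hgP, ?_⟩
  have hz16 : z ∈ S := by
    have e := base_all b
    simp only [baseOK, Bool.and_eq_true, List.all_eq_true] at e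
    rw [← hSP]
    refine ⟨?_, mem_centralizer_singleton_iff.2 rfl⟩
    have h16 : sM.testBit 16 = true := by decide +kernel
    exact hP ((mS z).2 ⟨16, mem_elems.2 ⟨by norm_num, h16⟩, R.hz⟩)
  have hn : ∀ s ∈ S, g * s * g⁻¹ ∈ S ∧ g⁻¹ * s * g ∈ S := by
    intro s hs
    have h1 := (mem_normalizer_iff.1 hgn ⟨s, hP hs⟩).1 hs
    have h2 := (mem_normalizer_iff.1 (inv_mem hgn) ⟨s, hP hs⟩).1 hs
    exact ⟨h1, by simpa [mem_subgroupOf] using h2⟩
  obtain ⟨i, hi, ei⟩ := (mS _).1 (hn z hz16).1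
  have hi' := (mem_elems.1 hi).1
  have zz : z * z = 1 := by
    have e := base_all b
    simp only [baseOK, Bool.and_eq_true, List.all_eq_true] at e
    have h16 : isInv b 16 = true := (e.2 16 (mem_elems.2 ⟨by norm_num, e.1.2⟩)).1
    have := (R.sq_iff (show 16 < 768 by norm_num)).2 h16
    rwa [R.hz] at this
  have hsq : f i * f i = 1 := by
    rw [ei, show g * z * g⁻¹ * (g * z * g⁻¹) = g * (z * z) * g⁻¹ by group, zz]
    group
  have hcen : ∀ s ∈ elems sM, commB b i s = true := by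
    intro s hs
    rw [← R.comm_iff hi' (mem_elems.1 hs).1, ei]
    have hs' : g⁻¹ * f s * g ∈ S := (hn _ ((mS _).2 ⟨s, hs, rfl⟩)).2
    have hcz := mem_centralizer_singleton_iff.1 (lS hs')
    calc g * z * g⁻¹ * f s = g * (z * (g⁻¹ * f s * g)) * g⁻¹ := by group
      _ = g * ((g⁻¹ * f s * g) * z) * g⁻¹ := by rw [hcz]
      _ = f s * (g * z * g⁻¹) := by group
  rcases hc i hi with ((h1 | h1) | h1) | ⟨s, hs, h1⟩
  · rw [(R.sq_iff hi').1 hsq] at h1
    exact absurd h1 (by simp)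
  · rw [Nat.eq_of_beq_eq_true h1, R.one] at ei
    have : z = 1 := conj_eq_one_iff.1 ei.symm
    rw [← R.hz, R.one_iff (by norm_num)] at this
    exact absurd this (by norm_num)
  · rw [Nat.eq_of_beq_eq_true h1, R.hz] at ei
    refine mem_centralizer_singleton_iff.2 ?_
    rw [eq_comm, mul_inv_eq_iff_eq_mul] at ei
    exact ei
  · rw [hcen s hs] at h1
    exact absurd h1 (by simp)

theorem base_of_rep {U : Subgroup G} (mU : ∀ g, g ∈ U ↔ ∃ i ∈ elems uM, f i = g)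
    (cU : Nat.card U = 4) (nU : ∀ h ∈ cz z, ∀ u ∈ U, h * u * h⁻¹ ∈ U) : Base z U := by
  have h := base_all b
  simp only [baseOK, Bool.and_eq_true, List.all_eq_true, List.mem_range, Bool.or_eq_true,
    Bool.not_eq_true', List.any_eq_true] at h
  obtain ⟨⟨hroot, h16⟩, hu⟩ := h
  have zU : z ∈ U := (mU z).2 ⟨16, mem_elems.2 ⟨by norm_num, h16⟩, R.hz⟩
  have other : ∀ g ∈ U, g ≠ 1 → g ≠ z → ∃ i ∈ elems uM, f i = g ∧ i ≠ 0 ∧ i ≠ 16 := by
    intro g hg h1 h2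
    obtain ⟨i, hi, rfl⟩ := (mU g).1 hg
    exact ⟨i, hi, rfl, fun e => h1 (by rw [e, R.one]), fun e => h2 (by rw [e, R.hz])⟩
  refine ⟨?_, R.card_cz, solvable_cz R, sylow_cz R, ?_, ?_, cU, ?_, zU, nU, ?_, ?_⟩
  · refine orderOf_eq_prime (p := 2) ?_ ?_
    · rw [pow_two, ← R.hz, R.sq_iff (by norm_num)]
      exact (hu 16 (mem_elems.2 ⟨by norm_num, h16⟩)).1
    · rw [← R.hz, Ne, R.one_iff (by norm_num)]
      norm_num
  · intro k hk h2
    obtain ⟨i, hi, rfl⟩ := (R.range k).1 hk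
    rcases hroot i hi with e | ⟨q, hq, e1, e2⟩
    · rw [(R.sq_iff hi).1 h2] at e
      exact absurd e (by simp)
    · exact ⟨f q, R.mem hq, (R.comm_iff hq hi).2 e1, by
        rw [← R.mul q hq q hq, Nat.eq_of_beq_eq_true e2, R.hz]⟩
  · intro g hg
    obtain ⟨i, hi, rfl⟩ := (mU g).1 hg
    exact R.mem (mem_elems.1 hi).1
  · intro g hg
    obtain ⟨i, hi, rfl⟩ := (mU g).1 hg
    exact (R.sq_iff (mem_elems.1 hi).1).2 (hu i hi).1
  · intro u hu' v hv' u1 uz v1 vz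
    obtain ⟨i, hi, rfl, i0, i16⟩ := other u hu' u1 uz
    obtain ⟨j, hj, rfl, j0, j16⟩ := other v hv' v1 vz
    rcases (hu i hi).2 with (e | e) | ⟨-, hcj⟩
    · exact absurd (Nat.eq_of_beq_eq_true e) i0
    · exact absurd (Nat.eq_of_beq_eq_true e) i16
    rcases hcj j hj with (e | e) | ⟨h, hh, e⟩
    · exact absurd (Nat.eq_of_beq_eq_true e) j0
    · exact absurd (Nat.eq_of_beq_eq_true e) j16
    exact ⟨f h, R.mem hh,
      (R.conj_iff hh (mem_elems.1 hi).1 (mem_elems.1 hj).1).2 (Nat.eq_of_beq_eq_true e)⟩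
  · intro u hu' u1 uz
    obtain ⟨i, hi, rfl, i0, i16⟩ := other u hu' u1 uz
    rcases (hu i hi).2 with (e | e) | ⟨e, -⟩
    · exact absurd (Nat.eq_of_beq_eq_true e) i0
    · exact absurd (Nat.eq_of_beq_eq_true e) i16
    · rw [R.card_inter (mem_elems.1 hi).1, Nat.eq_of_beq_eq_true e]

theorem roots_ne_of_rep (hr : rootsOK b = true) {U : Subgroup G}
    (mU : ∀ g, g ∈ U ↔ ∃ i ∈ elems uM, f i = g) :
    ∀ u ∈ U, u ≠ 1 → u ≠ z → roots z u z ≠ roots z u u := by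
  intro u hu u1 uz
  obtain ⟨i, hi, rfl⟩ := (mU u).1 hu
  have hi' := (mem_elems.1 hi).1
  simp only [rootsOK, List.all_eq_true, Bool.or_eq_true, Bool.not_eq_true'] at hr
  rcases hr i hi with (e | e) | e
  · exact absurd (by rw [Nat.eq_of_beq_eq_true e, R.one]) u1
  · exact absurd (by rw [Nat.eq_of_beq_eq_true e, R.hz]) uz
  · intro he
    have h16 := R.roots_eq hi' (show 16 < 768 by norm_num)
    rw [R.hz] at h16
    rw [h16, R.roots_eq hi' hi'] at he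
    rw [he] at e
    exact absurd (Nat.beq_refl _) (by rw [e]; simp)

theorem sq_of_rep {m : ℕ} (hs : sqOK b m = true) {H : Subgroup G}
    (mH : ∀ g, g ∈ H ↔ ∃ i ∈ elems m, f i = g) : ∀ q ∈ cz z, q ^ 4 = 1 → q * q ∈ H := by
  intro q hq h4
  obtain ⟨i, hi, rfl⟩ := (R.range q).1 hq
  simp only [sqOK, List.all_eq_true, List.mem_range, Bool.or_eq_true, Bool.not_eq_true'] at hs
  rcases hs i hi with e | e
  · rw [← R.pow hi, R.one_iff (powN_lt b hi 4)] at h4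
    rw [h4] at e
    exact absurd e (by simp)
  · exact (mH _).2 ⟨_, mem_elems.2 ⟨Facts.mulN_lt b hi hi, e⟩, R.mul i hi i hi⟩

theorem carry_map {m m' h : ℕ} (hh : h < 768) (hc : carries b m m' h = true) {H H' : Subgroup G}
    (mH : ∀ g, g ∈ H ↔ ∃ i ∈ elems m, f i = g) (mH' : ∀ g, g ∈ H' ↔ ∃ i ∈ elems m', f i = g)
    (hcard : Nat.card H' = Nat.card H) : H.map (MulAut.conj (f h)).toMonoidHom = H' := by
  refine Subgroup.eq_of_le_of_card_ge ?_ ?_
  · rintro _ ⟨g, hg, rfl⟩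
    obtain ⟨i, hi, rfl⟩ := (mH g).1 hg
    simp only [carries, List.all_eq_true, List.any_eq_true] at hc
    obtain ⟨j, hj, e⟩ := hc i hi
    refine (mH' _).2 ⟨j, hj, ?_⟩
    exact ((R.conj_iff hh (mem_elems.1 hi).1 (mem_elems.1 hj).1).2 (Nat.eq_of_beq_eq_true e)).symm
  · rw [hcard, Nat.card_congr (equivMapOfInjective H (MulAut.conj (f h)).toMonoidHom
      (MulAut.conj (f h)).injective).toEquiv]

theorem sixteen_of_rep (hs : (sqOK b tM && sixteenOK b && swapOK b) = true) {U T : Subgroup G}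
    (mU : ∀ g, g ∈ U ↔ ∃ i ∈ elems uM, f i = g) (mT : ∀ g, g ∈ T ↔ ∃ i ∈ elems tM, f i = g)
    (cU : Nat.card U = 4) (cT : Nat.card T = 64) (zU : z ∈ U) (hT : T ≤ cz z)
    (nT : ∀ h ∈ cz z, ∀ t ∈ T, h * t * h⁻¹ ∈ T) :
    ∃ A B : Subgroup G, Sixteen z U T A B ∧ (∀ g, g ∈ A ↔ ∃ i ∈ elems aM, f i = g) := by
  simp only [Bool.and_eq_true] at hs
  obtain ⟨⟨hsq, h16⟩, hsw⟩ := hs
  simp only [sixteenOK, Bool.and_eq_true, leB, List.all_eq_true, Bool.or_eq_true,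
    Bool.not_eq_true'] at h16
  obtain ⟨⟨⟨⟨⟨⟨⟨⟨sa, sb⟩, lat⟩, lbt⟩, lua⟩, lub⟩, ea⟩, eb⟩, ht⟩ := h16
  obtain ⟨A, cA, -, mA⟩ := R.exists_sub sa
  obtain ⟨B, cB, -, mB⟩ := R.exists_sub sb
  simp only [swapOK, Bool.and_eq_true, List.all_eq_true, Bool.or_eq_true, List.any_eq_true,
    List.mem_range, Bool.not_eq_true'] at hsw
  obtain ⟨⟨⟨⟨h0, hh0, hcar⟩, a320⟩, u320⟩, horb⟩ := hsw
  have notU : ∀ a ∈ elems aM, f a ∉ U → uM.testBit a = false := by
    intro a ha hn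
    refine Bool.eq_false_iff.2 fun e => hn ?_
    exact (mU _).2 ⟨a, mem_elems.2 ⟨(mem_elems.1 ha).1, e⟩, rfl⟩
  have orb0 : ∀ a ∈ A, a ∉ U → ∃ h ∈ cz z, A.map (MulAut.conj h).toMonoidHom = A ∧
      h * f 320 * h⁻¹ = a := by
    intro a ha haU
    obtain ⟨i, hi, rfl⟩ := (mA a).1 ha
    rcases horb i hi with e | ⟨-, h, hh, e1, e2⟩
    · rw [notU i hi haU] at e
      exact absurd e (by simp)
    · exact ⟨f h, R.mem hh, carry_map R hh (by simpa [carries, normBy] using e2) mA mA rfl,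
        (R.conj_iff hh (by norm_num) (mem_elems.1 hi).1).2 (Nat.eq_of_beq_eq_true e1)⟩
  have hmapmap : ∀ {h k : G} {X Y W : Subgroup G}, X.map (MulAut.conj k).toMonoidHom = Y →
      Y.map (MulAut.conj h).toMonoidHom = W → X.map (MulAut.conj (h * k)).toMonoidHom = W := by
    intro h k X Y W e1 e2
    rw [← e2, ← e1, Subgroup.map_map]
    congr 1
    ext x
    simp
  refine ⟨A, B,
    { cardT := cT
      hA := ?_
      hB := ?_
      eA := ?_
      eB := ?_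
      cardA := cA
      cardB := cB
      inter := ?_
      cardU := cU
      zU := zU
      nA := ?_
      nB := ?_
      selfA := ?_
      selfB := ?_
      invol := ?_
      commU := ?_
      hT := hT
      nT := nT
      swap := ?_
      orbitA := ?_
      centA := ?_
      sq := sq_of_rep R hsq mT }, mA⟩
  · intro g hg
    obtain ⟨i, hi, rfl⟩ := (mA g).1 hg
    exact (mT _).2 ⟨i, mem_elems.2 ⟨(mem_elems.1 hi).1, lat i hi⟩, rfl⟩
  · intro g hg
    obtain ⟨i, hi, rfl⟩ := (mB g).1 hg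
    exact (mT _).2 ⟨i, mem_elems.2 ⟨(mem_elems.1 hi).1, lbt i hi⟩, rfl⟩
  · intro g hg
    obtain ⟨i, hi, rfl⟩ := (mA g).1 hg
    exact (R.sq_iff (mem_elems.1 hi).1).2 (ea i hi).1
  · intro g hg
    obtain ⟨i, hi, rfl⟩ := (mB g).1 hg
    exact (R.sq_iff (mem_elems.1 hi).1).2 (eb i hi)
  · ext g
    constructor
    · rintro ⟨hga, hgb⟩
      obtain ⟨i, hi, rfl⟩ := (mA g).1 hga
      obtain ⟨j, hj, e⟩ := (mB _).1 hgb
      obtain rfl := R.inj j (mem_elems.1 hj).1 i (mem_elems.1 hi).1 e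
      rcases (ea j hi).2 with e' | e'
      · rw [(mem_elems.1 hj).2] at e'
        exact absurd e' (by simp)
      · exact (mU _).2 ⟨j, mem_elems.2 ⟨(mem_elems.1 hj).1, e'⟩, rfl⟩
    · intro hg
      obtain ⟨i, hi, rfl⟩ := (mU g).1 hg
      exact ⟨(mA _).2 ⟨i, mem_elems.2 ⟨(mem_elems.1 hi).1, lua i hi⟩, rfl⟩,
        (mB _).2 ⟨i, mem_elems.2 ⟨(mem_elems.1 hi).1, lub i hi⟩, rfl⟩⟩
  · intro t ht' a ha
    obtain ⟨i, hi, rfl⟩ := (mT t).1 ht'
    obtain ⟨j, hj, rfl⟩ := (mA a).1 ha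
    have h := (ht i hi).1.1.1.1.1
    simp only [normBy, List.all_eq_true, List.any_eq_true] at h
    obtain ⟨k, hk, e⟩ := h j hj
    exact (mA _).2 ⟨k, hk, ((R.conj_iff (mem_elems.1 hi).1 (mem_elems.1 hj).1
      (mem_elems.1 hk).1).2 (Nat.eq_of_beq_eq_true e)).symm⟩
  · intro t ht' a ha
    obtain ⟨i, hi, rfl⟩ := (mT t).1 ht'
    obtain ⟨j, hj, rfl⟩ := (mB a).1 ha
    have h := (ht i hi).1.1.1.1.2
    simp only [normBy, List.all_eq_true, List.any_eq_true] at h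
    obtain ⟨k, hk, e⟩ := h j hj
    exact (mB _).2 ⟨k, hk, ((R.conj_iff (mem_elems.1 hi).1 (mem_elems.1 hj).1
      (mem_elems.1 hk).1).2 (Nat.eq_of_beq_eq_true e)).symm⟩
  · intro a ha haU t ht' e
    obtain ⟨i, hi, rfl⟩ := (mT t).1 ht'
    obtain ⟨j, hj, rfl⟩ := (mA a).1 ha
    rcases (ht i hi).1.2 j hj with (e' | e') | e'
    · rw [notU j hj haU] at e'
      exact absurd e' (by simp)
    · exact (mA _).2 ⟨i, mem_elems.2 ⟨(mem_elems.1 hi).1, e'⟩, rfl⟩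
    · rw [(R.comm_iff (mem_elems.1 hi).1 (mem_elems.1 hj).1).1 e] at e'
      exact absurd e' (by simp)
  · intro a ha haU t ht' e
    obtain ⟨i, hi, rfl⟩ := (mT t).1 ht'
    obtain ⟨j, hj, rfl⟩ := (mB a).1 ha
    rcases (ht i hi).2 j hj with (e' | e') | e'
    · exact absurd ((mU _).2 ⟨j, mem_elems.2 ⟨(mem_elems.1 hj).1, e'⟩, rfl⟩) haU
    · exact (mB _).2 ⟨i, mem_elems.2 ⟨(mem_elems.1 hi).1, e'⟩, rfl⟩
    · rw [(R.comm_iff (mem_elems.1 hi).1 (mem_elems.1 hj).1).1 e] at e'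
      exact absurd e' (by simp)
  · intro t ht' e
    obtain ⟨i, hi, rfl⟩ := (mT t).1 ht'
    have hi' := (mem_elems.1 hi).1
    rcases (ht i hi).1.1.1.2 with (e' | e') | e'
    · rw [(R.sq_iff hi').1 e] at e'
      exact absurd e' (by simp)
    · exact Or.inl ((mA _).2 ⟨i, mem_elems.2 ⟨hi', e'⟩, rfl⟩)
    · exact Or.inr ((mB _).2 ⟨i, mem_elems.2 ⟨hi', e'⟩, rfl⟩)
  · intro u hu t ht'
    obtain ⟨i, hi, rfl⟩ := (mT t).1 ht'
    obtain ⟨j, hj, rfl⟩ := (mU u).1 hu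
    exact (R.comm_iff (mem_elems.1 hi).1 (mem_elems.1 hj).1).2 ((ht i hi).1.1.2 j hj)
  · exact ⟨f h0, R.mem hh0, carry_map R hh0 hcar mA mB (cB.trans cA.symm)⟩
  · intro a ha haU c hc hcU
    obtain ⟨h, hh, h1, h2⟩ := orb0 a ha haU
    obtain ⟨k, hk, k1, k2⟩ := orb0 c hc hcU
    have hinv : A.map (MulAut.conj h⁻¹).toMonoidHom = A := by
      conv_lhs => rw [← h1]
      rw [Subgroup.map_map]
      convert Subgroup.map_id A using 2
      ext x
      simp [mul_assoc]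
    exact ⟨k * h⁻¹, mul_mem hk (inv_mem hh), hmapmap hinv k1, by rw [← h2, ← k2]; group⟩
  · intro a ha haU
    obtain ⟨i, hi, rfl⟩ := (mA a).1 ha
    rcases horb i hi with e | ⟨e, -⟩
    · rw [notU i hi haU] at e
      exact absurd e (by simp)
    · rw [R.card_inter (mem_elems.1 hi).1, Nat.eq_of_beq_eq_true e]

end CfsgLib.InvChar.LThreeFourAut.Facts
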