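import Cfsg.Agent.Lib.InvChar.LThreeFourAut.LocalBase
import Cfsg.Agent.Lib.InvChar.LThreeFourAut.FactsLoc

/-!
The local data of the model of the automorphism group of the linear group.
-/

set_option autoImplicit false
set_option linter.unusedSectionVars false
set_option maxRecDepth 100000

namespace CfsgLib.InvChar.LThreeFourAut.Facts

open Subgroup Model
open scoped commutatorElement

universe u

variable {G : Type u} [Group G] [Finite G] {z : G} {f : ℕ → G} (R : Rep z 0 f)
include R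

theorem gens_lt : ∀ g ∈ gens3, g < 768 := by decide

theorem normal_cases {U T D : Subgroup G} (mU : ∀ g, g ∈ U ↔ ∃ i ∈ elems uM, f i = g)
    (mT : ∀ g, g ∈ T ↔ ∃ i ∈ elems tM, f i = g) (mD : ∀ g, g ∈ D ↔ ∃ i ∈ elems dM, f i = g)
    (zz : z * z = 1) (hU : ∀ u ∈ U, u * u = 1)
    (M : Subgroup G) (hUM : U ≤ M) (hMD : M ≤ D) (hn : ∀ h ∈ cz z, ∀ m ∈ M, h * m * h⁻¹ ∈ M) :
    M = U ∨ T ≤ M ∨ ((∃ q ∈ M, q * q = z) ∧ ∀ q ∈ M, q * q = 1 ∨ q * q = z) := by
  by_cases hT : T ≤ M
  · exact Or.inr (Or.inl hT)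
  by_cases hU' : M = U
  · exact Or.inl hU'
  have hgen : ∀ g ∈ gens3, ∀ m ∈ M, f g * m * (f g)⁻¹ ∈ M := fun g hg m hm =>
    hn _ (R.mem (gens_lt R g hg)) m hm
  have hbase : ∀ r < 768, f r ∈ M → ∀ v < 768, baseUr r v = true → f v ∈ M := by
    intro r _ hr v hv hb
    simp only [baseUr, Bool.or_eq_true] at hb
    rcases hb with e | e
    · exact hUM ((mU _).2 ⟨v, mem_elems.2 ⟨hv, e⟩, rfl⟩)
    · rw [Nat.eq_of_beq_eq_true e]; exact hr
  -- what membership of one element forces
  have seed : ∀ r ∈ ([4, 64, 65, 68, 320, 328] : List ℕ), f r ∈ M →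
      (∃ q ∈ M, q * q = z) ∧ (f r * f r = 1 ∨ f r * f r = z) := by
    intro r hr hrM
    have hr' : r < 768 := by
      simp only [List.mem_cons, List.not_mem_nil, or_false] at hr
      omega
    by_cases h4 : r = 4
    · subst h4
      have h := norm_four
      simp only [Bool.and_eq_true] at h
      obtain ⟨⟨hd, hq⟩, hz⟩ := h
      have hq' := blt_lt hq
      obtain ⟨s, hs, hin⟩ := R.derive hd M (hbase 4 hr' hrM) hgen (fun e => absurd e (by simp))
      refine ⟨⟨f rootFour, hin _ hq' hs, by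
        rw [← R.mul _ hq' _ hq', Nat.eq_of_beq_eq_true hz, R.hz]⟩, ?_⟩
      have h4 := four_sq
      rw [Bool.or_eq_true] at h4
      rcases h4 with e | e
      · exact Or.inl ((R.sq_iff hr').2 e)
      · exact Or.inr (by rw [← R.mul _ hr' _ hr', Nat.eq_of_beq_eq_true e, R.hz])
    · exfalso
      apply hT
      have hb : ∃ q ∈ bigRep, q.2 = r := by
        simp only [List.mem_cons, List.not_mem_nil, or_false] at hr
        rcases hr with rfl | rfl | rfl | rfl | rfl | rfl
        · exact absurd rfl h4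
        all_goals simp [bigRep]
      obtain ⟨q, hq, rfl⟩ := hb
      have hd := List.all_eq_true.1 norm_big q hq
      obtain ⟨s, hs, hin⟩ := R.derive hd M (hbase _ hr' hrM) hgen (fun e => absurd e (by simp))
      intro t ht
      obtain ⟨i, hi, rfl⟩ := (mT t).1 ht
      exact hin i (mem_elems.1 hi).1 (List.all_eq_true.1 hs i hi)
  -- spread over the classes
  have all : ∀ d ∈ elems dM, uM.testBit d = false → f d ∈ M →
      (∃ q ∈ M, q * q = z) ∧ (f d * f d = 1 ∨ f d * f d = z) := by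
    suffices H : ∀ (L : List (ℕ × ℕ × ℕ)) (seen : ℕ), classOK L seen = true →
        (∀ j < 768, seen.testBit j = true → f j ∈ M →
          (∃ q ∈ M, q * q = z) ∧ (f j * f j = 1 ∨ f j * f j = z)) →
        ∀ d ∈ elems dM, uM.testBit d = false → f d ∈ M →
          (∃ q ∈ M, q * q = z) ∧ (f d * f d = 1 ∨ f d * f d = z) from
      H classSeq 0 class_ok (by simp)
    intro L
    induction L with
    | nil =>
      intro seen h hs d hd hu
      simp only [classOK, List.all_eq_true, Bool.or_eq_true] at h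
      rcases h d hd with e | e
      · rw [hu] at e; exact absurd e (by simp)
      · exact hs d (mem_elems.1 hd).1 e
    | cons e L ih =>
      obtain ⟨v, p, g⟩ := e
      intro seen h hs
      simp only [classOK, Bool.and_eq_true] at h
      obtain ⟨⟨⟨hv, -⟩, h1⟩, h2⟩ := h
      have hv' := blt_lt hv
      refine ih _ h2 fun j hj hb => ?_
      rw [Nat.testBit_or, Bool.or_eq_true, Nat.testBit_two_pow, decide_eq_true_iff] at hb
      rcases hb with hb | rfl
      · exact hs j hj hb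
      cases hg : Nat.beq g 0
      · rw [hg, cond_false, Bool.and_eq_true, Bool.and_eq_true, Bool.and_eq_true] at h1
        obtain ⟨⟨⟨hp, hpl⟩, hgm⟩, he⟩ := h1
        rw [List.contains_iff_mem] at hgm
        have hg' := gens_lt R g hgm
        have hp' := blt_lt hpl
        have e := (R.conj_iff hg' hp' hv').2 (Nat.eq_of_beq_eq_true he)
        intro hvM
        have hpM : f p ∈ M := by
          have := hn _ (inv_mem (R.mem hg')) _ hvM
          rw [← e] at this
          simpa [mul_assoc] using this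
        obtain ⟨a1, a2⟩ := hs p hp' hp hpM
        refine ⟨a1, ?_⟩
        rw [← e, show f g * f p * (f g)⁻¹ * (f g * f p * (f g)⁻¹) = f g * (f p * f p) * (f g)⁻¹ by
          group]
        rcases a2 with a2 | a2
        · left; rw [a2]; group
        · right
          rw [a2, mem_centralizer_singleton_iff.1 (R.mem hg'), mul_inv_cancel_right]
      · rw [hg, cond_true, List.contains_iff_mem] at h1
        exact seed v h1
  refine Or.inr (Or.inr ⟨?_, ?_⟩)
  · obtain ⟨m, hm, hmU⟩ := SetLike.exists_of_lt (lt_of_le_of_ne hUM (Ne.symm hU'))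
    obtain ⟨i, hi, rfl⟩ := (mD m).1 (hMD hm)
    refine (all i hi (Bool.eq_false_iff.2 fun e => hmU ?_) hm).1
    exact (mU _).2 ⟨i, mem_elems.2 ⟨(mem_elems.1 hi).1, e⟩, rfl⟩
  · intro m hm
    obtain ⟨i, hi, rfl⟩ := (mD m).1 (hMD hm)
    cases hu : uM.testBit i
    · exact (all i hi hu hm).2
    · exact Or.inl (hU _ ((mU _).2 ⟨i, mem_elems.2 ⟨(mem_elems.1 hi).1, hu⟩, rfl⟩))

theorem top_T {U T : Subgroup G} (mU : ∀ g, g ∈ U ↔ ∃ i ∈ elems uM, f i = g)
    (mT : ∀ g, g ∈ T ↔ ∃ i ∈ elems tM, f i = g) (cT : Nat.card T = 64) (zU : z ∈ U)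
    (M : Subgroup G) (cM : Nat.card M = 64) (hM : M ≤ centralizer (U : Set G))
    (hn : ∀ c ∈ centralizer (U : Set G), ∀ m ∈ M, c * m * c⁻¹ ∈ M) : M = T := by
  refine Subgroup.eq_of_le_of_card_ge ?_ (by rw [cT, cM])
  intro m hm
  have hle : centralizer (U : Set G) ≤ cz z :=
    centralizer_le (Set.singleton_subset_iff.2 zU)
  obtain ⟨q, hq, rfl⟩ := (R.range m).1 (hle (hM hm))
  have hord : ∀ i < 768, f i ∈ M → powN 0 i 64 = 0 := by
    intro i hi hiM
    have h1 := pow_card_eq_one' (x := (⟨f i, hiM⟩ : M))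
    rw [cM] at h1
    have h2 : f i ^ 64 = 1 := by simpa using congrArg Subtype.val h1
    rwa [← R.pow hi, R.one_iff (powN_lt 0 hi 64)] at h2
  have memC : ∀ i < 768, f i ∈ centralizer (U : Set G) →
      ((elems uM).all fun u => commB 0 i u) = true := by
    intro i hi h
    refine List.all_eq_true.2 fun u hu => (R.comm_iff hi (mem_elems.1 hu).1).1 ?_
    exact (mem_centralizer_iff.1 h _ ((mU _).2 ⟨u, hu, rfl⟩)).symm
  have h := top_ok
  simp only [topOK, List.all_eq_true, List.mem_filter, List.mem_range, Bool.or_eq_true,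
    List.any_eq_true, Bool.and_eq_true, Bool.not_eq_true'] at h
  rcases h q ⟨hq, fun u hu => List.all_eq_true.1 (memC q hq (hM hm)) u hu⟩ with
    (e | e) | ⟨c, ⟨hc, hcU⟩, x, ⟨hx, -⟩, e1, e2⟩
  · exact (mT _).2 ⟨q, mem_elems.2 ⟨hq, e⟩, rfl⟩
  · rw [hord q hq hm] at e
    exact absurd e (by simp)
  · exfalso
    have hcC : f c ∈ centralizer (U : Set G) := by
      refine mem_centralizer_iff.2 fun y hy => ?_
      obtain ⟨u, hu, rfl⟩ := (mU y).1 hy
      exact ((R.comm_iff hc (mem_elems.1 hu).1).2 (hcU u hu)).symm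
    have hxM : f x ∈ M := by
      rw [← (R.conj_iff hc hq hx).2 (Nat.eq_of_beq_eq_true e1)]
      exact hn _ hcC _ hm
    have := hord _ (Facts.mulN_lt 0 hq hx) (by rw [R.mul q hq x hx]; exact mul_mem hm hxM)
    rw [this] at e2
    exact absurd e2 (by simp)

theorem eight_of {k m : ℕ} (hk : k < 768) (h : eightOK k m = true) : Eight z (f k) := by
  simp only [eightOK, cent32, Bool.and_eq_true, List.all_eq_true, List.any_eq_true,
    Bool.or_eq_true, Bool.not_eq_true'] at h
  obtain ⟨⟨⟨⟨⟨hi, h0⟩, hs, hc⟩, hd⟩, hall⟩, hex⟩ := h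
  obtain ⟨H, cH, lH, mH⟩ := R.exists_sub hs
  refine ⟨R.mem hk, (R.sq_iff hk).2 hi, fun e => ?_, fun e => ?_, H, ?_, cH, ?_, ?_⟩
  · rw [R.one_iff hk] at e
    rw [e] at h0
    exact absurd h0 (by simp)
  · rw [R.card_inter hk] at e
    have := Nat.le_of_ble_eq_true hd
    omega
  · intro g hg
    refine ⟨lH hg, ?_⟩
    obtain ⟨i, hi', rfl⟩ := (mH g).1 hg
    exact (R.mem_centralizer_iff (mem_elems.1 hi').1 hk).2 (hc i hi')
  · intro g hg
    obtain ⟨i, hi', rfl⟩ := (mH g).1 hg
    rcases hall i hi' with e | e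
    · left; rw [← R.pow (mem_elems.1 hi').1, Nat.eq_of_beq_eq_true e, R.one]
    · right; rw [← R.pow (mem_elems.1 hi').1, Nat.eq_of_beq_eq_true e, R.hz]
  · obtain ⟨i, hi', e⟩ := hex
    exact ⟨f i, (mH _).2 ⟨i, hi', rfl⟩, by
      rw [← R.pow (mem_elems.1 hi').1, Nat.eq_of_beq_eq_true e, R.hz]⟩

theorem derived_le {D : Subgroup G} (mD : ∀ g, g ∈ D ↔ ∃ i ∈ elems dM, f i = g) :
    D ≤ ⁅cz z, cz z⁆ := by
  obtain ⟨s, hs, hin⟩ := R.derive derived_ok ⁅cz z, cz z⁆
    (fun v _ e => by rw [Nat.eq_of_beq_eq_true e, R.one]; exact one_mem _)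
    (fun g hg m hm => by
      have hg' := R.mem (gens_lt R g hg)
      have hc : (cz z).map (MulAut.conj (f g)).toMonoidHom = cz z := by
        refine Subgroup.eq_of_le_of_card_ge ?_ (le_of_eq ?_)
        · rintro _ ⟨y, hy, rfl⟩
          exact mul_mem (mul_mem hg' hy) (inv_mem hg')
        · rw [Nat.card_congr (equivMapOfInjective (cz z) (MulAut.conj (f g)).toMonoidHom
            (MulAut.conj (f g)).injective).toEquiv]
      have := Subgroup.mem_map_of_mem (MulAut.conj (f g)).toMonoidHom hm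
      rw [map_commutator, hc] at this
      exact this)
    (fun _ x hx y hy => commutator_mem_commutator (R.mem hx) (R.mem hy))
  intro g hg
  obtain ⟨i, hi, rfl⟩ := (mD g).1 hg
  exact hin i (mem_elems.1 hi).1 (List.all_eq_true.1 hs i hi)

/-- The local data in this model. -/
theorem exists_loc : ∃ (U T A B D : Subgroup G) (a w x o : G), Loc z U T A B D a w x o := by
  obtain ⟨U, T, D, mU, mT, mD, cU, cT, cD, -, hTD, hD, nU, nT, nD⟩ := exists_UTD R
  have hB := base_of_rep R mU cU nU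
  have hT : T ≤ cz z := hTD.trans hD
  obtain ⟨A, B, h16, -⟩ := sixteen_of_rep R sixteen0 mU mT cU cT hB.zU hT nT
  have h := elts_ok
  simp only [Bool.and_eq_true, List.all_eq_true, List.any_eq_true, List.mem_range, Bool.or_eq_true,
    Bool.not_eq_true'] at h
  obtain ⟨⟨⟨⟨⟨⟨⟨⟨⟨⟨⟨aD, a0⟩, a3⟩, aU⟩, aT⟩, w2⟩, wD⟩, xD⟩, oD⟩, wc⟩, wall⟩, wex⟩ := h
  have ha : aElt < 768 := by decide
  have hw : wElt < 768 := by decide
  have hx : xElt < 768 := by decide
  have ho : oElt < 768 := by decide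
  have he := eight_ok
  rw [Bool.and_eq_true] at he
  have notD : ∀ i < 768, dM.testBit i = false → f i ∉ D := by
    intro i hi e hmem
    obtain ⟨j, hj, e'⟩ := (mD _).1 hmem
    obtain rfl := R.inj j (mem_elems.1 hj).1 i hi e'
    rw [(mem_elems.1 hj).2] at e
    exact absurd e (by simp)
  have inD : ∀ i < 768, dM.testBit i = true → f i ∈ D := fun i hi e =>
    (mD _).2 ⟨i, mem_elems.2 ⟨hi, e⟩, rfl⟩
  have z2 : z * z = 1 := hB.eU z hB.zU
  refine ⟨U, T, A, B, D, f aElt, f wElt, f xElt, f oElt, {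
      hB, h16 with
      hTD := hTD
      hD := hD
      cardD := cD
      nD := nD
      derived := derived_le R mD
      normal := normal_cases R mU mT mD z2 hB.eU
      topT := top_T R mU mT cT hB.zU
      ha := inD _ ha aD
      orderA := ?_
      aU := ?_
      afix := ?_
      cover := ?_
      hw := R.mem hw
      wsq := (R.sq_iff hw).2 w2
      hwD := notD _ hw wD
      wcard := by rw [R.card_inter hw, Nat.eq_of_beq_eq_true wc]
      wroot := ⟨?_, ?_⟩
      wclass := ?_
      eightX := eight_of R hx he.1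
      eightO := eight_of R ho he.2
      hxD := notD _ hx xD
      hoD := notD _ ho oD
      big := ?_
      small := ?_ }⟩
  · haveI : Fact (Nat.Prime 3) := ⟨Nat.prime_three⟩
    refine orderOf_eq_prime ?_ ?_
    · rw [← R.pow ha, Nat.eq_of_beq_eq_true a3, R.one]
    · rw [Ne, R.one_iff ha]
      intro e
      rw [e] at a0
      exact absurd a0 (by simp)
  · intro v hv
    obtain ⟨i, hi, rfl⟩ := (mU v).1 hv
    exact (R.comm_iff ha (mem_elems.1 hi).1).2 (aU i hi)
  · intro t ht e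
    obtain ⟨i, hi, rfl⟩ := (mT t).1 ht
    rcases aT i hi with e' | e'
    · rw [(R.comm_iff ha (mem_elems.1 hi).1).1 e] at e'
      exact absurd e' (by simp)
    · exact (mU _).2 ⟨i, mem_elems.2 ⟨(mem_elems.1 hi).1, e'⟩, rfl⟩
  · intro g hg
    obtain ⟨i, hi, rfl⟩ := (R.range g).1 hg
    have hc := List.all_eq_true.1 cover_ok i (List.mem_range.2 hi)
    simp only [Bool.or_eq_true, List.any_eq_true] at hc
    rcases hc with e | ⟨d, hd, (e | e) | e⟩
    · exact Or.inl (inD i hi e)
    · refine Or.inr (Or.inl ?_)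
      rw [← Nat.eq_of_beq_eq_true e, R.mul d (mem_elems.1 hd).1 _ hw, mul_inv_cancel_right]
      exact (mD _).2 ⟨d, hd, rfl⟩
    · refine Or.inr (Or.inr (Or.inl ?_))
      rw [← Nat.eq_of_beq_eq_true e, R.mul d (mem_elems.1 hd).1 _ hx, mul_inv_cancel_right]
      exact (mD _).2 ⟨d, hd, rfl⟩
    · refine Or.inr (Or.inr (Or.inr ?_))
      rw [← Nat.eq_of_beq_eq_true e, R.mul d (mem_elems.1 hd).1 _ ho, mul_inv_cancel_right]
      exact (mD _).2 ⟨d, hd, rfl⟩
  · rintro q ⟨hq, hqw⟩
    obtain ⟨i, hi, rfl⟩ := (R.range q).1 hq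
    rcases wall i hi with (e | e) | e
    · rw [(R.mem_centralizer_iff hi hw).1 hqw] at e
      exact absurd e (by simp)
    · left; rw [← R.mul i hi i hi, Nat.eq_of_beq_eq_true e, R.one]
    · right; rw [← R.mul i hi i hi, Nat.eq_of_beq_eq_true e, R.hz]
  · obtain ⟨i, hi, e1, e2⟩ := wex
    exact ⟨f i, ⟨R.mem hi, (R.mem_centralizer_iff hi hw).2 e1⟩, by
      rw [← R.mul i hi i hi, Nat.eq_of_beq_eq_true e2, R.hz]⟩
  · intro k hk k2 hkD
    obtain ⟨d, hd, e⟩ := (mD _).1 hkD
    have hd' := (mem_elems.1 hd).1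
    have hk' : k = f (mulN 0 d wElt) := by
      rw [R.mul d hd' _ hw, e]
      group
    subst hk'
    have hl := Facts.mulN_lt 0 hd' hw
    have hc := List.all_eq_true.1 wclass_ok d hd
    simp only [Bool.or_eq_true, List.any_eq_true, List.mem_range, Bool.not_eq_true'] at hc
    rcases hc with e' | ⟨h, hh, e'⟩
    · rw [(R.sq_iff hl).1 k2] at e'
      exact absurd e' (by simp)
    · exact ⟨f h, R.mem hh, (R.conj_iff hh hw hl).2 (Nat.eq_of_beq_eq_true e')⟩
  · intro k hk k2 hkD
    obtain ⟨i, hi, rfl⟩ := (R.range k).1 hk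
    have hb := List.all_eq_true.1 big_ok i (List.mem_range.2 hi)
    simp only [Bool.or_eq_true, List.any_eq_true, Bool.not_eq_true', cent32, Bool.and_eq_true,
      List.all_eq_true] at hb
    rcases hb with (e | ⟨d, hd, e⟩) | ⟨q, -, e, hs, hc⟩
    · rw [(R.sq_iff hi).1 k2] at e
      exact absurd e (by simp)
    · refine absurd ?_ hkD
      rw [← Nat.eq_of_beq_eq_true e, R.mul d (mem_elems.1 hd).1 _ hw, mul_inv_cancel_right]
      exact (mD _).2 ⟨d, hd, rfl⟩
    · obtain ⟨Y, cY, lY, mY⟩ := R.exists_sub hs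
      refine ⟨Y, fun g hg => ⟨lY hg, ?_⟩, cY⟩
      obtain ⟨j, hj, rfl⟩ := (mY g).1 hg
      have := hc j hj
      exact (R.mem_centralizer_iff (mem_elems.1 hj).1 hi).2 this
  · intro k hk k2
    obtain ⟨i, hi, rfl⟩ := (mD k).1 hk
    have hi' := (mem_elems.1 hi).1
    have hb := List.all_eq_true.1 small_ok i hi
    simp only [Bool.or_eq_true, List.any_eq_true, Bool.not_eq_true', cent32, Bool.and_eq_true,
      List.all_eq_true] at hb
    rcases hb with e | ⟨q, -, ⟨e, hs, hc⟩, h4⟩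
    · rw [(R.sq_iff hi').1 k2] at e
      exact absurd e (by simp)
    · obtain ⟨Y, cY, lY, mY⟩ := R.exists_sub hs
      refine ⟨Y, fun g hg => ⟨lY hg, ?_⟩, cY, ?_⟩
      · obtain ⟨j, hj, rfl⟩ := (mY g).1 hg
        have := hc j hj
        exact (R.mem_centralizer_iff (mem_elems.1 hj).1 hi').2 this
      · intro g hg
        obtain ⟨j, hj, rfl⟩ := (mY g).1 hg
        rw [← R.pow (mem_elems.1 hj).1, Nat.eq_of_beq_eq_true (h4 j hj), R.one]

end CfsgLib.InvChar.LThreeFourAut.Facts
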