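import Cfsg.Agent.Lib.InvChar.LThreeFourAut.Fusion
import Cfsg.Agent.Lib.Transfer.Thompson

/-!
Two Thompson transfers (statement 3237): a normal subgroup of index four meeting `C(z)` in `D`.
-/

set_option autoImplicit false

namespace CfsgLib.InvChar.LThreeFourAut

open Subgroup

universe u

variable {G : Type u} [Group G]

/-- A `2`-subgroup `W` of `C` equal to every `2`-subgroup of `C` normalising it and containing it
contains a conjugate of every `2`-subgroup of `C`. -/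
theorem exists_conj_le [Finite G] {C W : Subgroup G} (hW : W ≤ C) (pW : IsPGroup 2 W)
    (h : ∀ Q : Subgroup G, Q ≤ C → IsPGroup 2 Q → W ≤ Q →
      (∀ n ∈ Q, ∀ y ∈ W, n * y * n⁻¹ ∈ W) → Q = W)
    {Y : Subgroup G} (hY : Y ≤ C) (pY : IsPGroup 2 Y) :
    ∃ c ∈ C, Y.map (MulAut.conj c).toMonoidHom ≤ W := by
  haveI : Fact (Nat.Prime 2) := ⟨Nat.prime_two⟩
  have pW' : IsPGroup 2 (W.subgroupOf C) := pW.of_equiv (subgroupOfEquivOfLe hW).symm
  have pY' : IsPGroup 2 (Y.subgroupOf C) := pY.of_equiv (subgroupOfEquivOfLe hY).symm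
  obtain ⟨P0, hP0⟩ := pW'.exists_le_sylow
  obtain ⟨P1, hP1⟩ := pY'.exists_le_sylow
  have hPW : (P0 : Subgroup C) = W.subgroupOf C := by
    by_contra hne
    have hlt : (W.subgroupOf C).subgroupOf (P0 : Subgroup C) < ⊤ :=
      lt_top_iff_ne_top.2 fun e => hne (le_antisymm (subgroupOf_eq_top.1 e) hP0)
    haveI : Group.IsNilpotent P0 := P0.isPGroup'.isNilpotent
    obtain ⟨n, hnN, hnW⟩ := SetLike.exists_of_lt (normalizerCondition_of_isNilpotent _ hlt)
    let n' : G := ((n : C) : G)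
    have hWN : W ≤ (P0 : Subgroup C).map C.subtype := fun y hy =>
      ⟨⟨y, hW hy⟩, hP0 (mem_subgroupOf.2 hy), rfl⟩
    have hnW' : ∀ y ∈ W, n' * y * n'⁻¹ ∈ W := fun y hy =>
      mem_subgroupOf.1 (mem_subgroupOf.1 ((mem_normalizer_iff.1 hnN ⟨⟨y, hW hy⟩,
        hP0 (mem_subgroupOf.2 hy)⟩).1 (mem_subgroupOf.2 (mem_subgroupOf.2 hy))))
    have hnP : n' ∈ (P0 : Subgroup C).map C.subtype := ⟨n, n.2, rfl⟩
    have hle : W ⊔ zpowers n' ≤ (P0 : Subgroup C).map C.subtype :=
      sup_le hWN (zpowers_le.2 hnP)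
    have hN : ∀ m ∈ W ⊔ zpowers n', ∀ y ∈ W, m * y * m⁻¹ ∈ W := by
      have h1 : W ⊔ zpowers n' ≤ normalizer (W : Set G) :=
        sup_le le_normalizer (zpowers_le.2 (mem_normalizer_fintype (S := (W : Set G)) hnW'))
      exact fun m hm y hy => (mem_normalizer_iff.1 (h1 hm) y).1 hy
    have := h (W ⊔ zpowers n') (hle.trans (map_subtype_le _))
      ((P0.isPGroup'.map C.subtype).to_le hle) le_sup_left hN
    exact hnW (mem_subgroupOf.2 (mem_subgroupOf.2
      (this ▸ (le_sup_right : zpowers n' ≤ W ⊔ zpowers n') (mem_zpowers n'))))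
  obtain ⟨c, hc⟩ := MulAction.exists_smul_eq C P1 P0
  refine ⟨c, c.2, ?_⟩
  rintro _ ⟨y, hy, rfl⟩
  have hmem : c * ⟨y, hY hy⟩ * c⁻¹ ∈ (P0 : Subgroup C) := by
    rw [← hc, Sylow.coe_subgroup_smul]
    exact ⟨_, hP1 (mem_subgroupOf.2 hy), rfl⟩
  rw [hPW] at hmem
  exact mem_subgroupOf.1 hmem

theorem isPGroup_of_card_eq {P : Subgroup G} {n : ℕ} (h : Nat.card P = 2 ^ n) : IsPGroup 2 P :=
  IsPGroup.of_card (n := n) h

namespace Eight

variable {z r : G} (E : Eight z r)
include E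

/-- A subgroup of order 32 centralising `r` has an element of order 8. -/
theorem exists_pow_four [Finite G] (hz1 : z ≠ 1) {Y : Subgroup G} (hY : Y ≤ cz r)
    (hc : Nat.card Y = 32) : ∃ q ∈ Y, q ^ 4 ≠ 1 := by
  obtain ⟨P, hP, hPc, hP4, q0, hq0, hq04⟩ := E.exists_sub
  have h32 : Nat.card P = 2 ^ 5 := hPc
  have hmax : ∀ Q : Subgroup G, Q ≤ cz r → IsPGroup 2 Q → P ≤ Q →
      (∀ n ∈ Q, ∀ y ∈ P, n * y * n⁻¹ ∈ P) → Q = P := by
    intro Q hQ pQ hPQ hn
    have hQH : Q ≤ cz z ⊓ cz r := le_inf (fun n hnQ => mem_cz.2 (by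
      have h1 : (n * q0 * n⁻¹) ^ 4 = n * z * n⁻¹ := by rw [conj_pow, hq04]
      rcases hP4 _ (hn n hnQ q0 hq0) with e | e
      · exact absurd (conj_eq_one_iff.1 (h1.symm.trans e)) hz1
      · exact mul_inv_eq_iff_eq_mul.1 (h1.symm.trans e))) hQ
    by_contra hne
    obtain ⟨k, hk⟩ := pQ.exists_card_eq
    have h5 : 5 < k := (Nat.pow_lt_pow_iff_right (le_refl 2)).1 (by
      rw [← h32, ← hk]
      exact lt_of_le_of_ne (card_le_of_le hPQ) fun e =>
        hne (Subgroup.eq_of_le_of_card_ge hPQ e.ge).symm)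
    exact E.not_dvd (((Nat.pow_dvd_pow 2 h5).trans hk.symm.dvd).trans (card_dvd_of_le hQH))
  obtain ⟨c, -, hle⟩ := exists_conj_le (C := cz r) (W := P) (hP.trans inf_le_right)
    (isPGroup_of_card_eq h32) hmax hY (isPGroup_of_card_eq (n := 5) hc)
  have heq : Y.map (MulAut.conj c).toMonoidHom = P :=
    Subgroup.eq_of_le_of_card_ge hle (by rw [card_map_conj', hc, hPc])
  obtain ⟨y, hy, hyq⟩ := heq.symm ▸ hq0
  refine ⟨y, hy, fun e => hz1 ?_⟩
  rw [← hq04, ← hyq, ← map_pow, e, map_one]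

end Eight

theorem TwoSixteen.conj_mem_of_pow_three {z : G} {U T A B : Subgroup G}
    (X : TwoSixteen z U T A B) {g : G} (h3 : g ^ 3 = 1) (hT : ∀ t ∈ T, g * t * g⁻¹ ∈ T) :
    ∀ y ∈ A, g * y * g⁻¹ ∈ A := by
  have hcases : ∀ E : Subgroup G, E = A ∨ E = B →
      E.map (MulAut.conj g).toMonoidHom = A ∨ E.map (MulAut.conj g).toMonoidHom = B := by
    rintro E (rfl | rfl) <;> refine X.eq_or_eq ?_ ?_ ?_
    · rintro _ ⟨b, hb, rfl⟩
      exact hT b (X.hA hb)
    · rintro _ ⟨b, hb, rfl⟩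
      rw [← map_mul, X.eA b hb, map_one]
    · rw [card_map_conj', X.cardA]
    · rintro _ ⟨b, hb, rfl⟩
      exact hT b (X.hB hb)
    · rintro _ ⟨b, hb, rfl⟩
      rw [← map_mul, X.eB b hb, map_one]
    · rw [card_map_conj', X.cardB]
  intro y hy
  rcases hcases A (Or.inl rfl) with e | e
  · exact e ▸ ⟨y, hy, rfl⟩
  · have hinj : Function.Injective (fun E : Subgroup G => E.map (MulAut.conj g).toMonoidHom) :=
      map_injective (MulAut.conj g).injective
    obtain ⟨b, hb, hbU⟩ := X.exists_not_mem_U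
    rcases hcases B (Or.inr rfl) with e' | e'
    · have h : g * (g * (g * b * g⁻¹) * g⁻¹) * g⁻¹ ∈ B :=
        e ▸ ⟨_, e' ▸ ⟨_, e ▸ ⟨b, hb, rfl⟩, rfl⟩, rfl⟩
      rw [show g * (g * (g * b * g⁻¹) * g⁻¹) * g⁻¹ = g ^ 3 * b * (g ^ 3)⁻¹ by
        rw [pow_three]; group, h3, one_mul, inv_one, mul_one] at h
      exact absurd (X.inter ▸ mem_inf.2 ⟨hb, h⟩) hbU
    · exact absurd (X.inter ▸ mem_inf.2 ⟨hb, hinj (e.trans e'.symm) ▸ hb⟩) hbU

/-- The union of `D` and its coset by an involution normalising it. -/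
def twoCoset (D : Subgroup G) (s : G) (hs : s * s = 1) (hn : ∀ d ∈ D, s * d * s⁻¹ ∈ D) :
    Subgroup G where
  carrier := {h | h ∈ D ∨ h * s⁻¹ ∈ D}
  one_mem' := Or.inl (one_mem D)
  mul_mem' := by
    have hs' : s⁻¹ = s := inv_eq_of_mul_eq_one_right hs
    rintro p q (hp | hp) (hq | hq)
    · exact Or.inl (mul_mem hp hq)
    · exact Or.inr (by rw [mul_assoc]; exact mul_mem hp hq)
    · refine Or.inr ?_
      rw [show p * q * s⁻¹ = p * s⁻¹ * (s * q * s⁻¹) by group]
      exact mul_mem hp (hn q hq)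
    · refine Or.inl ?_
      have : p * q = p * s⁻¹ * (s * (q * s⁻¹) * s⁻¹) * (s * s) := by group
      rw [this, hs, mul_one]
      exact mul_mem hp (hn _ hq)
  inv_mem' := by
    have hs' : s⁻¹ = s := inv_eq_of_mul_eq_one_right hs
    rintro p (hp | hp)
    · exact Or.inl (inv_mem hp)
    · refine Or.inr ?_
      rw [show p⁻¹ * s⁻¹ = s⁻¹ * (p * s⁻¹)⁻¹ * s⁻¹ by group]
      have := hn _ (inv_mem hp)
      rwa [hs'] at this ⊢

namespace Loc

variable {z : G} {U T A B D : Subgroup G} {a w x o : G} (S : Loc z U T A B D a w x o)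
include S

/-- `D` has no subgroup of index two. -/
theorem D_le {M : Subgroup G} (hM : ∀ p ∈ D, ∀ q ∈ D, p * q ∈ M ↔ (p ∈ M ↔ q ∈ M)) :
    D ≤ M := by
  have X := S.toSixteen.toTwoSixteen
  haveI : Finite T := Nat.finite_of_card_ne_zero (by rw [S.cardT]; norm_num)
  have haM : a ∈ M := by
    have h1 : a ^ 3 = 1 := S.orderA ▸ pow_orderOf_eq_one a
    have := hM a S.ha (a * a) (mul_mem S.ha S.ha)
    rw [← mul_assoc, show a * a * a = a ^ 3 by rw [pow_three, mul_assoc], h1, hM a S.ha a S.ha] at this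
    simp only [one_mem, true_iff, iff_true] at this
    exact this
  have hcomm : ∀ p ∈ D, ∀ q ∈ D, p * q * p⁻¹ * q⁻¹ ∈ M := by
    intro p hp q hq
    have hpi : p⁻¹ ∈ D := inv_mem hp
    have hqi : q⁻¹ ∈ D := inv_mem hq
    rw [hM _ (mul_mem (mul_mem hp hq) hpi) _ hqi, hM _ (mul_mem hp hq) _ hpi,
      hM _ hp _ hq, inv_mem_iff, inv_mem_iff]
    tauto
  -- `U` consists of commutators
  have hUM : U ≤ M := by
    obtain ⟨a0, ha0, ha0U⟩ := X.exists_not_mem_U
    have hcA : ∀ b ∈ B, a0 * b * a0⁻¹ * b⁻¹ ∈ U := fun b hb => by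
      rw [← X.inter]
      refine mem_inf.2 ⟨?_, mul_mem (X.nB a0 (X.hA ha0) b hb) (inv_mem hb)⟩
      rw [show a0 * b * a0⁻¹ * b⁻¹ = a0 * (b * a0⁻¹ * b⁻¹) by group]
      exact mul_mem ha0 (X.nA b (X.hB hb) _ (inv_mem ha0))
    haveI : Finite B := Nat.finite_of_card_ne_zero (by rw [S.cardB]; norm_num)
    let f : B →* U :=
      { toFun := fun b => ⟨_, hcA b b.2⟩
        map_one' := Subtype.ext (by simp)
        map_mul' := fun b c => Subtype.ext (by
          change a0 * (b * c : G) * a0⁻¹ * (b * c : G)⁻¹ =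
            a0 * b * a0⁻¹ * (b : G)⁻¹ * (a0 * c * a0⁻¹ * (c : G)⁻¹)
          have hc' := X.commU _ (hcA c c.2) (b : G) (X.hB b.2)
          calc a0 * (b * c : G) * a0⁻¹ * (b * c : G)⁻¹
              = a0 * b * a0⁻¹ * (a0 * c * a0⁻¹ * (c : G)⁻¹) * (b : G)⁻¹ := by group
            _ = a0 * b * a0⁻¹ * (b : G)⁻¹ * ((b : G) * (a0 * c * a0⁻¹ * (c : G)⁻¹)) * (b : G)⁻¹ :=
              by group
            _ = _ := by rw [hc']; group) }
    have hker : f.ker = U.subgroupOf B := by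
      ext b
      rw [MonoidHom.mem_ker, mem_subgroupOf, Subtype.ext_iff]
      change a0 * b * a0⁻¹ * (b : G)⁻¹ = 1 ↔ _
      rw [mul_inv_eq_one, mul_inv_eq_iff_eq_mul]
      constructor
      · intro e
        rw [← X.inter]
        exact mem_inf.2 ⟨X.selfA a0 ha0 ha0U _ (X.hB b.2) e.symm, b.2⟩
      · exact fun e => X.commU _ e a0 (X.hA ha0)
    haveI : Finite U := Nat.finite_of_card_ne_zero (by rw [X.cardU]; norm_num)
    have hr : f.range = ⊤ := by
      refine Subgroup.eq_top_of_card_eq _ ?_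
      have h1 := Subgroup.card_mul_index f.ker
      rw [Subgroup.index_ker, hker, Nat.card_congr (subgroupOfEquivOfLe X.hUB).toEquiv,
        S.cardB, X.cardU] at h1
      rw [X.cardU]
      omega
    intro v hv
    obtain ⟨b, hb⟩ : (⟨v, hv⟩ : U) ∈ f.range := hr ▸ mem_top _
    have hb' : a0 * b * a0⁻¹ * (b : G)⁻¹ = v := congrArg Subtype.val hb
    exact hb' ▸ hcomm _ (S.hTD (X.hA ha0)) _ (S.hTD (X.hB b.2))
  have hfix : ∀ y ∈ T, y ∉ U → a * y * a⁻¹ * y⁻¹ ∉ U := by
    intro y hy hyU hv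
    refine hyU (S.afix y hy ?_)
    have e1 : a * y * a⁻¹ = a * y * a⁻¹ * y⁻¹ * y := by group
    generalize hvd : a * y * a⁻¹ * y⁻¹ = v at hv e1
    have hva : a * v * a⁻¹ = v := by rw [S.aU v hv, mul_inv_cancel_right]
    have h3 : a ^ 3 * y * (a ^ 3)⁻¹ = v * v * v * y := by
      have f : ∀ p : G, a * (v * p) * a⁻¹ = v * (a * p * a⁻¹) := fun p => by
        calc a * (v * p) * a⁻¹ = a * v * a⁻¹ * (a * p * a⁻¹) := by group
          _ = v * (a * p * a⁻¹) := by rw [hva]
      calc a ^ 3 * y * (a ^ 3)⁻¹ = a * (a * (a * y * a⁻¹) * a⁻¹) * a⁻¹ := by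
            rw [pow_three]; group
        _ = v * v * v * y := by rw [e1, f, e1, f, f, e1]; group
    rw [show a ^ 3 = 1 from S.orderA ▸ pow_orderOf_eq_one a, one_mul, inv_one, mul_one,
      X.eU v hv, one_mul] at h3
    have hv1 : v = 1 := mul_eq_right.1 h3.symm
    rw [hv1, one_mul] at e1
    exact mul_inv_eq_iff_eq_mul.1 e1
  -- the elementary subgroups lie in `M`
  have hEM : ∀ E : Subgroup G, U ≤ E → E ≤ T → (∀ y ∈ E, a * y * a⁻¹ ∈ E) →
      Nat.card E = 16 → E ≤ M := by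
    intro E hUE hET haE hE16
    by_contra hnot
    obtain ⟨e, he, heM⟩ := SetLike.not_le_iff_exists.1 hnot
    haveI : Finite E := Nat.finite_of_card_ne_zero (by rw [hE16]; norm_num)
    haveI : Finite U := Nat.finite_of_card_ne_zero (by rw [X.cardU]; norm_num)
    have hi : (M.subgroupOf E).index = 2 := by
      rw [index_eq_two_iff]
      refine ⟨⟨e, he⟩, fun b => ?_⟩
      rw [mem_subgroupOf, mem_subgroupOf, coe_mul, hM b (S.hTD (hET b.2)) e (S.hTD (hET he))]
      by_cases hb : (b : G) ∈ M <;> simp [hb, heM]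
    have h8 : Nat.card (M.subgroupOf E) = 8 := by
      have := card_mul_index (M.subgroupOf E)
      rw [hi, hE16] at this
      omega
    obtain ⟨e0, he0, he0U⟩ : ∃ y ∈ M.subgroupOf E, (y : G) ∉ U := by
      by_contra h
      push Not at h
      have := Nat.card_le_card_of_injective
        (fun y : M.subgroupOf E => (⟨(y : E), h y y.2⟩ : U))
        (fun p q e => Subtype.ext (Subtype.ext (Subtype.mk.inj e)))
      rw [h8, X.cardU] at this
      omega
    have he1 : a * (e0 : G) * a⁻¹ ∈ M := by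
      have hae := mul_mem S.ha (S.hTD (hET e0.2))
      rw [hM _ hae _ (inv_mem S.ha), hM _ S.ha _ (S.hTD (hET e0.2))]
      simp [haM, mem_subgroupOf.1 he0]
    -- three cosets of `U` inside
    let g : Fin 3 × U → M.subgroupOf E := fun p =>
      ⟨⟨![1, (e0 : G), a * e0 * a⁻¹] p.1 * (p.2 : G), by
        obtain ⟨i, v⟩ := p
        fin_cases i
        · simpa using hUE v.2
        · exact mul_mem e0.2 (hUE v.2)
        · exact mul_mem (haE _ e0.2) (hUE v.2)⟩, by
        obtain ⟨i, v⟩ := p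
        rw [mem_subgroupOf]
        fin_cases i
        · simpa using hUM v.2
        · exact mul_mem (mem_subgroupOf.1 he0) (hUM v.2)
        · exact mul_mem he1 (hUM v.2)⟩
    have hg : Function.Injective g := by
      rintro ⟨i, v⟩ ⟨j, v'⟩ h
      have h' : ![1, (e0 : G), a * e0 * a⁻¹] i * (v : G) =
          ![1, (e0 : G), a * e0 * a⁻¹] j * (v' : G) :=
        congrArg (fun t : M.subgroupOf E => ((t : E) : G)) h
      have hsame : i = j → (i, v) = (j, v') := by
        rintro rfl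
        exact Prod.ext rfl (Subtype.ext (mul_left_cancel h'))
      have hU' : (![1, (e0 : G), a * e0 * a⁻¹] i)⁻¹ * ![1, (e0 : G), a * e0 * a⁻¹] j ∈ U := by
        have : (![1, (e0 : G), a * e0 * a⁻¹] i)⁻¹ * ![1, (e0 : G), a * e0 * a⁻¹] j =
            (v : G) * (v' : G)⁻¹ := by
          rw [eq_mul_inv_iff_mul_eq, mul_assoc, ← h', inv_mul_cancel_left]
        exact this ▸ mul_mem v.2 (inv_mem v'.2)
      have hne : a * (e0 : G) * a⁻¹ ∉ U := fun h1 => he0U (by
        have h2 : (e0 : G) = a⁻¹ * (a * e0 * a⁻¹) * a := by group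
        rw [h2, mul_assoc, ← S.aU _ h1, inv_mul_cancel_left]
        exact h1)
      have hne2 : (e0 : G)⁻¹ * (a * e0 * a⁻¹) ∉ U := fun h1 => hfix _ (hET e0.2) he0U (by
        have h2 := X.commU _ h1 (e0 : G) (hET e0.2)
        rw [show a * (e0 : G) * a⁻¹ * (e0 : G)⁻¹ =
          (e0 : G) * ((e0 : G)⁻¹ * (a * e0 * a⁻¹)) * (e0 : G)⁻¹ by group, h2, mul_inv_cancel_right]
        exact h1)
      fin_cases i <;> fin_cases j <;> simp at hU' <;>
        first
          | exact hsame rfl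
          | exact absurd hU' he0U
          | exact absurd hU' hne
          | exact absurd hU' hne2
          | exact absurd (by simpa [mul_assoc] using inv_mem hU') hne2
          | exact absurd (by simpa [mul_assoc] using inv_mem hU') hne
    have := Nat.card_le_card_of_injective g hg
    rw [h8, Nat.card_prod, Nat.card_fin, X.cardU] at this
    omega
  have hz' : a ∈ cz z := S.hD S.ha
  have h3 : a ^ 3 = 1 := S.orderA ▸ pow_orderOf_eq_one a
  have hAM := hEM A X.hUA X.hA (X.conj_mem_of_pow_three h3 (S.nT a hz')) X.cardA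
  have hBM := hEM B X.hUB X.hB (X.symm.conj_mem_of_pow_three h3 (S.nT a hz')) X.cardB
  have hTM : T ≤ M := by
    have hsup : A ⊔ B = T := by
      refine Subgroup.eq_of_le_of_card_ge (sup_le X.hA X.hB) ?_
      haveI : Finite ↥(A ⊔ B) := Finite.of_injective _
        (inclusion_injective (sup_le X.hA X.hB))
      have h1 := Subgroup.card_mul_index (A.subgroupOf (A ⊔ B))
      rw [Nat.card_congr (subgroupOfEquivOfLe (le_sup_left : A ≤ A ⊔ B)).toEquiv, X.cardA] at h1
      have h2 := Subgroup.card_mul_index (A.subgroupOf B)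
      rw [← inf_subgroupOf_right, X.inter,
        Nat.card_congr (subgroupOfEquivOfLe X.hUB).toEquiv, X.cardU, X.cardB] at h2
      have h4 : A.relIndex B ≤ A.relIndex (A ⊔ B) :=
        relIndex_le_of_le_right le_sup_right index_ne_zero_of_finite
      rw [show A.relIndex B = (U.subgroupOf B).index by
        rw [← X.inter, relIndex, inf_subgroupOf_right], relIndex] at h4
      rw [X.cardT]
      omega
    exact hsup ▸ sup_le hAM hBM
  haveI : (T.subgroupOf D).Normal :=
    ⟨fun t ht d => mem_subgroupOf.2 (S.nT d (S.hD d.2) t (mem_subgroupOf.1 ht))⟩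
  have hi : (T.subgroupOf D).index = 3 := by
    have h1 := Subgroup.card_mul_index (T.subgroupOf D)
    rw [Nat.card_congr (subgroupOfEquivOfLe S.hTD).toEquiv, X.cardT, S.cardD] at h1
    omega
  intro d hd
  have h := (T.subgroupOf D).pow_index_mem ⟨d, hd⟩
  rw [hi, mem_subgroupOf, coe_pow] at h
  change d ^ 3 ∈ T at h
  have h' := hTM h
  rw [show d ^ 3 = d * (d * d) from pow_three d, hM d hd _ (mul_mem hd hd), hM d hd d hd] at h'
  tauto

theorem nD' : ∀ h ∈ cz z, ∀ d : G, d ∈ D ↔ h * d * h⁻¹ ∈ D := fun h hh d =>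
  ⟨S.nD h hh d, fun e => by
    have := S.nD _ (inv_mem hh) _ e
    rwa [show h⁻¹ * (h * d * h⁻¹) * h⁻¹⁻¹ = d by group] at this⟩

/-- No three cosets of `D` cover `C(z)`. -/
theorem not_cover [Finite G] (p q : G) : ∃ h ∈ cz z, h ∉ D ∧ h * p⁻¹ ∉ D ∧ h * q⁻¹ ∉ D := by
  classical
  by_contra hc
  push Not at hc
  let f : cz z → Fin 3 × D := fun h =>
    if h1 : (h : G) ∈ D then (0, ⟨h, h1⟩)
    else if h2 : (h : G) * p⁻¹ ∈ D then (1, ⟨_, h2⟩) else (2, ⟨_, hc h h.2 h1 h2⟩)
  have hf : Function.Injective f := by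
    intro g k hgk
    have h' := congrArg (fun t : Fin 3 × D => ((t.2 : G) * ![1, p, q] t.1)) hgk
    have hval : ∀ h : cz z, ((f h).2 : G) * ![1, p, q] (f h).1 = h := by
      intro h
      simp only [f]
      split_ifs <;> simp
    simp only [hval] at h'
    exact Subtype.ext h'
  have := Nat.card_le_card_of_injective f hf
  rw [S.cardH, Nat.card_prod, Nat.card_fin, S.cardD] at this
  omega

/-- The three outer cosets are distinct. -/
theorem distinct [Finite G] : w * x⁻¹ ∉ D ∧ w * o⁻¹ ∉ D ∧ x * o⁻¹ ∉ D := by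
  refine ⟨fun e => ?_, fun e => ?_, fun e => ?_⟩
  · obtain ⟨h, hh, h1, h2, h3⟩ := S.not_cover x o
    rcases S.cover h hh with c | c | c | c
    · exact h1 c
    · exact h2 (by simpa [mul_assoc] using mul_mem c e)
    · exact h2 c
    · exact h3 c
  · obtain ⟨h, hh, h1, h2, h3⟩ := S.not_cover x o
    rcases S.cover h hh with c | c | c | c
    · exact h1 c
    · exact h3 (by simpa [mul_assoc] using mul_mem c e)
    · exact h2 c
    · exact h3 c
  · obtain ⟨h, hh, h1, h2, h3⟩ := S.not_cover w o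
    rcases S.cover h hh with c | c | c | c
    · exact h1 c
    · exact h2 c
    · exact h3 (by simpa [mul_assoc] using mul_mem c e)
    · exact h3 c

/-- A transfer: an involution `r` of `C(z)` outside `D` none of whose conjugates lies in the
union of `D` and one further coset `Ds` is avoided by a normal subgroup of index two. -/
theorem exists_index_two [Finite G] {r s t : G} (hr : r ∈ cz z) (hr2 : r * r = 1) (hrD : r ∉ D)
    (hs : s ∈ cz z) (hs2 : s * s = 1) (hsD : s ∉ D) (ht : t ∈ cz z)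
    (hcov : ∀ h ∈ cz z, h ∈ D ∨ h * r⁻¹ ∈ D ∨ h * s⁻¹ ∈ D ∨ h * t⁻¹ ∈ D)
    (hrs : r * s⁻¹ ∉ D) (hrt : r * t⁻¹ ∉ D) (htD : t ∉ D)
    (hK : ∀ k ∈ cz z, k * k = 1 → (k ∈ D ∨ k * s⁻¹ ∈ D) → ¬ IsConj r k) :
    ∃ M : Subgroup G, M.Normal ∧ M.index = 2 ∧ r ∉ M ∧ D ≤ M := by
  haveI : Fact (Nat.Prime 2) := ⟨Nat.prime_two⟩
  -- a Sylow subgroup of `G` inside `C(z)` containing `r`
  obtain ⟨P, hPz, hrP⟩ : ∃ P : Sylow 2 G, (P : Subgroup G) ≤ cz z ∧ r ∈ P := by
    obtain ⟨P, hP⟩ := S.sylow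
    obtain ⟨R, hR⟩ := (IsPGroup.of_card (p := 2) (n := 1)
      (G := zpowers (⟨r, hr⟩ : cz z)) (by
        rw [Nat.card_zpowers, pow_one]
        exact orderOf_eq_prime (Subtype.ext (by simpa [pow_two] using hr2))
          fun e => by
            have e' : r = 1 := congrArg Subtype.val e
            exact hrD (e' ▸ one_mem D))).exists_le_sylow
    obtain ⟨c, hc⟩ := MulAction.exists_smul_eq (cz z) (P.subtype hP) R
    refine ⟨(c : G) • P, ?_, ?_⟩
    · intro y hy
      rw [Sylow.coe_subgroup_smul] at hy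
      obtain ⟨q, hq, rfl⟩ := hy
      exact mul_mem (mul_mem c.2 (hP hq)) (inv_mem c.2)
    · have hmem : (⟨r, hr⟩ : cz z) ∈ (R : Subgroup (cz z)) := hR (mem_zpowers _)
      rw [← hc, Sylow.coe_subgroup_smul] at hmem
      obtain ⟨q, hq, hqr⟩ := hmem
      change r ∈ ((c : G) • P : Sylow 2 G)
      rw [← SetLike.mem_coe, Sylow.coe_smul]
      exact ⟨(q : G), hq, congrArg Subtype.val hqr⟩
  set K := twoCoset D s hs2 (fun d hd => S.nD s hs d hd)
  have hKi : (K ⊓ (P : Subgroup G)).relIndex (P : Subgroup G) = 2 := by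
    rw [inf_relIndex_right, relIndex, index_eq_two_iff]
    refine ⟨⟨r, hrP⟩, fun b => ?_⟩
    rw [mem_subgroupOf, mem_subgroupOf, coe_mul]
    have hb : (b : G) ∈ cz z := hPz b.2
    have hr' : r⁻¹ = r := inv_eq_of_mul_eq_one_right hr2
    have hs' : s⁻¹ = s := inv_eq_of_mul_eq_one_right hs2
    change Xor ((b : G) * r ∈ D ∨ (b : G) * r * s⁻¹ ∈ D) ((b : G) ∈ D ∨ (b : G) * s⁻¹ ∈ D)
    by_cases hbK : (b : G) ∈ D ∨ (b : G) * s⁻¹ ∈ D
    · refine Or.inr ⟨hbK, ?_⟩
      rintro (h | h)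
      · rcases hbK with hb' | hb'
        · exact hrD ((mul_mem_cancel_left hb').1 h)
        · have h1 := mul_mem (inv_mem hb') h
          rw [show ((b : G) * s⁻¹)⁻¹ * (b * r) = s * r by group, ← hs'] at h1
          exact hrs ((S.nD' _ (inv_mem hs) _).2 (by
            rw [show s⁻¹ * (r * s⁻¹) * s⁻¹⁻¹ = s⁻¹ * r by group]; exact h1))
      · rcases hbK with hb' | hb'
        · rw [mul_assoc] at h
          exact hrs ((mul_mem_cancel_left hb').1 h)
        · have h1 := mul_mem (inv_mem hb') h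
          rw [show ((b : G) * s⁻¹)⁻¹ * (b * r * s⁻¹) = s * r * s⁻¹ by group] at h1
          exact hrD ((S.nD' s hs r).2 h1)
    · refine Or.inl ⟨?_, hbK⟩
      rcases hcov _ hb with c | c | c | c
      · exact absurd (Or.inl c) hbK
      · exact Or.inl (by rwa [hr'] at c)
      · exact absurd (Or.inr c) hbK
      · -- `t r` lies in the coset of `s`
        have hbr : (b : G) * r = (b : G) * t⁻¹ * (t * r) := by group
        rcases hcov _ (mul_mem ht hr) with e | e | e | e
        · refine absurd ?_ hrt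
          have h1 := inv_mem e
          rwa [mul_inv_rev, hr'] at h1
        · rw [mul_inv_cancel_right] at e
          exact absurd e htD
        · exact Or.inr (by rw [hbr, mul_assoc]; exact mul_mem c e)
        · exact absurd ((S.nD' t ht r).2 e) hrD
  rcases CfsgLib.Transfer.thompson_transfer_involution P inf_le_right hKi
    (by rw [pow_two, hr2]) hrP with ⟨M, hM, hi, hrM⟩ | ⟨g, hg⟩
  · refine ⟨M, hM, hi, hrM, S.D_le fun p _ q _ => ?_⟩
    exact mul_mem_iff_of_index_two hi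
  · obtain ⟨hgK, hgP⟩ := mem_inf.1 hg
    refine absurd (isConj_iff.2 ⟨g, rfl⟩) (hK _ (hPz hgP) ?_ hgK)
    rw [show g * r * g⁻¹ * (g * r * g⁻¹) = g * (r * r) * g⁻¹ by group, hr2, mul_one,
      mul_inv_cancel]

/-- No conjugate of `w` has a centraliser with a subgroup of order 32. -/
theorem not_conj_w [Finite G] {k : G} (h : IsConj w k) (Y : Subgroup G) (hY : Y ≤ cz k)
    (hc : Nat.card Y = 32) : False := by
  obtain ⟨g, rfl⟩ := isConj_iff.1 h
  obtain ⟨hsq, q0, hq0, hq02⟩ := S.wroot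
  have h16 : Nat.card ↥(cz z ⊓ cz w) = 2 ^ 4 := S.wcard
  have hY' : Y.map (MulAut.conj g⁻¹).toMonoidHom ≤ cz w := by
    rintro _ ⟨y, hy, rfl⟩
    have := conj_mem_cz g⁻¹ (hY hy)
    rwa [show g⁻¹ * (g * w * g⁻¹) * g⁻¹⁻¹ = w by group] at this
  have hcY : Nat.card ↥(Y.map (MulAut.conj g⁻¹).toMonoidHom) = 2 ^ 5 := by
    rw [card_map_conj', hc]; rfl
  have hmax : ∀ Q : Subgroup G, Q ≤ cz w → IsPGroup 2 Q → cz z ⊓ cz w ≤ Q →
      (∀ n ∈ Q, ∀ y ∈ cz z ⊓ cz w, n * y * n⁻¹ ∈ cz z ⊓ cz w) → Q = cz z ⊓ cz w := by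
    intro Q hQ _ hWQ hn
    refine le_antisymm (le_inf (fun n hnQ => mem_cz.2 ?_) hQ) hWQ
    have h1 : n * q0 * n⁻¹ * (n * q0 * n⁻¹) = n * z * n⁻¹ := by rw [← hq02]; group
    rcases hsq _ (hn n hnQ q0 hq0) with e | e
    · exact absurd (conj_eq_one_iff.1 (h1.symm.trans e)) S.toBase.z_ne
    · exact mul_inv_eq_iff_eq_mul.1 (h1.symm.trans e)
  obtain ⟨c, -, hle⟩ := exists_conj_le inf_le_right (isPGroup_of_card_eq h16) hmax hY'
    (isPGroup_of_card_eq hcY)
  have := card_le_of_le hle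
  rw [card_map_conj', hcY, h16] at this
  norm_num at this

/-- A normal subgroup of index four meets `C(z)` in `D`. -/
theorem exists_four [Finite G] :
    ∃ N : Subgroup G, N.Normal ∧ N.index = 4 ∧ N ⊓ cz z = D := by
  obtain ⟨hwx, hwo, hxo⟩ := S.distinct
  have hxw : x * w⁻¹ ∉ D := fun e => hwx (by simpa using inv_mem e)
  have how : o * w⁻¹ ∉ D := fun e => hwo (by simpa using inv_mem e)
  have hox : o * x⁻¹ ∉ D := fun e => hxo (by simpa using inv_mem e)
  obtain ⟨M, hMn, hM2, hwM, hDM⟩ := S.exists_index_two S.hw S.wsq S.hwD S.eightX.mem S.eightX.sq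
    S.hxD S.eightO.mem S.cover hwx hwo S.hoD (fun k hk hk2 hkK hc => by
      obtain ⟨Y, hY, hYc⟩ := S.big k hk hk2 (fun e => by
        rcases hkK with h | h
        · exact S.hwD (inv_mem_iff.1 ((mul_mem_cancel_left h).1 e))
        · refine hxw ?_
          have h1 := mul_mem (inv_mem h) e
          rwa [show (k * x⁻¹)⁻¹ * (k * w⁻¹) = x * w⁻¹ by group] at h1)
      exact S.not_conj_w hc Y (hY.trans inf_le_right) hYc)
  -- one of `x`, `o` lies in `M`
  have step : ∀ r t : G, Eight z r → Eight z t → r ∉ D → t ∉ D → r * w⁻¹ ∉ D → r * t⁻¹ ∉ D →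
      (∀ h ∈ cz z, h ∈ D ∨ h * r⁻¹ ∈ D ∨ h * w⁻¹ ∈ D ∨ h * t⁻¹ ∈ D) → r ∈ M →
      ∃ N : Subgroup G, N.Normal ∧ N.index = 4 ∧ N ⊓ cz z = D := by
    intro r t Er Et hrD htD hrw hrt hcov hrM
    obtain ⟨M', hM'n, hM'2, hrM', hDM'⟩ := S.exists_index_two Er.mem Er.sq hrD S.hw S.wsq S.hwD
      Et.mem hcov hrw hrt htD (fun k hk hk2 hkK hc => by
        rcases hkK with h | h
        · obtain ⟨Y, hY, hYc, hY4⟩ := S.small k h hk2
          obtain ⟨g, rfl⟩ := isConj_iff.1 hc
          obtain ⟨q, hq, hq4⟩ := Er.exists_pow_four S.toBase.z_ne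
            (Y := Y.map (MulAut.conj g⁻¹).toMonoidHom) (by
              rintro _ ⟨y, hy, rfl⟩
              have := conj_mem_cz g⁻¹ (hY hy).2
              rwa [show g⁻¹ * (g * r * g⁻¹) * g⁻¹⁻¹ = r by group] at this)
            (by rw [card_map_conj', hYc])
          obtain ⟨y, hy, rfl⟩ := hq
          exact hq4 (by rw [← map_pow, hY4 y hy, map_one])
        · obtain ⟨m, -, rfl⟩ := S.wclass k hk hk2 h
          obtain ⟨P, hP, hPc, -⟩ := Er.exists_sub
          exact S.not_conj_w (IsConj.symm ((isConj_conj_iff m).1 hc)) P (hP.trans inf_le_right) hPc)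
    haveI := hMn
    haveI := hM'n
    refine ⟨M ⊓ M', inferInstance, ?_, ?_⟩
    · have hrel : M'.relIndex M = 2 := by
        rw [relIndex, index_eq_two_iff]
        refine ⟨⟨r, hrM⟩, fun b => ?_⟩
        rw [mem_subgroupOf, mem_subgroupOf, coe_mul, mul_mem_iff_of_index_two hM'2]
        by_cases hb : (b : G) ∈ M'
        · exact Or.inr ⟨hb, fun e => hrM' (e.1 hb)⟩
        · exact Or.inl ⟨iff_of_false hb hrM', hb⟩
      have h1 := relIndex_mul_index (inf_le_left : M ⊓ M' ≤ M)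
      rw [inf_relIndex_left, hrel, hM2] at h1
      omega
    · refine le_antisymm (fun h hh => ?_) (le_inf (le_inf hDM hDM') S.hD)
      obtain ⟨h12, h3⟩ := mem_inf.1 hh
      obtain ⟨h1, h2⟩ := mem_inf.1 h12
      rcases hcov h h3 with c | c | c | c
      · exact c
      · refine absurd ?_ hrM'
        simpa [mul_assoc] using inv_mem (mul_mem (inv_mem h2) (hDM' c))
      · refine absurd ?_ hwM
        simpa [mul_assoc] using inv_mem (mul_mem (inv_mem h1) (hDM c))
      · -- `t` lies in both, so does `r`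
        have htM : t ∈ M := by
          simpa [mul_assoc] using inv_mem (mul_mem (inv_mem h1) (hDM c))
        rcases hcov (r * t) (mul_mem Er.mem Et.mem) with e | e | e | e
        · exact absurd (by rwa [inv_eq_of_mul_eq_one_right Et.sq]) hrt
        · exact absurd ((S.nD' r Er.mem t).2 e) htD
        · refine absurd ?_ hwM
          simpa [mul_assoc] using inv_mem (mul_mem (inv_mem (mul_mem hrM htM)) (hDM e))
        · rw [mul_inv_cancel_right] at e
          exact absurd e hrD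
  by_cases hxM : x ∈ M
  · exact step x o S.eightX S.eightO S.hxD S.hoD hxw hxo
      (fun h hh => by have := S.cover h hh; tauto) hxM
  · refine step o x S.eightO S.eightX S.hoD S.hxD how hox
      (fun h hh => by have := S.cover h hh; tauto) ?_
    -- otherwise `x o` lies in `M`
    by_contra hoM
    have hxoM : x * o ∈ M := by
      rw [mul_mem_iff_of_index_two hM2]
      exact iff_of_false hxM hoM
    rcases S.cover _ (mul_mem S.eightX.mem S.eightO.mem) with e | e | e | e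
    · exact hxo (by rwa [inv_eq_of_mul_eq_one_right S.eightO.sq])
    · refine hwM ?_
      simpa [mul_assoc] using inv_mem (mul_mem (inv_mem hxoM) (hDM e))
    · exact S.hoD ((S.nD' x S.eightX.mem o).2 e)
    · rw [mul_inv_cancel_right] at e
      exact S.hxD e

end Loc

end CfsgLib.InvChar.LThreeFourAut
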