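import Cfsg.Agent.Lib.InvChar.LThreeFourAut.Reduce
import Cfsg.Agent.Lib.InvChar.LThreeFourAut.Transfer

/-!
Assembly of statement 3237 from the local analysis and the identification.
-/

set_option autoImplicit false

namespace CfsgLib.InvChar.LThreeFourAut

open Subgroup

universe u v

/-- The statement, given the local data and the identification in the quotient by the odd core. -/
theorem main {G : Type u} [Group G] [Finite G] {z : G} (hz : orderOf z = 2)
    (hH : Cfsg.oddCore ↥(cz z) = ⊥) {X : Type v} [Group X]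
    (key : (∃ (U T A B D : Subgroup (G ⧸ Cfsg.oddCore G)) (a w x o : G ⧸ Cfsg.oddCore G),
        Loc (QuotientGroup.mk' (Cfsg.oddCore G) z) U T A B D a w x o) ∨
      ∃ U, Bad (QuotientGroup.mk' (Cfsg.oddCore G) z) U)
    (ident : ∀ {U T A B D : Subgroup (G ⧸ Cfsg.oddCore G)} {a w x o : G ⧸ Cfsg.oddCore G},
      Loc (QuotientGroup.mk' (Cfsg.oddCore G) z) U T A B D a w x o →
      Cfsg.oddCore (G ⧸ Cfsg.oddCore G) = ⊥ → ¬ Group.IsSolvable (G ⧸ Cfsg.oddCore G) →
      (∀ v ∈ U, v ≠ 1 → IsConj (QuotientGroup.mk' (Cfsg.oddCore G) z) v) →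
      (∃ g ∈ normalizer (U : Set (G ⧸ Cfsg.oddCore G)),
        g * QuotientGroup.mk' (Cfsg.oddCore G) z * g⁻¹ ≠ QuotientGroup.mk' (Cfsg.oddCore G) z) →
      (∃ N : Subgroup (G ⧸ Cfsg.oddCore G), N.Normal ∧ N.index = 4 ∧
        N ⊓ cz (QuotientGroup.mk' (Cfsg.oddCore G) z) = D) →
      Nonempty ((G ⧸ Cfsg.oddCore G) ≃* X)) :
    IsMulCommutative ↥(Cfsg.oddCore G) ∧ (¬ Group.IsSolvable G → Nonempty (G ≃* X)) := by
  have hc := isMulCommutative_oddCore hz hH
  refine ⟨hc, fun hns => ?_⟩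
  have hnsQ : ¬ Group.IsSolvable (G ⧸ Cfsg.oddCore G) := fun h => hns (isSolvable_of_quotient hH hc h)
  have hOQ := CfsgLib.Fusion.oddCore_quotient_oddCore (G := G)
  rcases key with ⟨U, T, A, B, D, a, w, x, o, L⟩ | ⟨U, L⟩
  swap
  · exact absurd (L.isSolvable hOQ) hnsQ
  have hU := L.isConj_of_mem_U hOQ hnsQ
  obtain ⟨e⟩ := ident L hOQ hnsQ hU (L.exists_moving hU) L.exists_four
  obtain ⟨v, hv, hv1, hvz⟩ := L.toBase.exists_other
  obtain ⟨v0, hv0⟩ : v ∈ ((QuotientGroup.mk' (Cfsg.oddCore G)).comp (cz z).subtype).range := by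
    rw [range_mk hz hH]; exact L.toBase.hU hv
  have hv0' : QuotientGroup.mk' (Cfsg.oddCore G) (v0 : G) = v := hv0
  have hv2 : (v0 : G) * v0 = 1 := by
    have h1 : v0 * v0 = 1 := mk_injOn hz hH (by rw [map_mul, hv0, map_one]; exact L.toBase.eU v hv)
    exact congrArg Subtype.val h1
  have hO : Cfsg.oddCore G = ⊥ := by
    refine oddCore_eq_bot hz hH hv2 (mem_cz.1 v0.2).symm ?_ ?_
    · rw [hv0']; exact hU v hv hv1
    · rw [map_mul, hv0']
      refine hU _ (mul_mem L.toBase.zU hv) fun h => hvz ?_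
      exact mul_left_cancel (h.trans (L.toBase.eU _ L.toBase.zU).symm)
  have hbij : Function.Bijective (QuotientGroup.mk' (Cfsg.oddCore G)) :=
    ⟨by rw [← MonoidHom.ker_eq_bot_iff, QuotientGroup.ker_mk', hO],
      QuotientGroup.mk'_surjective _⟩
  exact ⟨(MulEquiv.ofBijective _ hbij).trans e⟩

end CfsgLib.InvChar.LThreeFourAut
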