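import Cfsg.Agent.Lib.InvChar.LThreeFourAut.Socle
import Cfsg.Agent.Lib.InvChar.LThreeFourAut.Fusion
import Cfsg.Agent.Lib.Solvable.MinNormal
import Cfsg.Agent.Lib.Amalgam.AltOvergroup
import Mathlib.GroupTheory.Transfer

/-!
A minimal normal subgroup `M` of a group with the local data `Loc` whose intersection with `C(z)`
lies in `D`: it is not solvable and simple, and `M ∩ C(z)` contains `T`.
-/

set_option autoImplicit false

namespace CfsgLib.InvChar.LThreeFourAut

open Subgroup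

universe u

variable {G : Type u} [Group G] [Finite G]

omit [Finite G] in
theorem conj_mem_iff_of_normal {M : Subgroup G} [hM : M.Normal] {g x : G} :
    g * x * g⁻¹ ∈ M ↔ x ∈ M :=
  ⟨fun h => by have := hM.conj_mem _ h g⁻¹; simpa [mul_assoc] using this, fun h => hM.conj_mem x h g⟩

/-- A nonsolvable minimal normal subgroup is perfect. -/
theorem commutator_eq_top_of_minimal {M : Subgroup G} [M.Normal]
    (hmin : ∀ K : Subgroup G, K.Normal → K ≤ M → K = ⊥ ∨ K = M)
    (hns : ¬ Group.IsSolvable ↥M) : commutator ↥M = ⊤ := by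
  rcases hmin ((commutator ↥M).map M.subtype) inferInstance (map_subtype_le _) with h | h
  · rw [map_eq_bot_iff_of_injective _ M.subtype_injective] at h
    exact absurd (Group.isSolvable_def ↥M |>.2 ⟨1, by rw [derivedSeries_one]; exact h⟩) hns
  · refine Subgroup.map_injective M.subtype_injective ?_
    rw [h, ← MonoidHom.range_eq_map, Subgroup.range_subtype]

/-- A nonsolvable minimal normal subgroup has trivial centre. -/
theorem center_eq_bot_of_minimal {M : Subgroup G} [M.Normal]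
    (hmin : ∀ K : Subgroup G, K.Normal → K ≤ M → K = ⊥ ∨ K = M)
    (hns : ¬ Group.IsSolvable ↥M) : center ↥M = ⊥ := by
  rcases hmin ((center ↥M).map M.subtype) inferInstance (map_subtype_le _) with h | h
  · rwa [map_eq_bot_iff_of_injective _ M.subtype_injective] at h
  · exfalso
    have htop : center ↥M = ⊤ := Subgroup.map_injective M.subtype_injective
      (by rw [h, ← MonoidHom.range_eq_map, Subgroup.range_subtype])
    exact hns (Group.isSolvable_of_comm fun a b =>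
      (mem_center_iff.1 (htop ▸ mem_top b : b ∈ center ↥M) a))

/-- The odd core of a normal subgroup is trivial when that of the group is. -/
theorem oddCore_eq_bot_of_le (hO : Cfsg.oddCore G = ⊥) (M : Subgroup G) [M.Normal] :
    Cfsg.oddCore ↥M = ⊥ := by
  haveI : (Cfsg.oddCore ↥M).Characteristic := CfsgLib.Solvable.pPrimeCore_characteristic 2 ↥M
  have hle := CfsgLib.Solvable.le_pPrimeCore
    (inferInstance : ((Cfsg.oddCore ↥M).map M.subtype).Normal)
    (p := 2) (by rw [card_map_of_injective M.subtype_injective]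
                 exact CfsgLib.Solvable.pPrimeCore_coprime (G := ↥M) 2)
  change _ ≤ Cfsg.oddCore G at hle
  rw [hO, le_bot_iff, map_eq_bot_iff_of_injective _ M.subtype_injective] at hle
  exact hle

namespace Loc

variable {z : G} {U T A B D : Subgroup G} {a w x o : G}

theorem z_ne' (L : Loc z U T A B D a w x o) : z ≠ 1 := L.toBase.z_ne

/-- `M ∩ C(z)` is one of `U`, a group with squares `1, z`, or contains `T`. -/
theorem meet_cases (L : Loc z U T A B D a w x o) {M : Subgroup G} [hM : M.Normal] (hUM : U ≤ M)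
    (hMD : M ⊓ cz z ≤ D) :
    M ⊓ cz z = U ∨ T ≤ M ∨
      ((∃ q ∈ M ⊓ cz z, q * q = z) ∧ ∀ q ∈ M ⊓ cz z, q * q = 1 ∨ q * q = z) := by
  rcases L.normal (M ⊓ cz z) (le_inf hUM L.hU) hMD (fun h hh m hm =>
    mem_inf.2 ⟨hM.conj_mem m (mem_inf.1 hm).1 h,
      mul_mem (mul_mem hh (mem_inf.1 hm).2) (inv_mem hh)⟩) with h | h | h
  exacts [Or.inl h, Or.inr (Or.inl (h.trans inf_le_left)), Or.inr (Or.inr h)]

/-- Elements normalising `U` normalise `T`. -/
theorem conj_mem_T (L : Loc z U T A B D a w x o) {g : G} (hg : g ∈ normalizer (U : Set G))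
    {t : G} (ht : t ∈ T) : g * t * g⁻¹ ∈ T := by
  have hUg : ∀ v ∈ U, g⁻¹ * v * g ∈ U := fun v hv => by
    have := (mem_normalizer_iff.1 hg (g⁻¹ * v * g)).2 (by simpa [mul_assoc] using hv)
    exact this
  have hcent : ∀ t ∈ T, g * t * g⁻¹ ∈ centralizer (U : Set G) := fun t ht => by
    refine mem_centralizer_iff.2 fun v hv => ?_
    have h1 := L.commU _ (hUg v hv) t ht
    calc v * (g * t * g⁻¹) = g * (g⁻¹ * v * g * t) * g⁻¹ := by group
      _ = g * (t * (g⁻¹ * v * g)) * g⁻¹ := by rw [h1]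
      _ = g * t * g⁻¹ * v := by group
  have htop : T.map (MulAut.conj g).toMonoidHom = T := by
    refine L.topT _ (by rw [card_map_conj', L.cardT]) ?_ ?_
    · rintro _ ⟨s, hs, rfl⟩
      exact hcent s hs
    · intro c hc m hm
      rw [mem_map_conj'] at hm ⊢
      have hc' : g⁻¹ * c * g ∈ cz z := by
        refine mem_cz.2 ?_
        have h1 := mem_centralizer_iff.1 hc (g * z * g⁻¹)
          ((mem_normalizer_iff.1 hg z).1 L.toBase.zU)
        calc g⁻¹ * c * g * z = g⁻¹ * (c * (g * z * g⁻¹)) * g := by group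
          _ = g⁻¹ * (g * z * g⁻¹ * c) * g := by rw [h1]
          _ = z * (g⁻¹ * c * g) := by group
      have := L.nT _ hc' _ hm
      rwa [show g⁻¹ * c * g * (g⁻¹ * m * g) * (g⁻¹ * c * g)⁻¹ = g⁻¹ * (c * m * c⁻¹) * g by group]
        at this
  rw [← htop, mem_map_conj']
  rwa [show g⁻¹ * (g * t * g⁻¹) * g = t by group]

/-- The exceptional intersection of order 16 does not occur. -/
theorem not_sixteen (L : Loc z U T A B D a w x o) {M : Subgroup G} [hM : M.Normal]
    (hMD : M ⊓ cz z ≤ D) (hg : ∃ g ∈ normalizer (U : Set G), g * z * g⁻¹ ≠ z) {q : G}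
    (hq : q ∈ M ⊓ cz z) (hqz : q * q = z)
    (hsq : ∀ r ∈ M ⊓ cz z, r * r = 1 ∨ r * r = z) : False := by
  haveI := L.normal_T
  obtain ⟨g, hgU, hgz⟩ := hg
  have hqT : q ∈ T := by
    have hi : (T.subgroupOf D).index = 3 := by
      have h := (T.subgroupOf D).card_mul_index
      rw [Nat.card_congr (subgroupOfEquivOfLe L.hTD).toEquiv, L.cardT, L.cardD] at h
      omega
    have h3 := (T.subgroupOf D).pow_index_mem ⟨q, hMD hq⟩
    rw [hi] at h3
    have h3' : q ^ 3 ∈ T := h3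
    have h4 : q ^ 4 = 1 := by
      rw [show (4 : ℕ) = 2 * 2 from rfl, pow_mul, pow_two q, hqz, pow_two, L.toBase.z_sq]
    have : q = (q ^ 3)⁻¹ := by
      rw [eq_inv_iff_mul_eq_one, ← pow_succ', h4]
    rw [this]; exact inv_mem h3'
  have hmem : g * q * g⁻¹ ∈ M ⊓ cz z :=
    mem_inf.2 ⟨hM.conj_mem q (mem_inf.1 hq).1 g, L.hT (L.conj_mem_T hgU hqT)⟩
  rcases hsq _ hmem with h | h
  · rw [show g * q * g⁻¹ * (g * q * g⁻¹) = g * (q * q) * g⁻¹ by group, hqz, conj_eq_one_iff] at h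
    exact L.z_ne' h
  · rw [show g * q * g⁻¹ * (g * q * g⁻¹) = g * (q * q) * g⁻¹ by group, hqz] at h
    exact hgz h

/-- Such a minimal normal subgroup is not solvable. -/
theorem not_solvable_minimal (L : Loc z U T A B D a w x o) (hns : ¬ Group.IsSolvable G)
    {M : Subgroup G} [hM : M.Normal] (hne : M ≠ ⊥)
    (hmin : ∀ K : Subgroup G, K.Normal → K ≤ M → K = ⊥ ∨ K = M)
    (hUM : U ≤ M) (hMD : M ⊓ cz z ≤ D) : ¬ Group.IsSolvable ↥M := by
  intro hs
  haveI := hs
  obtain ⟨p, hp, -, hpow, hcomm⟩ := CfsgLib.Solvable.exists_isPGroup_of_minimal_normal hne hmin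
  have hzM : z ∈ M := hUM L.toBase.zU
  have hp2 : p = 2 := by
    have h := orderOf_dvd_of_pow_eq_one (hpow z hzM)
    rw [L.hz] at h
    exact ((Nat.prime_dvd_prime_iff_eq Nat.prime_two hp).1 h).symm
  subst hp2
  have hab : ∀ x ∈ M, ∀ y ∈ M, x * y = y * x := fun x hx y hy =>
    congrArg Subtype.val (hcomm.is_comm.comm ⟨x, hx⟩ ⟨y, hy⟩)
  have hle : M ≤ cz z := fun m hm => mem_cz.2 (hab m hm z hzM)
  rcases L.meet_cases hUM hMD with h | h | ⟨⟨q, hq, hqz⟩, -⟩
  · rw [inf_eq_left.2 hle] at h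
    subst h
    let φ : G →* Equiv.Perm ↥M := (MulAction.toPermHom (MulAut ↥M) ↥M).comp MulAut.conjNormal
    have hk : φ.ker ≤ (cz z).subtype.range := by
      intro g hg
      rw [Subgroup.range_subtype]
      refine mem_cz.2 ?_
      have h1 := congrArg Subtype.val (DFunLike.congr_fun (MonoidHom.mem_ker.1 hg) ⟨z, hzM⟩)
      change g * z * g⁻¹ = z at h1
      exact mul_inv_eq_iff_eq_mul.1 h1
    haveI := L.solv
    haveI : Fintype ↥M := Fintype.ofFinite _
    haveI : Group.IsSolvable (Equiv.Perm ↥M) := by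
      classical
      exact CfsgLib.Amalgam.isSolvable_perm_of_card_le_four
        (by rw [← Nat.card_eq_fintype_card, L.toBase.cardU])
    exact hns (solvable_of_ker_le_range (cz z).subtype φ hk)
  · obtain ⟨b, hb, hbU⟩ := L.toTwoSixteen.exists_not_mem_U
    have hTA : T ≤ A := fun t ht => L.selfA b hb hbU t ht (hab t (h ht) b (h (L.hA hb)))
    have := Subgroup.card_le_of_le hTA
    rw [L.cardT, L.cardA] at this
    omega
  · have := hpow q (mem_inf.1 hq).1
    rw [pow_two, hqz] at this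
    exact L.z_ne' this

/-- The intersection `U` does not occur. -/
theorem not_four (L : Loc z U T A B D a w x o) {M : Subgroup G} [hM : M.Normal]
    (hM0 : M ⊓ cz z = U) (hperf : commutator ↥M = ⊤)
    (hU : ∀ v ∈ U, v ≠ 1 → IsConj z v) : False := by
  haveI : Fact (Nat.Prime 2) := ⟨Nat.prime_two⟩
  have hUM : U ≤ M := hM0 ▸ inf_le_left
  set U' : Subgroup ↥M := U.subgroupOf M
  have hU4 : Nat.card ↥U' = 4 := by
    rw [Nat.card_congr (subgroupOfEquivOfLe hUM).toEquiv, L.toBase.cardU]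
  have hpU : IsPGroup 2 ↥U' := IsPGroup.of_card (n := 2) (by rw [hU4]; rfl)
  obtain ⟨P, hP⟩ := hpU.exists_le_sylow
  have hPU : (P : Subgroup ↥M) = U' := by
    haveI : Group.IsNilpotent ↥(P : Subgroup ↥M) := P.isPGroup'.isNilpotent
    set Uc : Subgroup ↥(P : Subgroup ↥M) := center _
    have hnt : Nontrivial ↥(P : Subgroup ↥M) := by
      rw [← Finite.one_lt_card_iff_nontrivial]
      have := Subgroup.card_le_of_le hP
      omega
    obtain ⟨⟨c, hc⟩, hc1⟩ : ∃ c : ↥Uc, c ≠ 1 := by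
      haveI : Nontrivial ↥Uc := P.isPGroup'.center_nontrivial
      exact exists_ne 1
    have hcU : ((c : ↥M) : G) ∈ U := by
      rw [← hM0]
      refine mem_inf.2 ⟨(c : ↥M).2, mem_cz.2 ?_⟩
      have := mem_center_iff.1 hc ⟨⟨z, hUM L.toBase.zU⟩, hP (show z ∈ U from L.toBase.zU)⟩
      exact (congrArg (fun q : ↥(P : Subgroup ↥M) => ((q : ↥M) : G)) this).symm
    have hc1' : ((c : ↥M) : G) ≠ 1 := fun e => hc1 (Subtype.ext (Subtype.ext (Subtype.ext e)))
    obtain ⟨g, hg⟩ := isConj_iff.1 (hU _ hcU hc1')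
    have hle : Nat.card ↥(P : Subgroup ↥M) ≤ 4 := by
      rw [← L.toBase.cardU, ← hM0]
      refine Nat.card_le_card_of_injective
        (fun q => (⟨g⁻¹ * ((q : ↥M) : G) * g, mem_inf.2 ⟨?_, mem_cz.2 ?_⟩⟩ : ↥(M ⊓ cz z))) ?_
      · have := hM.conj_mem _ (q : ↥M).2 g⁻¹
        rwa [inv_inv] at this
      · have hq : ((q : ↥M) : G) * (g * z * g⁻¹) = g * z * g⁻¹ * ((q : ↥M) : G) := by
          rw [hg]
          exact congrArg (fun r : ↥(P : Subgroup ↥M) => ((r : ↥M) : G)) (mem_center_iff.1 hc q)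
        calc g⁻¹ * ((q : ↥M) : G) * g * z = g⁻¹ * (((q : ↥M) : G) * (g * z * g⁻¹)) * g := by group
          _ = g⁻¹ * (g * z * g⁻¹ * ((q : ↥M) : G)) * g := by rw [hq]
          _ = z * (g⁻¹ * ((q : ↥M) : G) * g) := by group
      · intro q r h
        exact Subtype.ext (Subtype.ext (mul_left_cancel (mul_right_cancel (congrArg Subtype.val h))))
    exact (eq_of_le_of_card_ge hP (by rw [hU4]; exact hle)).symm
  -- an element of `M` moving `z` in `U`
  obtain ⟨m, hmU, hmz⟩ : ∃ m : ↥M, m ∈ normalizer (U' : Set ↥M) ∧ (m : G) * z * (m : G)⁻¹ ≠ z := by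
    by_contra hall
    push Not at hall
    have hnc : normalizer ((P : Subgroup ↥M) : Set ↥M) ≤
        centralizer ((P : Subgroup ↥M) : Set ↥M) := by
      rw [hPU]
      intro m hm
      have hmU : (m : G) ∈ U := by
        rw [← hM0]
        exact mem_inf.2 ⟨m.2, mem_cz.2 (mul_inv_eq_iff_eq_mul.1 (hall m hm))⟩
      refine mem_centralizer_iff.2 fun v hv => Subtype.ext ?_
      exact L.commU v hv m (L.toTwoSixteen.hUT hmU) |>.symm
    have hk := MonoidHom.ker_transferSylow_isComplement' P hnc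
    have htop : (MonoidHom.transferSylow P hnc).ker = ⊤ := by
      haveI : IsMulCommutative ↥(P : Subgroup ↥M) :=
        ⟨⟨fun a b => Subtype.ext (hnc (le_normalizer b.2) a a.2)⟩⟩
      rw [eq_top_iff, ← hperf, _root_.commutator_def, Subgroup.commutator_le]
      intro a _ b _
      rw [MonoidHom.mem_ker, map_commutatorElement, commutatorElement_eq_one_iff_mul_comm]
      exact mul_comm' _ _
    rw [htop] at hk
    have hbot := hk.card_mul_card
    rw [Subgroup.card_top, hPU, hU4] at hbot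
    have hpos : 0 < Nat.card ↥M := Nat.card_pos
    omega
  have hmN : (m : G) ∈ normalizer (U : Set G) := by
    refine mem_normalizer_iff.2 fun v => ⟨fun hv => ?_, fun hv => ?_⟩
    · exact (mem_normalizer_iff.1 hmU ⟨v, hUM hv⟩).1 hv
    · have hvM : v ∈ M := (conj_mem_iff_of_normal (g := (m : G))).1 (hUM hv)
      exact (mem_normalizer_iff.1 hmU ⟨v, hvM⟩).2 hv
  have hfix : ∀ t ∈ T, (m : G) * t * (m : G)⁻¹ * t⁻¹ ∈ U := fun t ht => by
    rw [← hM0]
    refine mem_inf.2 ⟨?_, L.hT (mul_mem (L.conj_mem_T hmN ht) (inv_mem ht))⟩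
    rw [show (m : G) * t * (m : G)⁻¹ * t⁻¹ = (m : G) * (t * (m : G)⁻¹ * t⁻¹) by group]
    exact mul_mem m.2 (hM.conj_mem _ (inv_mem m.2) t)
  have hcom : ∀ t ∈ T, ∀ s ∈ T, t * s * t⁻¹ * s⁻¹ ∈ U →
      (m : G) * (t * s * t⁻¹ * s⁻¹) * (m : G)⁻¹ = t * s * t⁻¹ * s⁻¹ := by
    intro t ht s hs _
    set u₁ := (m : G) * t * (m : G)⁻¹ * t⁻¹
    set u₂ := (m : G) * s * (m : G)⁻¹ * s⁻¹
    have c₁ : ∀ r ∈ T, r * u₁ = u₁ * r := L.commU _ (hfix t ht)
    have c₂ : ∀ r ∈ T, r * u₂ = u₂ * r := L.commU _ (hfix s hs)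
    have hu2T : u₂ ∈ T := L.toTwoSixteen.hUT (hfix s hs)
    calc (m : G) * (t * s * t⁻¹ * s⁻¹) * (m : G)⁻¹
        = (u₁ * t) * (u₂ * s) * (u₁ * t)⁻¹ * (u₂ * s)⁻¹ := by simp only [u₁, u₂]; group
      _ = u₁ * (t * u₂ * s * t⁻¹) * u₁⁻¹ * s⁻¹ * u₂⁻¹ := by group
      _ = (t * u₂ * s * t⁻¹) * u₁ * u₁⁻¹ * s⁻¹ * u₂⁻¹ := by
          rw [c₁ _ (mul_mem (mul_mem (mul_mem ht hu2T) hs) (inv_mem ht))]
      _ = (t * u₂) * s * t⁻¹ * s⁻¹ * u₂⁻¹ := by group
      _ = u₂ * (t * s * t⁻¹ * s⁻¹) * u₂⁻¹ := by rw [c₂ t ht]; group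
      _ = t * s * t⁻¹ * s⁻¹ := by
          rw [← c₂ _ (mul_mem (mul_mem (mul_mem ht hs) (inv_mem ht)) (inv_mem hs)),
            mul_inv_cancel_right]
  obtain ⟨b, hb, hbU⟩ := L.toTwoSixteen.exists_not_mem_U
  obtain ⟨c, hc, hcU⟩ := L.toTwoSixteen.symm.exists_not_mem_U
  set k := b * c * b⁻¹ * c⁻¹ with hk
  have hkU : k ∈ U := by
    rw [← L.inter]
    refine mem_inf.2 ⟨?_, mul_mem (L.nB b (L.hA hb) c hc) (inv_mem hc)⟩
    rw [hk, show b * c * b⁻¹ * c⁻¹ = b * (c * b⁻¹ * c⁻¹) by group]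
    exact mul_mem hb (L.nA c (L.hB hc) _ (inv_mem hb))
  have hk1 : k ≠ 1 := fun e => hcU (L.inter ▸ mem_inf.2
    ⟨L.selfA b hb hbU c (L.hB hc) (by
      rw [hk, mul_inv_eq_one, mul_inv_eq_iff_eq_mul] at e; exact e.symm), hc⟩)
  have hkfix := hcom b (L.hA hb) c (L.hB hc) hkU
  by_cases hkz : k = z
  · exact hmz (by rw [← hkz]; exact hkfix)
  · obtain ⟨h, hh, hhk⟩ := L.conjU k hkU (z * k) (mul_mem L.toBase.zU hkU) hk1 hkz
      (fun e => hkz (by
        have := congrArg (fun r => z * r) e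
        simpa [← mul_assoc, L.toBase.z_sq] using this))
      (fun e => hk1 (mul_eq_left.1 e))
    have h2 := hcom _ (L.nT h hh b (L.hA hb)) _ (L.nT h hh c (L.hB hc))
    rw [show h * b * h⁻¹ * (h * c * h⁻¹) * (h * b * h⁻¹)⁻¹ * (h * c * h⁻¹)⁻¹ = h * k * h⁻¹ by
      rw [hk]; group, hhk] at h2
    have h3 := h2 (mul_mem L.toBase.zU hkU)
    rw [show (m : G) * (z * k) * (m : G)⁻¹ = (m : G) * z * (m : G)⁻¹ * ((m : G) * k * (m : G)⁻¹)
      by group, hkfix] at h3
    exact hmz (mul_right_cancel h3)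

/-- If `T ≤ M`, then `T` is a Sylow 2-subgroup of `M`. -/
theorem not_dvd_index_T (L : Loc z U T A B D a w x o) {M : Subgroup G} [hM : M.Normal]
    (hMD : M ⊓ cz z ≤ D) (hTM : T ≤ M) : ¬ 2 ∣ (T.subgroupOf M).index := by
  haveI : Fact (Nat.Prime 2) := ⟨Nat.prime_two⟩
  obtain ⟨P, hP⟩ := L.sylow
  obtain ⟨Q⟩ : Nonempty (Sylow 2 ↥M) := inferInstance
  obtain ⟨R, hR⟩ := (Q.isPGroup'.map M.subtype).exists_le_sylow
  obtain ⟨g, rfl⟩ := MulAction.exists_smul_eq G P R
  have hle : Nat.card ↥(Q : Subgroup ↥M) ∣ 192 := by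
    rw [← L.cardD, ← card_map_of_injective M.subtype_injective, ← card_map_conj' _ g⁻¹]
    refine (Subgroup.card_dvd_of_le ?_)
    rintro _ ⟨y, hy, rfl⟩
    obtain ⟨r, hr, rfl⟩ := hR hy
    have hrM : r ∈ M := (conj_mem_iff_of_normal (g := g)).1 (map_subtype_le _ hy)
    have e : g⁻¹ * (g * r * g⁻¹) * g⁻¹⁻¹ = r := by group
    change g⁻¹ * (g * r * g⁻¹) * g⁻¹⁻¹ ∈ D
    rw [e]
    exact hMD (mem_inf.2 ⟨hrM, hP hr⟩)
  obtain ⟨n, hn⟩ := IsPGroup.iff_card.1 Q.isPGroup'
  have hn6 : n ≤ 6 := by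
    rw [hn] at hle
    by_contra hc
    have h7 : 2 ^ 7 ∣ 192 := (pow_dvd_pow 2 (by omega : 7 ≤ n)).trans hle
    norm_num at h7
  have hT64 : Nat.card ↥(T.subgroupOf M) = 64 := by
    rw [Nat.card_congr (subgroupOfEquivOfLe hTM).toEquiv, L.cardT]
  have h6 : 2 ^ 6 ∣ Nat.card ↥(Q : Subgroup ↥M) :=
    Q.pow_dvd_card_of_pow_dvd_card
      ((show 2 ^ 6 ∣ Nat.card ↥(T.subgroupOf M) by rw [hT64]; norm_num).trans
        (card_subgroup_dvd_card _))
  have hQ : Nat.card ↥(Q : Subgroup ↥M) = 64 := by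
    refine Nat.dvd_antisymm ?_ h6
    rw [hn]; exact pow_dvd_pow 2 hn6
  have h1 := (T.subgroupOf M).card_mul_index
  rw [← (Q : Subgroup ↥M).card_mul_index, hT64, hQ] at h1
  rw [Nat.eq_of_mul_eq_mul_left (by norm_num) h1]
  exact Q.not_dvd_index

/-- If `T ≤ M`, then `M` is simple. -/
theorem simple_of_minimal (L : Loc z U T A B D a w x o) (hO : Cfsg.oddCore G = ⊥)
    {M : Subgroup G} [hM : M.Normal] (hne : M ≠ ⊥)
    (hmin : ∀ K : Subgroup G, K.Normal → K ≤ M → K = ⊥ ∨ K = M) (hns : ¬ Group.IsSolvable ↥M)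
    (hMD : M ⊓ cz z ≤ D) (hTM : T ≤ M) (hU : ∀ v ∈ U, v ≠ 1 → IsConj z v) :
    IsSimpleGroup ↥M := by
  haveI : Fact (Nat.Prime 2) := ⟨Nat.prime_two⟩
  have hT64 : Nat.card ↥(T.subgroupOf M) = 64 := by
    rw [Nat.card_congr (subgroupOfEquivOfLe hTM).toEquiv, L.cardT]
  have hTp : IsPGroup 2 ↥(T.subgroupOf M) := IsPGroup.of_card (n := 6) (by rw [hT64]; rfl)
  let P : Sylow 2 ↥M := hTp.toSylow (L.not_dvd_index_T hMD hTM)
  have hP : (P : Subgroup ↥M) = T.subgroupOf M := rfl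
  -- each nontrivial normal subgroup meets `U`
  have hmeet : ∀ K : Subgroup ↥M, K.Normal → K ≠ ⊥ → ∃ k ∈ K, (k : G) ∈ U ∧ k ≠ 1 := by
    intro K hK hKne
    haveI := hK
    obtain ⟨k, hk, hkP, h2, hk1, hc⟩ := exists_central_invol P
      (two_dvd_of_normal (oddCore_eq_bot_of_le hO M) hK hKne)
    refine ⟨k, hk, ?_, hk1⟩
    by_contra hnU
    have hkT : (k : G) ∈ T := hkP
    have h2' : (k : G) * k = 1 := congrArg Subtype.val h2
    have hct : ∀ t ∈ T, t * (k : G) = k * t := fun t ht =>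
      congrArg Subtype.val (hc ⟨t, hTM ht⟩ ht)
    rcases L.invol _ hkT h2' with h | h
    · have := Subgroup.card_le_of_le (show T ≤ A from fun t ht => L.selfA _ h hnU t ht (hct t ht))
      rw [L.cardT, L.cardA] at this; omega
    · have := Subgroup.card_le_of_le (show T ≤ B from fun t ht => L.selfB _ h hnU t ht (hct t ht))
      rw [L.cardT, L.cardB] at this; omega
  -- no nontrivial solvable normal subgroup
  have hnsol : ∀ K : Subgroup ↥M, K.Normal → Group.IsSolvable ↥K → K = ⊥ := by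
    intro K hK hKs
    by_contra hKne
    haveI := hK
    obtain ⟨K₁, hK₁, hK₁ne, hK₁le, hK₁min⟩ := CfsgLib.Solvable.exists_minimal_normal_le hK hKne
    haveI := hK₁
    haveI := hKs
    haveI : Group.IsSolvable ↥K₁ :=
      solvable_of_solvable_injective (Subgroup.inclusion_injective hK₁le)
    obtain ⟨p, hp, hpg, hpow, -⟩ :=
      CfsgLib.Solvable.exists_isPGroup_of_minimal_normal hK₁ne hK₁min
    obtain ⟨k, hk, hkU, hk1⟩ := hmeet K₁ hK₁ hK₁ne
    have hp2 : p = 2 := by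
      have h := orderOf_dvd_of_pow_eq_one (hpow k hk)
      have h' : orderOf k = 2 := orderOf_eq_prime
        (by rw [pow_two]; exact Subtype.ext (L.toBase.eU _ hkU)) hk1
      rw [h'] at h
      exact ((Nat.prime_dvd_prime_iff_eq Nat.prime_two hp).1 h).symm
    subst hp2
    have hall : ∀ (N : Subgroup ↥M), N.Normal → IsPGroup 2 ↥N → N ≤ T.subgroupOf M := by
      intro N hN hNp
      haveI := hN
      have h := P.3 (P.2.to_sup_of_normal_right hNp) le_sup_left
      rw [← hP, ← h]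
      exact le_sup_right
    have hcore : K₁.map M.subtype ≤ T.normalCore := by
      rintro _ ⟨y, hy, rfl⟩ g
      have h := hall (K₁.map (MulAut.conjNormal (H := M) g).toMonoidHom)
        (hK₁.map _ (MulAut.conjNormal (H := M) g).surjective) (hpg.map _) ⟨y, hy, rfl⟩
      simpa [Subgroup.mem_subgroupOf, MulAut.conjNormal_apply] using h
    rcases hmin T.normalCore inferInstance ((normalCore_le T).trans hTM) with h | h
    · rw [h, le_bot_iff, map_eq_bot_iff_of_injective _ M.subtype_injective] at hcore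
      exact hK₁ne hcore
    · haveI : Group.IsNilpotent ↥T :=
        (IsPGroup.of_card (n := 6) (by rw [L.cardT]; rfl) : IsPGroup 2 ↥T).isNilpotent
      exact hns (solvable_of_solvable_injective
        (Subgroup.inclusion_injective (h.ge.trans (normalCore_le T))))
  -- two commuting normal subgroups cannot both be nontrivial
  have hpair : ∀ K K' : Subgroup ↥M, K.Normal → K'.Normal → K ⊓ K' = ⊥ → K = ⊥ ∨ K' = ⊥ := by
    intro K K' hK hK' hd
    by_contra hc
    push Not at hc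
    obtain ⟨k, hk, hkU, hk1⟩ := hmeet K hK hc.1
    obtain ⟨g, hg⟩ := isConj_iff.1 (hU _ hkU fun e => hk1 (Subtype.ext e))
    haveI := L.solv
    let f : ↥K' →* ↥(cz z) :=
      { toFun := fun y => ⟨g⁻¹ * ((y : ↥M) : G) * g, by
          have hy : ((y : ↥M) : G) * (g * z * g⁻¹) = g * z * g⁻¹ * ((y : ↥M) : G) := by
            rw [hg]
            exact (congrArg Subtype.val
              (commute_of_normal_of_disjoint K K' hK hK' (disjoint_iff.2 hd) k y hk y.2)).symm
          refine mem_cz.2 ?_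
          calc g⁻¹ * ((y : ↥M) : G) * g * z = g⁻¹ * (((y : ↥M) : G) * (g * z * g⁻¹)) * g := by
                group
            _ = g⁻¹ * (g * z * g⁻¹ * ((y : ↥M) : G)) * g := by rw [hy]
            _ = z * (g⁻¹ * ((y : ↥M) : G) * g) := by group⟩
        map_one' := Subtype.ext (by simp)
        map_mul' := fun y y' => Subtype.ext (by simp [mul_assoc]) }
    have hf : Function.Injective f := fun y y' h =>
      Subtype.ext (Subtype.ext (mul_left_cancel (mul_right_cancel (congrArg Subtype.val h))))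
    exact hc.2 (hnsol K' hK' (solvable_of_solvable_injective hf))
  haveI : Nontrivial ↥M := (Subgroup.nontrivial_iff_ne_bot M).2 hne
  refine IsSimpleGroup.mk fun K hK => ?_
  by_contra hc
  push Not at hc
  obtain ⟨K₁, hK₁, hK₁ne, hK₁le, hK₁min⟩ := CfsgLib.Solvable.exists_minimal_normal_le hK hc.1
  haveI := hK₁
  by_cases hall : ∀ g : G, K₁.map (MulAut.conjNormal (H := M) g).toMonoidHom ≤ K₁
  · have hn : (K₁.map M.subtype).Normal := ⟨by
      rintro _ ⟨y, hy, rfl⟩ g
      exact ⟨_, hall g ⟨y, hy, rfl⟩, by simp [MulAut.conjNormal_apply]⟩⟩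
    rcases hmin _ hn (map_subtype_le _) with h | h
    · exact hK₁ne ((map_eq_bot_iff_of_injective _ M.subtype_injective).1 h)
    · refine hc.2 (top_unique ?_)
      refine le_trans (le_of_eq (Subgroup.map_injective M.subtype_injective ?_).symm) hK₁le
      rw [h, ← MonoidHom.range_eq_map, Subgroup.range_subtype]
  · push Not at hall
    obtain ⟨g, hg⟩ := hall
    set K₂ := K₁.map (MulAut.conjNormal (H := M) g).toMonoidHom
    have hK₂ : K₂.Normal := hK₁.map _ (MulAut.conjNormal (H := M) g).surjective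
    haveI := hK₂
    rcases hK₁min (K₁ ⊓ K₂) inferInstance inf_le_left with h | h
    · rcases hpair K₁ K₂ hK₁ hK₂ h with h' | h'
      · exact hK₁ne h'
      · exact hg (le_trans (le_of_eq h') bot_le)
    · refine hg (le_of_eq (eq_of_le_of_card_ge (inf_eq_left.1 h) (le_of_eq ?_)).symm)
      exact card_map_of_injective (MulAut.conjNormal (H := M) g).injective

end Loc

end CfsgLib.InvChar.LThreeFourAut
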