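import Mathlib.Data.Fin.VecNotation

/-!
Words and deduction lists for the presentations of the four groups of order 768.
-/

set_option autoImplicit false

namespace CfsgLib.InvChar.LThreeFourAut.Model

/-- Words for the extraspecial group. -/
def wE : List (List ℕ) := [[], [0, 1, 2, 3, 4], [0], [1, 2, 3], [2, 3, 4], [0, 1, 4], [0, 2, 3, 4], [1], [1, 3], [0, 2, 4], [0, 1, 3], [2], [1, 2, 4], [0, 3, 4], [0, 1, 2, 4], [3], [4], [0, 1, 2, 3], [0, 4], [1, 2, 3, 4], [2, 3], [0, 1], [0, 2, 3], [1, 4], [1, 3, 4], [0, 2], [0, 1, 3, 4], [2, 4], [1, 2], [0, 3], [0, 1, 2], [3, 4]]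

/-- Words for the representatives of the quotient. -/
def wQ : List (List ℕ) := [[], [5], [6], [5, 6], [6, 5], [6, 6], [5, 6, 5], [5, 6, 6], [6, 5, 6], [6, 6, 5], [5, 6, 5, 6], [5, 6, 6, 5], [6, 5, 6, 5], [6, 5, 6, 6], [6, 6, 5, 6], [5, 6, 5, 6, 5], [5, 6, 5, 6, 6], [5, 6, 6, 5, 6], [6, 5, 6, 6, 5], [6, 6, 5, 6, 5], [5, 6, 5, 6, 6, 5], [5, 6, 6, 5, 6, 5], [6, 5, 6, 6, 5, 6], [5, 6, 5, 6, 6, 5, 6]]

/-- Deductions inside the extraspecial group. -/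
def certE : List (ℕ × ℕ × ℕ × ℕ) := [
  (0, 0, 0, 0), (0, 0, 0, 1), (0, 0, 0, 2), (0, 0, 0, 3), (0, 0, 0, 4), (0, 2, 0, 1), (0, 2, 0, 2), (0, 2, 0, 3),
  (0, 2, 0, 4), (0, 3, 0, 4), (0, 7, 0, 2), (0, 7, 0, 3), (0, 7, 0, 4), (0, 8, 0, 4), (0, 10, 0, 4), (0, 11, 0, 3),
  (0, 11, 0, 4), (0, 15, 0, 4), (0, 17, 0, 4), (0, 20, 0, 4), (0, 21, 0, 2), (0, 21, 0, 3), (0, 21, 0, 4), (0, 22, 0, 4),
  (0, 25, 0, 3), (0, 25, 0, 4), (0, 28, 0, 3), (0, 28, 0, 4), (0, 29, 0, 4), (0, 30, 0, 3), (0, 30, 0, 4), (1, 0, 0, 1),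
  (1, 0, 1, 1), (1, 0, 3, 1), (1, 0, 5, 1), (1, 0, 7, 1), (1, 0, 30, 1), (1, 0, 32, 1), (1, 0, 34, 1), (1, 0, 36, 1),
  (1, 1, 0, 0), (1, 2, 0, 1), (1, 2, 3, 1), (1, 2, 5, 1), (1, 2, 7, 1), (1, 2, 30, 1), (1, 2, 32, 1), (1, 2, 34, 1),
  (1, 2, 36, 1), (1, 3, 0, 1), (1, 3, 7, 0), (1, 3, 36, 1), (1, 4, 0, 0), (1, 5, 0, 0), (1, 5, 3, 0), (1, 5, 9, 0),
  (1, 5, 30, 1), (1, 6, 0, 0), (1, 7, 0, 1), (1, 7, 1, 0), (1, 7, 5, 1), (1, 7, 7, 1), (1, 7, 30, 1), (1, 7, 32, 1),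
  (1, 7, 34, 1), (1, 7, 36, 1), (1, 7, 42, 1), (1, 8, 0, 1), (1, 8, 5, 1), (1, 8, 34, 1), (1, 8, 36, 1), (1, 9, 0, 0),
  (1, 9, 5, 0), (1, 9, 8, 0), (1, 9, 10, 0), (1, 9, 30, 1), (1, 9, 39, 1), (1, 9, 42, 1), (1, 10, 0, 1), (1, 10, 7, 0),
  (1, 10, 11, 0), (1, 10, 30, 1), (1, 10, 36, 1), (1, 11, 0, 1), (1, 11, 1, 0), (1, 11, 7, 1), (1, 11, 30, 1), (1, 11, 34, 1),
  (1, 11, 36, 1), (1, 11, 39, 1), (1, 12, 0, 0), (1, 12, 5, 0), (1, 12, 7, 0), (1, 12, 12, 0), (1, 12, 32, 1), (1, 12, 41, 1),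
  (1, 13, 0, 0), (1, 13, 7, 0), (1, 13, 11, 0), (1, 13, 13, 0), (1, 13, 30, 1), (1, 13, 32, 1), (1, 14, 0, 0), (1, 14, 8, 0),
  (1, 15, 0, 1), (1, 15, 1, 0), (1, 15, 13, 0), (1, 15, 30, 1), (1, 15, 32, 1), (1, 15, 36, 1), (1, 15, 37, 1), (1, 16, 40, 1),
  (1, 16, 42, 1), (1, 17, 7, 0), (1, 17, 36, 1), (1, 18, 13, 1), (1, 18, 42, 1), (1, 19, 3, 1), (1, 19, 13, 1), (1, 19, 32, 1),
  (1, 19, 34, 1), (1, 20, 1, 1), (1, 20, 3, 0), (1, 20, 5, 0), (1, 20, 10, 1), (1, 20, 11, 1), (1, 20, 30, 1), (1, 20, 34, 1),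
  (1, 20, 41, 1), (1, 21, 5, 1), (1, 21, 34, 1), (1, 21, 38, 1), (1, 21, 40, 1), (1, 21, 41, 1), (1, 21, 42, 1), (1, 22, 36, 1),
  (1, 23, 38, 1), (1, 23, 41, 1), (1, 24, 9, 1), (1, 24, 12, 1), (1, 24, 30, 1), (1, 24, 32, 1), (1, 26, 6, 0), (1, 26, 38, 1),
  (1, 28, 1, 0), (1, 28, 39, 1), (1, 29, 5, 0), (1, 29, 40, 1), (1, 30, 3, 1), (1, 30, 30, 1), (1, 30, 32, 1), (1, 30, 34, 1),
  (1, 30, 41, 1), (1, 30, 42, 1), (1, 1, 1, 0), (1, 1, 3, 0), (1, 1, 5, 0), (1, 2, 40, 1), (1, 3, 30, 1), (1, 6, 32, 1)]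

/-- Deductions modulo the extraspecial group, variant 0. -/
def certQ0 : List (ℕ × ℕ × ℕ × ℕ) := [
  (0, 0, 0, 5), (0, 0, 0, 6), (0, 32, 0, 6), (0, 64, 0, 5), (0, 64, 0, 6), (0, 96, 0, 5), (0, 96, 0, 6), (0, 128, 0, 6),
  (0, 160, 0, 5), (0, 192, 0, 6), (0, 224, 0, 5), (0, 256, 0, 5), (0, 256, 0, 6), (0, 288, 0, 6), (0, 320, 0, 5), (0, 320, 0, 6),
  (0, 352, 0, 6), (0, 416, 0, 5), (0, 448, 0, 5), (0, 512, 0, 5), (0, 544, 0, 5), (0, 576, 0, 6), (0, 640, 0, 6), (1, 0, 15, 1),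
  (1, 0, 16, 2), (1, 0, 18, 1), (1, 0, 19, 1), (1, 0, 20, 1), (1, 0, 21, 1), (1, 0, 22, 1), (1, 0, 23, 1), (1, 0, 24, 1),
  (1, 0, 25, 1), (1, 0, 26, 1), (1, 0, 27, 1), (1, 32, 16, 2), (1, 32, 19, 1), (1, 32, 24, 1), (1, 32, 25, 1), (1, 32, 26, 1),
  (1, 32, 27, 1), (1, 64, 15, 1), (1, 64, 18, 1), (1, 64, 19, 1), (1, 64, 20, 1), (1, 64, 21, 1), (1, 64, 22, 1), (1, 64, 23, 1),
  (1, 64, 24, 1), (1, 64, 25, 1), (1, 64, 26, 1), (1, 64, 27, 1), (1, 96, 15, 1), (1, 96, 18, 1), (1, 96, 19, 1), (1, 96, 20, 1),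
  (1, 96, 21, 1), (1, 96, 22, 1), (1, 96, 23, 1), (1, 96, 24, 1), (1, 96, 25, 1), (1, 96, 26, 1), (1, 96, 27, 1), (1, 128, 16, 2),
  (1, 128, 19, 1), (1, 128, 24, 1), (1, 128, 25, 1), (1, 128, 26, 1), (1, 128, 27, 1), (1, 160, 15, 1), (1, 160, 18, 1), (1, 160, 20, 1),
  (1, 160, 21, 1), (1, 160, 22, 1), (1, 160, 23, 1), (1, 192, 16, 2), (1, 192, 19, 1), (1, 192, 24, 1), (1, 192, 25, 1), (1, 192, 26, 1),
  (1, 192, 27, 1), (1, 224, 15, 1), (1, 224, 18, 1), (1, 224, 20, 1), (1, 224, 21, 1), (1, 224, 22, 1), (1, 224, 23, 1), (1, 256, 15, 1),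
  (1, 256, 17, 1), (1, 256, 18, 1), (1, 256, 19, 1), (1, 256, 20, 1), (1, 256, 21, 1), (1, 256, 22, 1), (1, 256, 23, 1), (1, 256, 24, 1),
  (1, 256, 25, 1), (1, 256, 26, 1), (1, 256, 27, 1), (1, 288, 17, 7), (1, 288, 19, 1), (1, 288, 24, 1), (1, 288, 25, 1), (1, 288, 26, 1),
  (1, 288, 27, 1), (1, 320, 15, 1), (1, 320, 18, 1), (1, 320, 19, 1), (1, 320, 20, 1), (1, 320, 21, 1), (1, 320, 22, 1), (1, 320, 23, 1),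
  (1, 320, 24, 1), (1, 320, 25, 1), (1, 320, 26, 1), (1, 320, 27, 1), (1, 352, 16, 1), (1, 352, 19, 1), (1, 352, 24, 1), (1, 352, 25, 1),
  (1, 352, 26, 1), (1, 352, 27, 1), (1, 416, 15, 1), (1, 416, 18, 1), (1, 416, 20, 1), (1, 416, 21, 1), (1, 416, 22, 1), (1, 416, 23, 1),
  (1, 448, 15, 1), (1, 448, 16, 0), (1, 448, 17, 1), (1, 448, 18, 1), (1, 448, 20, 1), (1, 448, 21, 1), (1, 448, 22, 1), (1, 448, 23, 1),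
  (1, 512, 15, 1), (1, 512, 18, 1), (1, 512, 20, 1), (1, 512, 21, 1), (1, 512, 22, 1), (1, 512, 23, 1), (1, 544, 15, 1), (1, 544, 17, 1),
  (1, 544, 18, 1), (1, 544, 20, 1), (1, 544, 21, 1), (1, 544, 22, 1), (1, 544, 23, 1), (1, 576, 16, 1), (1, 576, 19, 1), (1, 576, 24, 1),
  (1, 576, 25, 1), (1, 576, 26, 1), (1, 576, 27, 1), (1, 608, 17, 6), (1, 640, 16, 1), (1, 640, 19, 1), (1, 640, 24, 1), (1, 640, 25, 1),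
  (1, 640, 26, 1), (1, 640, 27, 1), (1, 672, 17, 6)]

/-- Deductions modulo the extraspecial group, variant 1. -/
def certQ1 : List (ℕ × ℕ × ℕ × ℕ) := [
  (0, 0, 0, 5), (0, 0, 0, 6), (0, 32, 0, 6), (0, 64, 0, 5), (0, 64, 0, 6), (0, 96, 0, 5), (0, 96, 0, 6), (0, 128, 0, 6),
  (0, 160, 0, 5), (0, 192, 0, 6), (0, 224, 0, 5), (0, 256, 0, 5), (0, 256, 0, 6), (0, 288, 0, 6), (0, 320, 0, 5), (0, 320, 0, 6),
  (0, 352, 0, 6), (0, 416, 0, 5), (0, 448, 0, 5), (0, 512, 0, 5), (0, 544, 0, 5), (0, 576, 0, 6), (0, 640, 0, 6), (1, 0, 15, 1),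
  (1, 0, 16, 2), (1, 0, 18, 1), (1, 0, 19, 1), (1, 0, 20, 1), (1, 0, 21, 1), (1, 0, 22, 1), (1, 0, 23, 1), (1, 0, 24, 1),
  (1, 0, 25, 1), (1, 0, 26, 1), (1, 0, 27, 1), (1, 32, 16, 2), (1, 32, 19, 1), (1, 32, 24, 1), (1, 32, 25, 1), (1, 32, 26, 1),
  (1, 32, 27, 1), (1, 64, 15, 1), (1, 64, 18, 1), (1, 64, 19, 1), (1, 64, 20, 1), (1, 64, 21, 1), (1, 64, 22, 1), (1, 64, 23, 1),
  (1, 64, 24, 1), (1, 64, 25, 1), (1, 64, 26, 1), (1, 64, 27, 1), (1, 96, 15, 1), (1, 96, 18, 1), (1, 96, 19, 1), (1, 96, 20, 1),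
  (1, 96, 21, 1), (1, 96, 22, 1), (1, 96, 23, 1), (1, 96, 24, 1), (1, 96, 25, 1), (1, 96, 26, 1), (1, 96, 27, 1), (1, 128, 16, 2),
  (1, 128, 19, 1), (1, 128, 24, 1), (1, 128, 25, 1), (1, 128, 26, 1), (1, 128, 27, 1), (1, 160, 15, 1), (1, 160, 18, 1), (1, 160, 20, 1),
  (1, 160, 21, 1), (1, 160, 22, 1), (1, 160, 23, 1), (1, 192, 16, 2), (1, 192, 19, 1), (1, 192, 24, 1), (1, 192, 25, 1), (1, 192, 26, 1),
  (1, 192, 27, 1), (1, 224, 15, 1), (1, 224, 18, 1), (1, 224, 20, 1), (1, 224, 21, 1), (1, 224, 22, 1), (1, 224, 23, 1), (1, 256, 15, 1),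
  (1, 256, 17, 1), (1, 256, 18, 1), (1, 256, 19, 1), (1, 256, 20, 1), (1, 256, 21, 1), (1, 256, 22, 1), (1, 256, 23, 1), (1, 256, 24, 1),
  (1, 256, 25, 1), (1, 256, 26, 1), (1, 256, 27, 1), (1, 288, 17, 7), (1, 288, 19, 1), (1, 288, 24, 1), (1, 288, 25, 1), (1, 288, 26, 1),
  (1, 288, 27, 1), (1, 320, 15, 1), (1, 320, 18, 1), (1, 320, 19, 1), (1, 320, 20, 1), (1, 320, 21, 1), (1, 320, 22, 1), (1, 320, 23, 1),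
  (1, 320, 24, 1), (1, 320, 25, 1), (1, 320, 26, 1), (1, 320, 27, 1), (1, 352, 16, 1), (1, 352, 19, 1), (1, 352, 24, 1), (1, 352, 25, 1),
  (1, 352, 26, 1), (1, 352, 27, 1), (1, 416, 15, 1), (1, 416, 18, 1), (1, 416, 20, 1), (1, 416, 21, 1), (1, 416, 22, 1), (1, 416, 23, 1),
  (1, 448, 15, 1), (1, 448, 16, 0), (1, 448, 17, 1), (1, 448, 18, 1), (1, 448, 20, 1), (1, 448, 21, 1), (1, 448, 22, 1), (1, 448, 23, 1),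
  (1, 512, 15, 1), (1, 512, 18, 1), (1, 512, 20, 1), (1, 512, 21, 1), (1, 512, 22, 1), (1, 512, 23, 1), (1, 544, 15, 1), (1, 544, 17, 1),
  (1, 544, 18, 1), (1, 544, 20, 1), (1, 544, 21, 1), (1, 544, 22, 1), (1, 544, 23, 1), (1, 576, 16, 1), (1, 576, 19, 1), (1, 576, 24, 1),
  (1, 576, 25, 1), (1, 576, 26, 1), (1, 576, 27, 1), (1, 608, 17, 6), (1, 640, 16, 1), (1, 640, 19, 1), (1, 640, 24, 1), (1, 640, 25, 1),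
  (1, 640, 26, 1), (1, 640, 27, 1), (1, 672, 17, 6)]

/-- Deductions modulo the extraspecial group, variant 2. -/
def certQ2 : List (ℕ × ℕ × ℕ × ℕ) := [
  (0, 0, 0, 5), (0, 0, 0, 6), (0, 32, 0, 6), (0, 64, 0, 5), (0, 64, 0, 6), (0, 96, 0, 5), (0, 96, 0, 6), (0, 128, 0, 6),
  (0, 160, 0, 5), (0, 192, 0, 6), (0, 224, 0, 5), (0, 256, 0, 5), (0, 256, 0, 6), (0, 288, 0, 6), (0, 320, 0, 5), (0, 320, 0, 6),
  (0, 352, 0, 6), (0, 416, 0, 5), (0, 448, 0, 5), (0, 512, 0, 5), (0, 544, 0, 5), (0, 576, 0, 6), (0, 640, 0, 6), (1, 0, 15, 1),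
  (1, 0, 16, 2), (1, 0, 18, 1), (1, 0, 19, 1), (1, 0, 20, 1), (1, 0, 21, 1), (1, 0, 22, 1), (1, 0, 23, 1), (1, 0, 24, 1),
  (1, 0, 25, 1), (1, 0, 26, 1), (1, 0, 27, 1), (1, 32, 16, 2), (1, 32, 19, 1), (1, 32, 24, 1), (1, 32, 25, 1), (1, 32, 26, 1),
  (1, 32, 27, 1), (1, 64, 15, 1), (1, 64, 18, 1), (1, 64, 19, 1), (1, 64, 20, 1), (1, 64, 21, 1), (1, 64, 22, 1), (1, 64, 23, 1),
  (1, 64, 24, 1), (1, 64, 25, 1), (1, 64, 26, 1), (1, 64, 27, 1), (1, 96, 15, 1), (1, 96, 18, 1), (1, 96, 19, 1), (1, 96, 20, 1),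
  (1, 96, 21, 1), (1, 96, 22, 1), (1, 96, 23, 1), (1, 96, 24, 1), (1, 96, 25, 1), (1, 96, 26, 1), (1, 96, 27, 1), (1, 128, 16, 2),
  (1, 128, 19, 1), (1, 128, 24, 1), (1, 128, 25, 1), (1, 128, 26, 1), (1, 128, 27, 1), (1, 160, 15, 1), (1, 160, 18, 1), (1, 160, 20, 1),
  (1, 160, 21, 1), (1, 160, 22, 1), (1, 160, 23, 1), (1, 192, 16, 2), (1, 192, 19, 1), (1, 192, 24, 1), (1, 192, 25, 1), (1, 192, 26, 1),
  (1, 192, 27, 1), (1, 224, 15, 1), (1, 224, 18, 1), (1, 224, 20, 1), (1, 224, 21, 1), (1, 224, 22, 1), (1, 224, 23, 1), (1, 256, 15, 1),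
  (1, 256, 17, 1), (1, 256, 18, 1), (1, 256, 19, 1), (1, 256, 20, 1), (1, 256, 21, 1), (1, 256, 22, 1), (1, 256, 23, 1), (1, 256, 24, 1),
  (1, 256, 25, 1), (1, 256, 26, 1), (1, 256, 27, 1), (1, 288, 17, 7), (1, 288, 19, 1), (1, 288, 24, 1), (1, 288, 25, 1), (1, 288, 26, 1),
  (1, 288, 27, 1), (1, 320, 15, 1), (1, 320, 18, 1), (1, 320, 19, 1), (1, 320, 20, 1), (1, 320, 21, 1), (1, 320, 22, 1), (1, 320, 23, 1),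
  (1, 320, 24, 1), (1, 320, 25, 1), (1, 320, 26, 1), (1, 320, 27, 1), (1, 352, 16, 1), (1, 352, 19, 1), (1, 352, 24, 1), (1, 352, 25, 1),
  (1, 352, 26, 1), (1, 352, 27, 1), (1, 416, 15, 1), (1, 416, 18, 1), (1, 416, 20, 1), (1, 416, 21, 1), (1, 416, 22, 1), (1, 416, 23, 1),
  (1, 448, 15, 1), (1, 448, 16, 0), (1, 448, 17, 1), (1, 448, 18, 1), (1, 448, 20, 1), (1, 448, 21, 1), (1, 448, 22, 1), (1, 448, 23, 1),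
  (1, 512, 15, 1), (1, 512, 18, 1), (1, 512, 20, 1), (1, 512, 21, 1), (1, 512, 22, 1), (1, 512, 23, 1), (1, 544, 15, 1), (1, 544, 17, 1),
  (1, 544, 18, 1), (1, 544, 20, 1), (1, 544, 21, 1), (1, 544, 22, 1), (1, 544, 23, 1), (1, 576, 16, 1), (1, 576, 19, 1), (1, 576, 24, 1),
  (1, 576, 25, 1), (1, 576, 26, 1), (1, 576, 27, 1), (1, 608, 17, 6), (1, 640, 16, 1), (1, 640, 19, 1), (1, 640, 24, 1), (1, 640, 25, 1),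
  (1, 640, 26, 1), (1, 640, 27, 1), (1, 672, 17, 6)]

/-- Deductions modulo the extraspecial group, variant 3. -/
def certQ3 : List (ℕ × ℕ × ℕ × ℕ) := [
  (0, 0, 0, 5), (0, 0, 0, 6), (0, 32, 0, 6), (0, 64, 0, 5), (0, 64, 0, 6), (0, 96, 0, 5), (0, 96, 0, 6), (0, 128, 0, 6),
  (0, 160, 0, 5), (0, 192, 0, 6), (0, 224, 0, 5), (0, 256, 0, 5), (0, 256, 0, 6), (0, 288, 0, 6), (0, 320, 0, 5), (0, 320, 0, 6),
  (0, 352, 0, 6), (0, 416, 0, 5), (0, 448, 0, 5), (0, 512, 0, 5), (0, 544, 0, 5), (0, 576, 0, 6), (0, 640, 0, 6), (1, 0, 15, 1),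
  (1, 0, 16, 2), (1, 0, 18, 1), (1, 0, 19, 1), (1, 0, 20, 1), (1, 0, 21, 1), (1, 0, 22, 1), (1, 0, 23, 1), (1, 0, 24, 1),
  (1, 0, 25, 1), (1, 0, 26, 1), (1, 0, 27, 1), (1, 32, 16, 2), (1, 32, 19, 1), (1, 32, 24, 1), (1, 32, 25, 1), (1, 32, 26, 1),
  (1, 32, 27, 1), (1, 64, 15, 1), (1, 64, 18, 1), (1, 64, 19, 1), (1, 64, 20, 1), (1, 64, 21, 1), (1, 64, 22, 1), (1, 64, 23, 1),
  (1, 64, 24, 1), (1, 64, 25, 1), (1, 64, 26, 1), (1, 64, 27, 1), (1, 96, 15, 1), (1, 96, 18, 1), (1, 96, 19, 1), (1, 96, 20, 1),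
  (1, 96, 21, 1), (1, 96, 22, 1), (1, 96, 23, 1), (1, 96, 24, 1), (1, 96, 25, 1), (1, 96, 26, 1), (1, 96, 27, 1), (1, 128, 16, 2),
  (1, 128, 19, 1), (1, 128, 24, 1), (1, 128, 25, 1), (1, 128, 26, 1), (1, 128, 27, 1), (1, 160, 15, 1), (1, 160, 18, 1), (1, 160, 20, 1),
  (1, 160, 21, 1), (1, 160, 22, 1), (1, 160, 23, 1), (1, 192, 16, 2), (1, 192, 19, 1), (1, 192, 24, 1), (1, 192, 25, 1), (1, 192, 26, 1),
  (1, 192, 27, 1), (1, 224, 15, 1), (1, 224, 18, 1), (1, 224, 20, 1), (1, 224, 21, 1), (1, 224, 22, 1), (1, 224, 23, 1), (1, 256, 15, 1),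
  (1, 256, 17, 1), (1, 256, 18, 1), (1, 256, 19, 1), (1, 256, 20, 1), (1, 256, 21, 1), (1, 256, 22, 1), (1, 256, 23, 1), (1, 256, 24, 1),
  (1, 256, 25, 1), (1, 256, 26, 1), (1, 256, 27, 1), (1, 288, 17, 7), (1, 288, 19, 1), (1, 288, 24, 1), (1, 288, 25, 1), (1, 288, 26, 1),
  (1, 288, 27, 1), (1, 320, 15, 1), (1, 320, 18, 1), (1, 320, 19, 1), (1, 320, 20, 1), (1, 320, 21, 1), (1, 320, 22, 1), (1, 320, 23, 1),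
  (1, 320, 24, 1), (1, 320, 25, 1), (1, 320, 26, 1), (1, 320, 27, 1), (1, 352, 16, 1), (1, 352, 19, 1), (1, 352, 24, 1), (1, 352, 25, 1),
  (1, 352, 26, 1), (1, 352, 27, 1), (1, 416, 15, 1), (1, 416, 18, 1), (1, 416, 20, 1), (1, 416, 21, 1), (1, 416, 22, 1), (1, 416, 23, 1),
  (1, 448, 15, 1), (1, 448, 16, 0), (1, 448, 17, 1), (1, 448, 18, 1), (1, 448, 20, 1), (1, 448, 21, 1), (1, 448, 22, 1), (1, 448, 23, 1),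
  (1, 512, 15, 1), (1, 512, 18, 1), (1, 512, 20, 1), (1, 512, 21, 1), (1, 512, 22, 1), (1, 512, 23, 1), (1, 544, 15, 1), (1, 544, 17, 1),
  (1, 544, 18, 1), (1, 544, 20, 1), (1, 544, 21, 1), (1, 544, 22, 1), (1, 544, 23, 1), (1, 576, 16, 1), (1, 576, 19, 1), (1, 576, 24, 1),
  (1, 576, 25, 1), (1, 576, 26, 1), (1, 576, 27, 1), (1, 608, 17, 6), (1, 640, 16, 1), (1, 640, 19, 1), (1, 640, 24, 1), (1, 640, 25, 1),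
  (1, 640, 26, 1), (1, 640, 27, 1), (1, 672, 17, 6)]

/-- Deductions modulo the extraspecial group. -/
def certQ : Fin 4 → List (ℕ × ℕ × ℕ × ℕ) := ![certQ0, certQ1, certQ2, certQ3]

end CfsgLib.InvChar.LThreeFourAut.Model
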