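import Cfsg.Agent.Lib.InvChar.LThreeFourAut.Model
import Cfsg.Agent.Lib.InvChar.LThreeFourAut.ModelWords

/-!
The four groups of order 768 are presented by the generators `2, 7, 11, 15, 16, 32, 64` and the
relations `relN`: a certified deduction of every edge of the Cayley graph gives the homomorphism.
-/

set_option autoImplicit false

namespace CfsgLib.InvChar.LThreeFourAut.Model

/-- The generators: a frame of the extraspecial group, `z`, `s`, `t`. -/
def genN (g : ℕ) : ℕ := [2, 7, 11, 15, 16, 32, 64].getD g 0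

/-- The relations. -/
def relHalf (b : Fin 4) : List (List ℕ × List ℕ) :=
  [([4, 4], []),
   ([0, 0], []), ([0, 4], [4, 0]), ([1, 1], []), ([1, 4], [4, 1]),
   ([2, 2], []), ([2, 4], [4, 2]), ([3, 3], []), ([3, 4], [4, 3]),
   ([0, 1], [1, 0, 4]), ([0, 2], [2, 0, 4]), ([0, 3], [3, 0, 4]),
   ([1, 2], [2, 1, 4]), ([1, 3], [3, 1, 4]), ([2, 3], [3, 2, 4]),
   ([5, 5], List.replicate (b.val / 2) 4), ([6, 6, 6], []),
   ([5, 6, 5, 6, 5, 6, 5, 6], List.replicate (b.val % 2) 4),
   ([5, 4], [4, 5]), ([6, 4], [4, 6]),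
   ([5, 0], [3, 5]), ([5, 1], [1, 5]), ([5, 2], [2, 5]), ([5, 3], [0, 5]),
   ([6, 0], [0, 6]), ([6, 1], [2, 4, 6]), ([6, 2], [3, 6]), ([6, 3], [1, 4, 6])]

/-- The relations, in both directions. -/
def relN (b : Fin 4) : List (List ℕ × List ℕ) := relHalf b ++ (relHalf b).map Prod.swap

/-- One step. -/
def stepN (b : Fin 4) (v g : ℕ) : ℕ := mulN b v (genN g)

/-- The end of a walk. -/
def walkN (b : Fin 4) : ℕ → List ℕ → ℕ
  | v, [] => v
  | v, g :: w => walkN b (stepN b v g) w

/-- The word of an element. -/
def wordN (b : Fin 4) (u : ℕ) : List ℕ :=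
  wE.getD (emul (u % 32) (einv (walkN b 0 (wQ.getD (u / 32) []) % 32))) [] ++ wQ.getD (u / 32) []

/-- All edges of a walk are known. -/
def knownWalk (b : Fin 4) (key : ℕ → ℕ) (K : List (ℕ × ℕ)) : ℕ → List ℕ → Bool
  | _, [] => true
  | v, g :: w => decide (g < 7) && K.elem (key v, g) && knownWalk b key K (stepN b v g) w

/-- One deduction: a tree edge, or the last unknown edge of a relation. -/
def deduce (b : Fin 4) (key : ℕ → ℕ) (K : List (ℕ × ℕ)) : ℕ × ℕ × ℕ × ℕ → Option (List (ℕ × ℕ))
  | (0, v, _, g) =>
    if v < 768 ∧ g < 7 ∧ wordN b (stepN b v g) = wordN b v ++ [g] then some ((key v, g) :: K) else none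
  | (_, v, k, i) =>
    let L := ((relN b).getD k ([], [])).1
    let R := ((relN b).getD k ([], [])).2
    let x := walkN b v (L.take i)
    if v < 768 ∧ i < L.length ∧ L.getD i 0 < 7 ∧ walkN b v L = walkN b v R ∧
        knownWalk b key K v R = true ∧ knownWalk b key K v (L.take i) = true ∧
        knownWalk b key K (stepN b x (L.getD i 0)) (L.drop (i + 1)) = true then
      some ((key x, L.getD i 0) :: K)
    else none

/-- All deductions. -/
def runCert (b : Fin 4) (key : ℕ → ℕ) : List (ℕ × ℕ × ℕ × ℕ) → List (ℕ × ℕ) → Option (List (ℕ × ℕ))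
  | [], K => some K
  | d :: ds, K => (deduce b key K d).bind (runCert b key ds)

/-- The edges known before the second round. -/
def startQ : List (ℕ × ℕ) := (List.range 5).map fun g => (0, g)

theorem wordN_spec (b : Fin 4) : ∀ u < 768, walkN b 0 (wordN b u) = u := by
  revert b; decide +kernel

theorem wordN_lt (b : Fin 4) : ∀ u < 768, ∀ g ∈ wordN b u, g < 7 := by
  revert b; decide +kernel

theorem wordN_small (b : Fin 4) : ∀ u < 32,
    wordN b u = wE.getD u [] ∧ ∀ g ∈ wE.getD u [], g < 5 := by
  revert b; decide +kernel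

theorem wordN_zero (b : Fin 4) : wordN b 0 = [] := by
  revert b; decide +kernel

theorem certE_complete (b : Fin 4) : (runCert b id certE []).elim false
    (fun K => (List.range 32).all fun v => (List.range 5).all fun g => K.elem (v, g)) = true := by
  revert b; decide +kernel

theorem certQ_complete (b : Fin 4) : (runCert b (· / 32) (certQ b) startQ).elim false
    (fun K => (List.range 24).all fun q => (List.range 7).all fun g => K.elem (q, g)) = true := by
  revert b; decide +kernel

theorem genN_lt : ∀ g < 7, genN g < 768 := by decide +kernel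

theorem genN_small : ∀ g < 5, genN g < 32 := by decide +kernel

theorem stepN_lt (b : Fin 4) {v g : ℕ} (hv : v < 768) (hg : g < 7) : stepN b v g < 768 :=
  mulN_lt b hv (genN_lt g hg)

theorem walkN_lt (b : Fin 4) : ∀ (w : List ℕ) {v : ℕ}, v < 768 → (∀ g ∈ w, g < 7) → walkN b v w < 768
  | [], v, hv, _ => hv
  | g :: w, v, hv, hw => walkN_lt b w (stepN_lt b hv (hw g (by simp))) fun h hh => hw h (by simp [hh])

theorem walkN_append (b : Fin 4) : ∀ (w w' : List ℕ) (v : ℕ),
    walkN b v (w ++ w') = walkN b (walkN b v w) w'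
  | [], _, _ => rfl
  | _ :: w, w', _ => walkN_append b w w' _

/-- Left multiplication by the extraspecial group on codes. -/
theorem mulN_left (b : Fin 4) {e v : ℕ} (he : e < 32) (hv : v < 768) :
    mulN b e v % 32 = emul e (v % 32) ∧ mulN b e v / 32 = v / 32 := by
  obtain ⟨h1, h2⟩ := mulN_mod b e v
  rw [show e % 32 = e by omega, show e / 32 = 0 by omega, act_one _ (Nat.mod_lt _ (by norm_num)),
    coc_one b _ (show v / 32 < 24 by omega),
    (emul_zero _ (emul_lt _ he _ (Nat.mod_lt _ (by norm_num)))).2] at h1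
  rw [show e / 32 = 0 by omega, (qmul_one _ (show v / 32 < 24 by omega)).1] at h2
  exact ⟨h1, h2⟩

theorem mulN_small (b : Fin 4) {x y : ℕ} (hx : x < 32) (hy : y < 32) : mulN b x y = emul x y := by
  obtain ⟨h1, h2⟩ := mulN_left b hx (show y < 768 by omega)
  rw [show y % 32 = y by omega] at h1
  omega

theorem walkN_small (b : Fin 4) : ∀ (w : List ℕ) {v : ℕ}, v < 32 → (∀ g ∈ w, g < 5) → walkN b v w < 32
  | [], v, hv, _ => hv
  | g :: w, v, hv, hw => by
    refine walkN_small b w ?_ fun h hh => hw h (by simp [hh])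
    show mulN b v (genN g) < 32
    rw [mulN_small b hv (genN_small g (hw g (by simp)))]
    exact emul_lt _ hv _ (genN_small g (hw g (by simp)))

/-- A walk is multiplication by the end of the walk from the identity. -/
theorem walkN_eq_mul (b : Fin 4) : ∀ (w : List ℕ), (∀ g ∈ w, g < 7) → ∀ v < 768,
    walkN b v w = mulN b v (walkN b 0 w) := by
  intro w
  induction w using List.reverseRecOn with
  | nil =>
    intro _ v hv
    exact (congrArg (fun x : K b => x.n.val) (mul_one (mk b v hv))).symm
  | append_singleton w g ih =>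
    intro hw v hv
    have hw' : ∀ a ∈ w, a < 7 := fun a ha => hw a (by simp [ha])
    rw [walkN_append, walkN_append, ih hw' v hv]
    exact mulN_assoc b hv (walkN_lt b w (by norm_num) hw') (genN_lt g (hw g (by simp)))

section Hom

variable {G : Type*} [Group G] (b : Fin 4) (ρ : ℕ → G)

/-- The value of a word. -/
def evalW (w : List ℕ) : G := (w.map ρ).prod

/-- The candidate homomorphism on codes. -/
def valN (u : ℕ) : G := evalW ρ (wordN b u)

/-- An edge is respected. -/
def Good (v g : ℕ) : Prop := valN b ρ v * ρ g = valN b ρ (stepN b v g)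

/-- Every known edge is respected. -/
def Known (key : ℕ → ℕ) (K : List (ℕ × ℕ)) : Prop :=
  ∀ v < 768, ∀ g < 7, (key v, g) ∈ K → Good b ρ v g

theorem walk_good {key : ℕ → ℕ} {K : List (ℕ × ℕ)} (hK : Known b ρ key K) :
    ∀ (w : List ℕ) (v : ℕ), v < 768 → knownWalk b key K v w = true →
      valN b ρ v * evalW ρ w = valN b ρ (walkN b v w) ∧ ∀ g ∈ w, g < 7
  | [], v, _, _ => ⟨by simp [evalW, walkN], by simp⟩
  | g :: w, v, hv, h => by
    simp only [knownWalk, Bool.and_eq_true, decide_eq_true_eq, List.elem_iff] at h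
    obtain ⟨⟨hg, hm⟩, hw⟩ := h
    obtain ⟨e, hlt⟩ := walk_good hK w _ (stepN_lt b hv hg) hw
    refine ⟨?_, ?_⟩
    · show valN b ρ v * (ρ g * evalW ρ w) = _
      rw [← mul_assoc, hK v hv g hg hm]
      exact e
    · intro x hx
      rcases List.mem_cons.1 hx with rfl | hx
      exacts [hg, hlt x hx]

theorem deduce_sound (hrel : ∀ p ∈ relN b, evalW ρ p.1 = evalW ρ p.2) {key : ℕ → ℕ}
    (hkey : ∀ v < 768, ∀ w < 768, key v = key w → ∀ g < 7, Good b ρ v g → Good b ρ w g)
    {K K' : List (ℕ × ℕ)} (hK : Known b ρ key K) {d : ℕ × ℕ × ℕ × ℕ}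
    (h : deduce b key K d = some K') : Known b ρ key K' := by
  obtain ⟨kind, v, k, i⟩ := d
  have add : ∀ x g₀ : ℕ, x < 768 → Good b ρ x g₀ → K' = (key x, g₀) :: K → Known b ρ key K' := by
    intro x g₀ hx hgood hKeq y hy g hg hm
    subst hKeq
    rcases List.mem_cons.1 hm with e | e
    · simp only [Prod.mk.injEq] at e
      exact hkey x hx y hy e.1.symm g hg (e.2 ▸ hgood)
    · exact hK y hy g hg e
  cases kind with
  | zero =>
    simp only [deduce] at h
    split at h
    · rename_i hc
      refine add v i hc.1 ?_ (Option.some.inj h).symm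
      show valN b ρ v * ρ i = evalW ρ (wordN b (stepN b v i))
      rw [hc.2.2]
      simp [valN, evalW]
    · exact absurd h (by simp)
  | succ kind =>
    simp only [deduce] at h
    split at h
    · rename_i hc
      obtain ⟨hv, hi, hgi, hwalk, hR, hP, hS⟩ := hc
      set L := ((relN b).getD k ([], [])).1 with hL
      set R := ((relN b).getD k ([], [])).2 with hR'
      set x := walkN b v (L.take i) with hx
      set g₀ := L.getD i 0 with hg₀
      obtain ⟨eP, lP⟩ := walk_good b ρ hK _ v hv hP
      have hxlt : x < 768 := walkN_lt b _ hv lP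
      refine add x g₀ hxlt ?_ (Option.some.inj h).symm
      obtain ⟨eR, -⟩ := walk_good b ρ hK _ v hv hR
      obtain ⟨eS, -⟩ := walk_good b ρ hK _ _ (stepN_lt b hxlt hgi) hS
      have hLsplit : L = L.take i ++ g₀ :: L.drop (i + 1) := by
        rw [hg₀, List.getD_eq_getElem _ _ hi, ← List.drop_eq_getElem_cons hi, List.take_append_drop]
      have hrel' : evalW ρ L = evalW ρ R := by
        by_cases hk : k < (relN b).length
        · rw [hL, hR', List.getD_eq_getElem _ _ hk]
          exact hrel _ (List.getElem_mem hk)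
        · rw [hL, List.getD_eq_default _ _ (not_lt.1 hk)] at hi
          exact absurd hi (by simp)
      have e1 : valN b ρ v * evalW ρ L = valN b ρ (walkN b v L) := by rw [hrel', eR, hwalk]
      rw [hLsplit, walkN_append] at e1
      have e2 : evalW ρ (L.take i ++ g₀ :: L.drop (i + 1)) =
          evalW ρ (L.take i) * (ρ g₀ * evalW ρ (L.drop (i + 1))) := by
        simp [evalW]
      rw [e2, ← mul_assoc, eP, ← hx, ← mul_assoc] at e1
      have e3 : walkN b x (g₀ :: L.drop (i + 1)) = walkN b (stepN b x g₀) (L.drop (i + 1)) := rfl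
      rw [e3, ← eS] at e1
      exact mul_right_cancel e1
    · exact absurd h (by simp)

theorem runCert_sound (hrel : ∀ p ∈ relN b, evalW ρ p.1 = evalW ρ p.2) {key : ℕ → ℕ}
    (hkey : ∀ v < 768, ∀ w < 768, key v = key w → ∀ g < 7, Good b ρ v g → Good b ρ w g) :
    ∀ (ds : List (ℕ × ℕ × ℕ × ℕ)) {K K' : List (ℕ × ℕ)}, Known b ρ key K →
      runCert b key ds K = some K' → Known b ρ key K'
  | [], K, K', hK, h => Option.some.inj h ▸ hK
  | d :: ds, K, K', hK, h => by
    rw [runCert] at h
    obtain ⟨K₁, h₁, h₂⟩ := Option.bind_eq_some_iff.1 h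
    exact runCert_sound hrel hkey ds (deduce_sound b ρ hrel hkey hK h₁) h₂

/-- The generators as elements. -/
def gen (g : Fin 7) : K b := mk b (genN g.val) (genN_lt g.val g.isLt)

theorem exists_hom (hrel : ∀ p ∈ relN b, evalW ρ p.1 = evalW ρ p.2) :
    ∃ φ : K b →* G, ∀ g : Fin 7, φ (gen b g) = ρ g.val := by
  have hval0 : valN b ρ 0 = 1 := by simp [valN, wordN_zero, evalW]
  -- inside the extraspecial group
  have stageE : ∀ v < 32, ∀ g < 5, Good b ρ v g := by
    obtain ⟨K', hrun, hall⟩ : ∃ K', runCert b id certE [] = some K' ∧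
        ((List.range 32).all fun v => (List.range 5).all fun g => K'.elem (v, g)) = true := by
      have h := certE_complete b
      cases hr : runCert b id certE [] with
      | none => rw [hr] at h; exact absurd h (by simp)
      | some K' => rw [hr] at h; exact ⟨K', rfl, h⟩
    have hinv := runCert_sound b ρ hrel (key := id) (fun v _ w _ e g _ hg => (show v = w from e) ▸ hg)
      certE (fun _ _ _ _ hm => absurd hm (by simp)) hrun
    intro v hv g hg
    simp only [List.all_eq_true, List.mem_range, List.elem_iff] at hall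
    exact hinv v (by omega) g (by omega) (hall v hv g hg)
  have homE : ∀ x < 32, ∀ y < 32, valN b ρ (emul x y) = valN b ρ x * valN b ρ y := by
    have key : ∀ w : List ℕ, (∀ g ∈ w, g < 5) → ∀ v < 32,
        valN b ρ v * evalW ρ w = valN b ρ (walkN b v w) := by
      intro w
      induction w with
      | nil => intro _ v _; simp [evalW, walkN]
      | cons g w ih =>
        intro hw v hv
        have hg : g < 5 := hw g (by simp)
        show valN b ρ v * (ρ g * evalW ρ w) = _
        rw [← mul_assoc, stageE v hv g hg]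
        exact ih (fun x hx => hw x (by simp [hx])) _
          (walkN_small b [g] hv (by simp [hg]))
    intro x hx y hy
    obtain ⟨hw, hlt⟩ := wordN_small b y hy
    rw [show valN b ρ y = evalW ρ (wordN b y) from rfl, hw, key _ hlt x hx,
      walkN_eq_mul b _ (fun g hg => by have := hlt g hg; omega) x (by omega), ← hw,
      wordN_spec b y (by omega), mulN_small b hx hy]
  -- modulo the extraspecial group
  have left : ∀ e < 32, ∀ v < 768, valN b ρ (mulN b e v) = valN b ρ e * valN b ρ v := by
    intro e he v hv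
    obtain ⟨h1, h2⟩ := mulN_left b he hv
    set c := einv (walkN b 0 (wQ.getD (v / 32) []) % 32) with hc
    have hcl : c < 32 := (einv_lt _ (Nat.mod_lt _ (by norm_num))).1
    have hvm : v % 32 < 32 := Nat.mod_lt _ (by norm_num)
    have hsmall : ∀ x < 32, evalW ρ (wE.getD x []) = valN b ρ x := fun x hx => by
      rw [valN, (wordN_small b x hx).1]
    have hval : ∀ u : ℕ, u < 768 → u / 32 = v / 32 →
        valN b ρ u = valN b ρ (emul (u % 32) c) * evalW ρ (wQ.getD (v / 32) []) := by
      intro u _ hu2
      rw [← hsmall _ (emul_lt _ (Nat.mod_lt _ (by norm_num)) _ hcl)]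
      show evalW ρ (wordN b u) = _
      unfold wordN
      rw [hu2, ← hc]
      simp [evalW]
    rw [hval _ (mulN_lt b (by omega) hv) h2, hval v hv rfl, h1, emul_assoc _ he _ hvm _ hcl,
      homE _ he _ (emul_lt _ hvm _ hcl), mul_assoc]
  have hkey : ∀ v < 768, ∀ w < 768, v / 32 = w / 32 → ∀ g < 7, Good b ρ v g → Good b ρ w g := by
    intro v hv w hw hq g hg hgood
    have hvi := einv_lt _ (Nat.mod_lt v (show 0 < 32 by norm_num))
    set e := emul (w % 32) (einv (v % 32)) with he
    have hel : e < 32 := emul_lt _ (Nat.mod_lt _ (by norm_num)) _ hvi.1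
    have hew : mulN b e v = w := by
      obtain ⟨h1, h2⟩ := mulN_left b hel hv
      rw [he, emul_assoc _ (Nat.mod_lt _ (by norm_num)) _ hvi.1 _ (Nat.mod_lt _ (by norm_num)), hvi.2,
        (emul_zero _ (Nat.mod_lt _ (by norm_num))).2, ← he] at h1
      omega
    show valN b ρ w * ρ g = valN b ρ (mulN b w (genN g))
    rw [← hew, left e hel v hv, mulN_assoc b (by omega) hv (genN_lt g hg), mul_assoc, hgood,
      ← left e hel _ (stepN_lt b hv hg)]
    rfl
  have stageQ : ∀ v < 768, ∀ g < 7, Good b ρ v g := by
    obtain ⟨K', hrun, hall⟩ : ∃ K', runCert b (· / 32) (certQ b) startQ = some K' ∧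
        ((List.range 24).all fun q => (List.range 7).all fun g => K'.elem (q, g)) = true := by
      have h := certQ_complete b
      cases hr : runCert b (· / 32) (certQ b) startQ with
      | none => rw [hr] at h; exact absurd h (by simp)
      | some K' => rw [hr] at h; exact ⟨K', rfl, h⟩
    have hstart : Known b ρ (· / 32) startQ := by
      intro v hv g _ hm
      simp only [startQ, List.mem_map, List.mem_range, Prod.mk.injEq] at hm
      obtain ⟨g', hg', e1, rfl⟩ := hm
      exact stageE v (by omega) g' hg'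
    have hinv := runCert_sound b ρ hrel (key := (· / 32)) hkey (certQ b) hstart hrun
    intro v hv g hg
    simp only [List.all_eq_true, List.mem_range, List.elem_iff] at hall
    exact hinv v hv g hg (hall (v / 32) (by omega) g hg)
  have walk : ∀ (w : List ℕ), (∀ g ∈ w, g < 7) → ∀ v < 768,
      valN b ρ v * evalW ρ w = valN b ρ (walkN b v w) := by
    intro w
    induction w with
    | nil => intro _ v _; simp [evalW, walkN]
    | cons g w ih =>
      intro hw v hv
      have hg : g < 7 := hw g (by simp)
      show valN b ρ v * (ρ g * evalW ρ w) = _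
      rw [← mul_assoc, stageQ v hv g hg]
      exact ih (fun x hx => hw x (by simp [hx])) _ (stepN_lt b hv hg)
  refine ⟨MonoidHom.mk' (fun x => valN b ρ x.n.val) fun x y => ?_, fun g => ?_⟩
  · show valN b ρ (mulN b x.n y.n) = valN b ρ x.n * valN b ρ y.n
    have hw := wordN_lt b _ y.n.2
    rw [show valN b ρ y.n = evalW ρ (wordN b y.n) from rfl, walk _ hw _ x.n.2,
      walkN_eq_mul b _ hw _ x.n.2, wordN_spec b _ y.n.2]
  · show valN b ρ (genN g.val) = ρ g.val
    have h := stageQ 0 (by norm_num) g.val g.isLt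
    rw [Good, hval0, one_mul, stepN, mulN_one b (genN_lt _ g.isLt)] at h
    exact h.symm

end Hom

end CfsgLib.InvChar.LThreeFourAut.Model
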