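import Cfsg.Agent.Lib.InvChar.LThreeFourAut.Defs
import Cfsg.Agent.Lib.InvChar.LThreeFourAut.ModelCert
import Cfsg.Agent.Lib.Invol.ExtraspecialMinus
import Mathlib.GroupTheory.Perm.ViaEmbedding

/-!
Every centraliser as in statement 3237 is one of the four groups of order 768 of `Model`.
-/

set_option autoImplicit false
set_option linter.style.haveILetI false

namespace CfsgLib.InvChar.LThreeFourAut

open Subgroup
open scoped commutatorElement
open CfsgLib.Invol.EsMinus (IsFrame)

theorem card_elab_le {P : Type*} [Group P] [Finite P] (h32 : Nat.card P = 32)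
    (h : ∀ A : Subgroup P, Cfsg.IsElementaryAbelian 2 A → Nat.card ↥A ≠ 8) :
    ∀ A : Subgroup P, Cfsg.IsElementaryAbelian 2 A → Nat.card ↥A ≤ 4 := by
  intro A hA
  haveI : Fact (Nat.Prime 2) := ⟨Nat.prime_two⟩
  by_contra hc
  have hd : Nat.card ↥A ∣ 2 ^ 5 := by
    have := Subgroup.card_subgroup_dvd_card A
    rwa [h32] at this
  obtain ⟨n, hn, he⟩ := (Nat.dvd_prime_pow Nat.prime_two).1 hd
  have h3 : 3 ≤ n := by
    by_contra h3
    interval_cases n <;> omega
  obtain ⟨B, hB⟩ := Sylow.exists_subgroup_card_pow_prime (G := ↥A) 2 (n := 3)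
    (he ▸ pow_dvd_pow 2 h3)
  refine h (B.map A.subtype) ⟨⟨⟨fun x y => ?_⟩⟩, fun a ha => ?_⟩ ?_
  · obtain ⟨x', -, hx⟩ := x.2
    obtain ⟨y', -, hy⟩ := y.2
    apply Subtype.ext
    show (x : P) * y = y * x
    rw [← hx, ← hy, ← map_mul, ← map_mul]
    haveI := hA.1
    exact congrArg A.subtype (mul_comm' x' y')
  · obtain ⟨a', -, rfl⟩ := ha
    exact hA.2 _ a'.2
  · rw [Subgroup.card_map_of_injective A.subtype_injective, hB]
    norm_num

theorem stab_card_five : ∀ i : Fin 5,
    (Finset.univ.filter fun σ : Equiv.Perm (Fin 5) => σ i = i).card = 24 := by decide +kernel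

theorem set_stab_card_five : ∀ S : Finset (Fin 5), S.card = 2 ∨ S.card = 3 →
    (Finset.univ.filter fun σ : Equiv.Perm (Fin 5) => ∀ j ∈ S, σ j ∈ S).card = 12 := by decide +kernel

/-- A subgroup of order 24 of the symmetric group of degree five is a point stabiliser. -/
theorem exists_fixed_five (X : Subgroup (Equiv.Perm (Fin 5))) (hX : Nat.card X = 24) :
    ∃ i, ∀ σ, σ ∈ X ↔ σ i = i := by
  classical
  have hXf : (Finset.univ.filter fun σ => σ ∈ X).card = 24 := by
    rw [← hX, Nat.card_eq_fintype_card, Fintype.card_subtype]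
  suffices h : ∃ i, ∀ σ ∈ X, σ i = i by
    obtain ⟨i, hi⟩ := h
    refine ⟨i, fun σ => ⟨hi σ, fun hσ => ?_⟩⟩
    have e : (Finset.univ.filter fun σ => σ ∈ X) = Finset.univ.filter fun σ => σ i = i :=
      Finset.eq_of_subset_of_card_le (fun τ hτ => by simpa using hi τ (by simpa using hτ))
        (by rw [stab_card_five i, hXf])
    have := e.symm ▸ (Finset.mem_filter.2 ⟨Finset.mem_univ σ, hσ⟩)
    simpa using this
  let O : Fin 5 → Finset (Fin 5) := fun i => Finset.univ.filter fun j => ∃ σ ∈ X, σ i = j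
  have hO : ∀ i, (O i).card ∣ 24 := by
    intro i
    have e : MulAction.orbit X i = (O i : Set (Fin 5)) := by
      ext j
      simp [O, MulAction.orbit, Subgroup.smul_def, Equiv.Perm.smul_def]
    have h := Subgroup.index_dvd_card (MulAction.stabilizer X i)
    rwa [MulAction.index_stabilizer, e, Set.ncard_coe_finset, hX] at h
  have hinv : ∀ i, ∀ σ ∈ X, ∀ j, j ∈ O i → σ j ∈ O i := by
    intro i σ hσ j hj
    simp only [O, Finset.mem_filter, Finset.mem_univ, true_and] at hj ⊢
    obtain ⟨τ, hτ, rfl⟩ := hj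
    exact ⟨σ * τ, mul_mem hσ hτ, rfl⟩
  have hmem : ∀ i, i ∈ O i := fun i => by
    simp only [O, Finset.mem_filter, Finset.mem_univ, true_and]
    exact ⟨1, one_mem X, rfl⟩
  have hle : (O 0).card ≤ 5 := (Finset.card_le_univ _).trans (by simp)
  have hd := hO 0
  have hpos : 0 < (O 0).card := Finset.card_pos.2 ⟨0, hmem 0⟩
  have h4 : (O 0).card = 1 ∨ (O 0).card = 4 ∨ ((O 0).card = 2 ∨ (O 0).card = 3) := by
    interval_cases (O 0).card <;> omega
  rcases h4 with h1 | h1 | h1
  · obtain ⟨a, ha⟩ := Finset.card_eq_one.1 h1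
    refine ⟨0, fun σ hσ => ?_⟩
    have h0 := hmem 0
    have hs := hinv 0 σ hσ 0 h0
    rw [ha, Finset.mem_singleton] at h0 hs
    exact hs.trans h0.symm
  · have hc : (O 0)ᶜ.card = 1 := by rw [Finset.card_compl, h1]; rfl
    obtain ⟨a, ha⟩ := Finset.card_eq_one.1 hc
    refine ⟨a, fun σ hσ => ?_⟩
    have hna : a ∉ O 0 := Finset.mem_compl.1 (ha ▸ Finset.mem_singleton_self a)
    have hs : σ a ∈ (O 0)ᶜ := Finset.mem_compl.2 fun hin => hna (by
      have := hinv 0 σ⁻¹ (inv_mem hσ) _ hin
      simpa using this)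
    rwa [ha, Finset.mem_singleton] at hs
  · have := Finset.card_le_card (s := Finset.univ.filter fun σ => σ ∈ X)
      (t := Finset.univ.filter fun σ : Equiv.Perm (Fin 5) => ∀ j ∈ O 0, σ j ∈ O 0)
      fun σ hσ => by
        simp only [Finset.mem_filter, Finset.mem_univ, true_and] at hσ ⊢
        exact fun j hj => hinv 0 σ hσ j hj
    rw [set_stab_card_five _ h1, hXf] at this
    omega

namespace Model

/-- The code of a commutator. -/
def cmN (b : Fin 4) (v g : ℕ) : ℕ := mulN b (mulN b (mulN b v g) (invN b v)) (invN b g)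

theorem cmN_all (b : Fin 4) : ∀ v < 768, (∀ i < 4, cmN b v (genN i) = 0) → v = 0 ∨ v = 16 := by
  revert b; decide +kernel

theorem cmN_lt (b : Fin 4) : ∀ v < 768, ∀ i < 4, cmN b v (genN i) < 32 := by
  revert b; decide +kernel

theorem cmN_small (b : Fin 4) : ∀ v < 32, ∀ i < 4, cmN b v (genN i) = 0 ∨ cmN b v (genN i) = 16 := by
  revert b; decide +kernel

/-- A homomorphism not killing the central involution is injective. -/
theorem injective_of_z0 {b : Fin 4} {G : Type*} [Group G] (φ : K b →* G) (h : φ (z0 b) ≠ 1) :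
    Function.Injective φ := by
  rw [← φ.ker_eq_bot_iff, eq_bot_iff]
  have hz : ∀ v ∈ φ.ker, v.n.val ≠ 16 := fun v hv e =>
    h (by rw [show z0 b = v from K.ext' e.symm]; exact hv)
  have hc : ∀ v ∈ φ.ker, ∀ (i : ℕ) (hi : i < 4), ∃ w ∈ φ.ker, w.n.val = cmN b v.n (genN i) := by
    intro v hv i hi
    refine ⟨⁅v, gen b ⟨i, by omega⟩⁆, ?_, rfl⟩
    rw [MonoidHom.mem_ker] at hv ⊢
    rw [map_commutatorElement, hv, commutatorElement_one_left]
  have small : ∀ w ∈ φ.ker, w.n.val < 32 → w.n.val = 0 := by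
    intro w hw hlt
    refine (cmN_all b _ w.n.2 fun i hi => ?_).resolve_right (hz w hw)
    obtain ⟨u, hu, e⟩ := hc w hw i hi
    exact (cmN_small b _ hlt i hi).resolve_right (e ▸ hz u hu)
  intro v hv
  rw [Subgroup.mem_bot]
  refine K.ext' ((cmN_all b _ v.n.2 fun i hi => ?_).resolve_right (hz v hv))
  obtain ⟨u, hu, e⟩ := hc v hv i hi
  rw [← e]
  exact small u hu (e ▸ cmN_lt b _ v.n.2 i hi)

end Model

/-- Conjugation by `H` realises every automorphism of the frame fixing the fifth point. -/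
theorem exists_frame_conj {H : Type*} [Group H] [Finite H] (E : Subgroup H) [E.Normal]
    (hE : Cfsg.IsExtraspecial 2 ↥E) (hE32 : Nat.card ↥E = 32)
    (hEminus : ∀ A : Subgroup ↥E, Cfsg.IsElementaryAbelian 2 A → Nat.card ↥A ≠ 8)
    (hCE : Subgroup.centralizer (E : Set H) ≤ E) (hidx : E.index = 24)
    (Z : H) (hZc : ∀ h, Commute Z h) (hZ1 : Z ≠ 1) :
    Z * Z = 1 ∧ ∃ F : Fin 4 → H, (∀ k, F k * F k = 1) ∧ (∀ k l, k ≠ l → F k * F l = F l * F k * Z) ∧
      (∀ x : H, (∀ k, MulAut.conj x (F k) = F k) → x = 1 ∨ x = Z) ∧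
      ∀ (π : Equiv.Perm (Fin 4)) (σ : Fin 4 → Bool), ∃ h : H, ∀ k,
        MulAut.conj h (F k) = F (π k) * bif σ k then Z else 1 := by
  obtain ⟨z, f, Act, hz1, hzz, hzc, hall, hcom, hzφ, hf2, hfc, -, hact, hker, -, -, -⟩ :=
    CfsgLib.Invol.EsMinus.exists_points hE hE32 (card_elab_le hE32 hEminus)
  have hZE : Z ∈ E := hCE (Subgroup.mem_centralizer_iff.2 fun x _ => (hZc x).eq.symm)
  have hzZ : (z : H) = Z := by
    refine congrArg Subtype.val ((hall ⟨Z, hZE⟩ (Subgroup.mem_center_iff.2 fun g =>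
      Subtype.ext (hZc g).eq.symm)).resolve_left fun e => hZ1 (congrArg Subtype.val e)).symm
  let χ : H →* MulAut ↥E := MulAut.conjNormal
  have hχ : ∀ h (x : E), ((χ h x : E) : H) = h * x * h⁻¹ := MulAut.conjNormal_apply
  have hχE : ∀ p : E, χ p = MulAut.conj p := fun p => MulEquiv.ext fun x => Subtype.ext (hχ p x)
  have hkerE : (Act.comp χ).ker = E := by
    ext h
    constructor
    · intro hh
      have hmem : χ h ∈ Act.ker := hh
      rw [← hker] at hmem
      obtain ⟨p, hp⟩ := hmem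
      have hcm : (p : H)⁻¹ * h ∈ Subgroup.centralizer (E : Set H) := by
        refine Subgroup.mem_centralizer_iff.2 fun x hx => ?_
        have := congrArg (fun φ : MulAut ↥E => (φ ⟨x, hx⟩ : H)) hp
        simp only [MulAut.conj_apply, hχ, Subgroup.coe_mul, Subgroup.coe_inv] at this
        calc x * ((p : H)⁻¹ * h) = (p : H)⁻¹ * ((p : H) * x * (p : H)⁻¹) * h := by group
          _ = (p : H)⁻¹ * h * x := by rw [this]; group
      have := mul_mem p.2 (hCE hcm)
      rwa [mul_inv_cancel_left] at this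
    · intro hh
      rw [MonoidHom.mem_ker, MonoidHom.comp_apply, hχE ⟨h, hh⟩]
      have : MulAut.conj (⟨h, hh⟩ : E) ∈ Act.ker := hker ▸ ⟨_, rfl⟩
      exact this
  have hX : Nat.card (Act.comp χ).range = 24 := by rw [← Subgroup.index_ker, hkerE, hidx]
  obtain ⟨i0, hi0⟩ := exists_fixed_five _ hX
  let c : Fin 4 ↪ Fin 5 := Fin.succAboveEmb i0
  let F : Fin 4 → H := fun k => (f (c k) : H)
  have hb : ∀ s : Bool, ((bif s then z else 1 : E) : H) = bif s then Z else 1 := fun s => by
    cases s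
    exacts [rfl, hzZ]
  have hne : ∀ i j, f i = f j ∨ f i = f j * z → i = j := by
    intro i j h
    by_contra hij
    have e := hfc i j hij
    rcases h with h | h <;> rw [h] at e <;> apply hz1 <;> rw [← e]
    · exact commutatorElement_eq_one_iff_mul_comm.2 rfl
    · exact commutatorElement_eq_one_iff_mul_comm.2 (by rw [mul_assoc, (hzc _).eq])
  have hbase : IsFrame z fun k => f (c k) :=
    ⟨fun k => hf2 _, fun k l h => hfc _ _ fun e => h (c.injective e)⟩
  refine ⟨by rw [← hzZ]; exact congrArg Subtype.val hzz, F,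
    fun k => congrArg Subtype.val (hf2 (c k)), fun k l h => ?_, fun x hx => ?_, fun π σ => ?_⟩
  · have e := congrArg Subtype.val (hbase.2 k l h)
    simp only [commutatorElement_def, Subgroup.coe_mul, Subgroup.coe_inv, hzZ] at e
    show (f (c k) : H) * f (c l) = (f (c l) : H) * f (c k) * Z
    rw [← (hZc _).eq, ← e]
    group
  · have hχx : χ x = 1 := by
      refine MulEquiv.toMonoidHom_injective (MonoidHom.eq_of_eqOn_dense
        (CfsgLib.Invol.EsMinus.frame_closure hzc hzz hz1 hcom hE32 hbase) ?_)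
      have key : ∀ k, χ x (f (c k)) = f (c k) := fun k => Subtype.ext ((hχ x _).trans (hx k))
      rintro u (rfl | rfl | rfl | rfl | rfl)
      exacts [hzφ _, key 0, key 1, key 2, key 3]
    have hxc : x ∈ Subgroup.centralizer (E : Set H) := by
      refine Subgroup.mem_centralizer_iff.2 fun u hu => ?_
      have := congrArg (fun φ : MulAut ↥E => (φ ⟨u, hu⟩ : H)) hχx
      simp only [hχ, MulAut.one_apply] at this
      exact (mul_inv_eq_iff_eq_mul.1 this).symm
    rcases hall ⟨x, hCE hxc⟩ (Subgroup.mem_center_iff.2 fun g =>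
      Subtype.ext (Subgroup.mem_centralizer_iff.1 hxc g g.2)) with e | e
    exacts [Or.inl (congrArg Subtype.val e), Or.inr ((congrArg Subtype.val e).trans hzZ)]
  · have hgF : IsFrame z fun k => f (c (π k)) * bif σ k then z else 1 := by
      have hbc : ∀ (s : Bool) (g : E), Commute (bif s then z else 1) g := fun s g => by
        cases s
        exacts [Commute.one_left g, hzc g]
      refine ⟨fun k => ?_, fun k l h => ?_⟩
      · rw [(hbc _ _).mul_mul_mul_comm, hf2, one_mul]
        cases σ k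
        exacts [one_mul 1, hzz]
      · rw [CfsgLib.Invol.EsMinus.comm_mul_left hzc hzz hz1 hcom, CfsgLib.Invol.EsMinus.comm_mul_right hzc hzz hz1 hcom,
          commutatorElement_eq_one_iff_commute.2 (hbc (σ k) _),
          commutatorElement_eq_one_iff_commute.2 (hbc (σ l) (f (c (π k)))).symm, mul_one, mul_one]
        exact hfc _ _ fun e => h (π.injective (c.injective e))
    obtain ⟨φ, -, hφ⟩ := CfsgLib.Invol.EsMinus.frame_aut hzc hzz hz1 hcom hE32 hbase hgF
    have hAct : ∀ k, Act φ (c k) = c (π k) := by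
      intro k
      refine (hne _ _ ?_).symm
      rcases hact φ (c k) with e | e <;> rw [hφ] at e <;> cases hs : σ k <;> simp only [hs, cond_true, cond_false, mul_one] at e
      · exact Or.inl e
      · refine Or.inr ?_
        rw [← e, mul_assoc, hzz, mul_one]
      · exact Or.inr e
      · exact Or.inl (mul_right_cancel e)
    have hfix : Act φ i0 = i0 := by
      by_contra hc
      obtain ⟨m, hm⟩ := Fin.exists_succAbove_eq hc
      obtain ⟨k, rfl⟩ := π.surjective m
      have := (Act φ).injective ((hAct k).trans hm)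
      exact Fin.succAbove_ne i0 k this
    obtain ⟨h, hh⟩ := (hi0 (Act φ)).2 hfix
    have hmem : (χ h)⁻¹ * φ ∈ Act.ker := by
      rw [MonoidHom.mem_ker, map_mul, map_inv, inv_mul_eq_one]
      exact hh
    rw [← hker] at hmem
    obtain ⟨p, hp⟩ := hmem
    refine ⟨h * p, fun k => ?_⟩
    have hφ' : φ = χ (h * p) := by
      rw [map_mul, hχE, hp, mul_inv_cancel_left]
    have := congrArg Subtype.val (hφ k)
    rw [hφ', hχ, Subgroup.coe_mul, hb] at this
    exact this

/-- The centraliser of statement 3237 is one of the four models. -/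
theorem exists_model {G : Type*} [Group G] [Finite G] {z : G} (hz : orderOf z = 2)
    (E : Subgroup ↥(cz z)) [E.Normal] (hE : Cfsg.IsExtraspecial 2 ↥E) (hE32 : Nat.card ↥E = 32)
    (hEminus : ∀ A : Subgroup ↥E, Cfsg.IsElementaryAbelian 2 A → Nat.card ↥A ≠ 8)
    (hCE : Subgroup.centralizer (E : Set ↥(cz z)) ≤ E)
    (e : (↥(cz z) ⧸ E) ≃* Equiv.Perm (Fin 4)) :
    ∃ b : Fin 4, ∃ φ : Model.K b →* G,
      Function.Injective φ ∧ φ.range = cz z ∧ φ (Model.z0 b) = z := by
  have hidx : E.index = 24 := by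
    rw [Subgroup.index_eq_card, Nat.card_congr e.toEquiv, Nat.card_perm, Nat.card_fin]
    rfl
  let Z : ↥(cz z) := ⟨z, Subgroup.mem_centralizer_singleton_iff.2 rfl⟩
  have hZc : ∀ h, Commute Z h := fun h => Subtype.ext (Subgroup.mem_centralizer_singleton_iff.1 h.2).symm
  have hZ1 : Z ≠ 1 := fun e => by
    rw [show z = 1 from congrArg Subtype.val e, orderOf_one] at hz
    omega
  obtain ⟨hZZ, F, hF2, hFc, hcent, hreal⟩ := exists_frame_conj E hE hE32 hEminus hCE hidx Z hZc hZ1
  obtain ⟨s, hs⟩ := hreal (Equiv.swap 0 3) fun _ => false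
  obtain ⟨t₀, ht₀⟩ := hreal ⟨![0, 2, 3, 1], ![0, 3, 1, 2], by decide, by decide⟩ ![false, true, false, true]
  have hZconj : ∀ x, MulAut.conj x Z = Z := fun x => by
    rw [MulAut.conj_apply, ← (hZc x).eq, mul_inv_cancel_right]
  have hZA : MulAut.conj Z = 1 := MulEquiv.ext fun x => by
    rw [MulAut.conj_apply, (hZc x).eq, mul_inv_cancel_right, MulAut.one_apply]
  have s0 : MulAut.conj s (F 0) = F 3 := by simpa using hs 0
  have s1 : MulAut.conj s (F 1) = F 1 := by simpa [Equiv.swap_apply_def] using hs 1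
  have s2 : MulAut.conj s (F 2) = F 2 := by simpa [Equiv.swap_apply_def] using hs 2
  have s3 : MulAut.conj s (F 3) = F 0 := by simpa using hs 3
  obtain ⟨t, ht, t0, t1, t2, t3⟩ : ∃ t, t * (t * t) = 1 ∧ MulAut.conj t (F 0) = F 0 ∧
      MulAut.conj t (F 1) = F 2 * Z ∧ MulAut.conj t (F 2) = F 3 ∧ MulAut.conj t (F 3) = F 1 * Z := by
    have a0 : MulAut.conj t₀ (F 0) = F 0 := by simpa using ht₀ 0
    have a1 : MulAut.conj t₀ (F 1) = F 2 * Z := by simpa using ht₀ 1
    have a2 : MulAut.conj t₀ (F 2) = F 3 := by simpa using ht₀ 2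
    have a3 : MulAut.conj t₀ (F 3) = F 1 * Z := by simpa using ht₀ 3
    rcases hcent (t₀ * (t₀ * t₀)) (fun k => by
      simp only [map_mul, MulAut.mul_apply]
      fin_cases k <;>
        simp only [Fin.zero_eta, Fin.mk_one, Fin.reduceFinMk, Fin.isValue, a0, a1, a2, a3, map_mul, hZconj,
          mul_assoc, hZZ, mul_one]) with h | h
    · exact ⟨t₀, h, a0, a1, a2, a3⟩
    · have hA : MulAut.conj (t₀ * Z) = MulAut.conj t₀ := by rw [map_mul, hZA, mul_one]
      refine ⟨t₀ * Z, ?_, ?_⟩
      · rw [← (hZc t₀).eq]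
        simp only [mul_assoc, ← (hZc t₀).left_comm]
        rw [h, ← mul_assoc, hZZ, one_mul]
      · rw [hA]; exact ⟨a0, a1, a2, a3⟩
  obtain ⟨j, hj, hs2⟩ : ∃ j < 2, s * s = Z ^ j := by
    rcases hcent (s * s) (fun k => by
      rw [map_mul, MulAut.mul_apply]
      fin_cases k <;> simp only [Fin.zero_eta, Fin.mk_one, Fin.reduceFinMk, Fin.isValue, s0, s1, s2, s3]) with h | h
    exacts [⟨0, two_pos, h.trans (pow_zero Z).symm⟩, ⟨1, one_lt_two, h.trans (pow_one Z).symm⟩]
  obtain ⟨k, hk, hst⟩ : ∃ k < 2, s * (t * (s * (t * (s * (t * (s * t)))))) = Z ^ k := by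
    rcases hcent (s * (t * (s * (t * (s * (t * (s * t))))))) (fun k => by
      simp only [map_mul, MulAut.mul_apply]
      fin_cases k <;> simp only [Fin.zero_eta, Fin.mk_one, Fin.reduceFinMk, Fin.isValue, s0, s1, s2, s3,
        t0, t1, t2, t3, map_mul, hZconj, mul_assoc, hZZ, mul_one]) with h | h
    exacts [⟨0, two_pos, h.trans (pow_zero Z).symm⟩, ⟨1, one_lt_two, h.trans (pow_one Z).symm⟩]
  have conj_rel : ∀ {x a b : ↥(cz z)}, MulAut.conj x a = b → x * a = b * x := fun h => by
    rw [← h, MulAut.conj_apply, inv_mul_cancel_right]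
  let b : Fin 4 := ⟨2 * j + k, by omega⟩
  let ρ : ℕ → ↥(cz z) := fun g => [F 0, F 1, F 2, F 3, Z, s, t].getD g 1
  have hrep : ∀ n, Model.evalW ρ (List.replicate n 4) = Z ^ n := fun n => by
    simp [Model.evalW, ρ]
  have hrel : ∀ p ∈ Model.relN b, Model.evalW ρ p.1 = Model.evalW ρ p.2 := by
    have half : ∀ p ∈ Model.relHalf b, Model.evalW ρ p.1 = Model.evalW ρ p.2 := by
      intro p hp
      simp only [Model.relHalf, List.mem_cons, List.not_mem_nil, or_false] at hp
      rcases hp with rfl | rfl | rfl | rfl | rfl | rfl | rfl | rfl | rfl | rfl | rfl | rfl | rfl | rfl | rfl |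
          rfl | rfl | rfl | rfl | rfl | rfl | rfl | rfl | rfl | rfl | rfl | rfl | rfl
      all_goals try rw [hrep]
      all_goals simp only [Model.evalW, List.map_cons, List.map_nil, List.prod_cons, List.prod_nil, ρ,
        List.getD_cons_zero, List.getD_cons_succ, mul_one]
      · exact hZZ
      · exact hF2 0
      · exact (hZc (F 0)).eq.symm
      · exact hF2 1
      · exact (hZc (F 1)).eq.symm
      · exact hF2 2
      · exact (hZc (F 2)).eq.symm
      · exact hF2 3
      · exact (hZc (F 3)).eq.symm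
      · rw [hFc 0 1 (by decide), mul_assoc]
      · rw [hFc 0 2 (by decide), mul_assoc]
      · rw [hFc 0 3 (by decide), mul_assoc]
      · rw [hFc 1 2 (by decide), mul_assoc]
      · rw [hFc 1 3 (by decide), mul_assoc]
      · rw [hFc 2 3 (by decide), mul_assoc]
      · rw [hs2, show b.val / 2 = j from (by show (2 * j + k) / 2 = j; omega)]
      · exact ht
      · rw [hst, show b.val % 2 = k from (by show (2 * j + k) % 2 = k; omega)]
      · exact (hZc s).eq.symm
      · exact (hZc t).eq.symm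
      · exact conj_rel s0
      · exact conj_rel s1
      · exact conj_rel s2
      · exact conj_rel s3
      · exact conj_rel t0
      · rw [conj_rel t1, mul_assoc]
      · exact conj_rel t2
      · rw [conj_rel t3, mul_assoc]
    intro p hp
    rcases List.mem_append.1 hp with h | h
    · exact half p h
    · obtain ⟨q, hq, rfl⟩ := List.mem_map.1 h
      exact (half q hq).symm
  obtain ⟨φ, hφ⟩ := Model.exists_hom b ρ hrel
  have hφz : φ (Model.z0 b) = Z := by
    rw [show Model.z0 b = Model.gen b 4 from Model.K.ext' rfl, hφ]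
    rfl
  have hinj : Function.Injective φ := Model.injective_of_z0 φ (hφz ▸ hZ1)
  have hcard : Nat.card ↥(cz z) = 768 := by
    rw [← E.index_mul_card, hidx, hE32]
  have htop : φ.range = ⊤ := Subgroup.eq_top_of_card_eq _ (by
    rw [← Nat.card_congr (MonoidHom.ofInjective hinj).toEquiv, Model.card_K, hcard])
  refine ⟨b, (cz z).subtype.comp φ, (cz z).subtype_injective.comp hinj, ?_, ?_⟩
  · rw [MonoidHom.range_comp, htop, ← MonoidHom.range_eq_map, Subgroup.range_subtype]
  · show ((φ (Model.z0 b) : ↥(cz z)) : G) = z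
    rw [hφz]

end CfsgLib.InvChar.LThreeFourAut
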