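import Cfsg.Agent.Lib.InvChar.LThreeFourAut.Fusion
import Cfsg.Agent.Lib.Fusion.ZStarCenter
import Cfsg.Prelude.Def_Transfer
import Mathlib.GroupTheory.FixedPointFree

/-!
Passage to the quotient by the odd core (statement 3237).
-/

set_option autoImplicit false

namespace CfsgLib.InvChar.LThreeFourAut

open Subgroup

universe u

variable {G : Type u} [Group G] [Finite G]

theorem odd_core_card (K : Type u) [Group K] [Finite K] : Odd (Nat.card (Cfsg.oddCore K)) :=
  CfsgLib.Invol.odd_card_oddCore K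

/-- A group with a self-centralising normal subgroup of order 32 has trivial odd core. -/
theorem oddCore_eq_bot_of_normal {K : Type u} [Group K] [Finite K] (E : Subgroup K) [E.Normal]
    (hE : Nat.card E = 32) (hCE : centralizer (E : Set K) ≤ E) : Cfsg.oddCore K = ⊥ := by
  haveI : (Cfsg.oddCore K).Normal := CfsgLib.Solvable.pPrimeCore_normal 2 K
  have hdisj : Disjoint (Cfsg.oddCore K) E := by
    rw [disjoint_iff]
    refine eq_bot_of_card_eq _ ?_
    have h1 := Nat.dvd_gcd (card_dvd_of_le (inf_le_left : Cfsg.oddCore K ⊓ E ≤ _))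
      (card_dvd_of_le (inf_le_right : Cfsg.oddCore K ⊓ E ≤ _))
    rw [hE, show (32 : ℕ) = 2 ^ 5 from rfl,
      Nat.Coprime.gcd_eq_one ((Nat.coprime_two_right.2 (odd_core_card K)).pow_right 5)] at h1
    exact Nat.dvd_one.1 h1
  refine eq_bot_iff.2 fun o ho => ?_
  have hoC : o ∈ centralizer (E : Set K) := mem_centralizer_iff.2 fun e he =>
    (commute_of_normal_of_disjoint _ _ inferInstance inferInstance hdisj o e ho he).eq.symm
  exact disjoint_iff_inf_le.1 hdisj ⟨ho, hCE hoC⟩

variable {z : G} (hz : orderOf z = 2) (hH : Cfsg.oddCore ↥(cz z) = ⊥)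

omit hz in
include hH in
theorem eq_one_of_mem_oddCore {x : G} (hx : x ∈ Cfsg.oddCore G) (hxz : x ∈ cz z) : x = 1 := by
  haveI : (Cfsg.oddCore G).Normal := CfsgLib.Solvable.pPrimeCore_normal 2 G
  have hle : (Cfsg.oddCore G).subgroupOf (cz z) ≤ Cfsg.oddCore ↥(cz z) :=
    CfsgLib.Invol.le_oddCore inferInstance ((odd_core_card G).of_dvd_nat
      (card_comap_dvd_of_injective _ _ (cz z).subtype_injective))
  have := hle (show (⟨x, hxz⟩ : cz z) ∈ _ from mem_subgroupOf.2 hx)
  rw [hH, mem_bot] at this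
  exact congrArg Subtype.val this

/-- Conjugation by `z` on the odd core. -/
def conjCore (z : G) : Cfsg.oddCore G →* Cfsg.oddCore G :=
  ((MulAut.conjNormal z : MulAut (Cfsg.oddCore G))).toMonoidHom

theorem conjCore_apply (x : Cfsg.oddCore G) : (conjCore z x : G) = z * x * z⁻¹ := rfl

omit hz in
include hH in
theorem fixedPointFree_conjCore : MonoidHom.FixedPointFree (conjCore z) := fun x hx =>
  Subtype.ext (eq_one_of_mem_oddCore hH x.2 (mem_cz.2 (by
    have h1 := congrArg Subtype.val hx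
    rw [conjCore_apply, mul_inv_eq_iff_eq_mul] at h1
    exact h1.symm)))

include hz in
theorem involutive_conjCore : Function.Involutive (conjCore z) := fun x => Subtype.ext (by
  have h2 : z * z = 1 := by rw [← pow_two, ← hz, pow_orderOf_eq_one]
  rw [conjCore_apply, conjCore_apply,
    show z * (z * (x : G) * z⁻¹) * z⁻¹ = z * z * x * (z * z)⁻¹ by group, h2, one_mul, inv_one,
    mul_one])

include hz hH

theorem inverts {x : G} (hx : x ∈ Cfsg.oddCore G) : z * x * z⁻¹ = x⁻¹ :=
  congrArg Subtype.val (congrFun ((fixedPointFree_conjCore hH).coe_eq_inv_of_involutive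
    (involutive_conjCore hz)) ⟨x, hx⟩)

theorem isMulCommutative_oddCore : IsMulCommutative ↥(Cfsg.oddCore G) :=
  ⟨⟨fun a b => ((fixedPointFree_conjCore hH).commute_all_of_involutive
    (involutive_conjCore hz) a b).eq⟩⟩

theorem mk_injOn : Function.Injective
    ((QuotientGroup.mk' (Cfsg.oddCore G)).comp (cz z).subtype) := by
  rw [injective_iff_map_eq_one]
  intro x hx
  exact Subtype.ext (eq_one_of_mem_oddCore hH ((QuotientGroup.eq_one_iff _).1 hx) x.2)

/-- Centralisers lift. -/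
theorem range_mk : ((QuotientGroup.mk' (Cfsg.oddCore G)).comp (cz z).subtype).range =
    cz (QuotientGroup.mk' (Cfsg.oddCore G) z) := by
  refine le_antisymm ?_ fun q hq => ?_
  · rintro _ ⟨x, rfl⟩
    rw [mem_cz]
    change QuotientGroup.mk' _ (x : G) * _ = _ * QuotientGroup.mk' _ (x : G)
    rw [← map_mul, mem_cz.1 x.2, map_mul]
  · obtain ⟨g, rfl⟩ := QuotientGroup.mk'_surjective _ q
    have ho : g * z * g⁻¹ * z⁻¹ ∈ Cfsg.oddCore G := (QuotientGroup.eq_one_iff _).1 (by
      have h1 := mem_cz.1 hq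
      change QuotientGroup.mk' _ (g * z * g⁻¹ * z⁻¹) = 1
      rw [map_mul, map_mul, map_mul, map_inv, map_inv, h1]
      group)
    obtain ⟨y, hy⟩ := (fixedPointFree_conjCore hH).commutatorMap_surjective ⟨_, ho⟩
    have hy' : (y : G) * z * (y : G)⁻¹ = g * z * g⁻¹ := by
      have h1 := congrArg Subtype.val hy
      rw [MonoidHom.commutatorMap_apply, div_eq_mul_inv, coe_mul, coe_inv, conjCore_apply] at h1
      calc (y : G) * z * (y : G)⁻¹ = (y : G) * (z * y * z⁻¹)⁻¹ * z := by group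
        _ = g * z * g⁻¹ * z⁻¹ * z := by rw [h1]
        _ = g * z * g⁻¹ := by group
    have hmem : (y : G)⁻¹ * g ∈ cz z := mem_cz.2 (by
      calc (y : G)⁻¹ * g * z = (y : G)⁻¹ * (g * z * g⁻¹) * g := by group
        _ = (y : G)⁻¹ * ((y : G) * z * (y : G)⁻¹) * g := by rw [hy']
        _ = z * ((y : G)⁻¹ * g) := by group)
    refine ⟨⟨_, hmem⟩, ?_⟩
    change QuotientGroup.mk' _ ((y : G)⁻¹ * g) = _
    rw [map_mul, map_inv, show QuotientGroup.mk' (Cfsg.oddCore G) (y : G) = 1 from
      (QuotientGroup.eq_one_iff _).2 y.2, inv_one, one_mul]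

theorem orderOf_mk : orderOf (QuotientGroup.mk' (Cfsg.oddCore G) z) = 2 :=
  (orderOf_injective _ (mk_injOn hz hH) ⟨z, mem_cz.2 rfl⟩).trans (by rw [Subgroup.orderOf_mk]; exact hz)

/-- An involution whose image is conjugate to that of `z` inverts the odd core. -/
theorem inverts_of_conj {u : G} (hu : u * u = 1)
    (h : IsConj (QuotientGroup.mk' (Cfsg.oddCore G) z) (QuotientGroup.mk' (Cfsg.oddCore G) u))
    {x : G} (hx : x ∈ Cfsg.oddCore G) : u * x * u⁻¹ = x⁻¹ := by
  obtain ⟨q, hq⟩ := isConj_iff.1 h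
  obtain ⟨g, rfl⟩ := QuotientGroup.mk'_surjective _ q
  rw [← map_inv, ← map_mul, ← map_mul] at hq
  -- `u` is `g z g⁻¹` times an element of the core
  obtain ⟨o, ho, hou⟩ : ∃ o ∈ Cfsg.oddCore G, u = g * z * g⁻¹ * o :=
    ⟨(g * z * g⁻¹)⁻¹ * u, QuotientGroup.eq.1 hq, by group⟩
  haveI : (Cfsg.oddCore G).Normal := CfsgLib.Solvable.pPrimeCore_normal 2 G
  have hx' : g⁻¹ * (o * x * o⁻¹) * g ∈ Cfsg.oddCore G := by
    have := Subgroup.Normal.conj_mem (H := Cfsg.oddCore G) inferInstance _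
      (mul_mem (mul_mem ho hx) (inv_mem ho)) g⁻¹
    rwa [inv_inv] at this
  have hc : o * x * o⁻¹ = x := by
    have h1 := (isMulCommutative_oddCore hz hH).is_comm.comm ⟨o, ho⟩ ⟨x, hx⟩
    rw [show o * x = x * o from congrArg Subtype.val h1, mul_inv_cancel_right]
  calc u * x * u⁻¹ = g * (z * (g⁻¹ * (o * x * o⁻¹) * g) * z⁻¹) * g⁻¹ := by rw [hou]; group
    _ = g * (g⁻¹ * (o * x * o⁻¹) * g)⁻¹ * g⁻¹ := by rw [inverts hz hH hx']
    _ = x⁻¹ := by rw [hc]; group

/-- If the images of two involutions and of their product are fused to that of `z`, the odd core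
is trivial. -/
theorem oddCore_eq_bot {u : G} (hu : u * u = 1) (huz : z * u = u * z)
    (h1 : IsConj (QuotientGroup.mk' (Cfsg.oddCore G) z) (QuotientGroup.mk' (Cfsg.oddCore G) u))
    (h2 : IsConj (QuotientGroup.mk' (Cfsg.oddCore G) z)
      (QuotientGroup.mk' (Cfsg.oddCore G) (z * u))) : Cfsg.oddCore G = ⊥ := by
  refine eq_bot_iff.2 fun x hx => ?_
  have h2z : z * z = 1 := by rw [← pow_two, ← hz, pow_orderOf_eq_one]
  have hzu : z * u * (z * u) = 1 := by
    rw [huz, show u * z * (u * z) = u * (z * u) * z by group, huz]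
    rw [show u * (u * z) * z = u * u * (z * z) by group, hu, h2z, one_mul]
  have ha := inverts_of_conj hz hH hzu h2 hx
  have hb : z * u * x * (z * u)⁻¹ = x := by
    calc z * u * x * (z * u)⁻¹ = z * (u * x * u⁻¹) * z⁻¹ := by group
      _ = (z * x * z⁻¹)⁻¹ := by rw [inverts_of_conj hz hH hu h1 hx]; group
      _ = x := by rw [inverts hz hH hx, inv_inv]
  have hsq : x * x = 1 := mul_eq_one_iff_eq_inv.2 (hb.symm.trans ha)
  rw [mem_bot]
  exact CfsgLib.Invol.eq_one_of_sq_of_odd hsq
    ((odd_core_card G).of_dvd_nat (orderOf_dvd_natCard (Cfsg.oddCore G) hx))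

omit hz in
theorem isSolvable_of_quotient (hc : IsMulCommutative ↥(Cfsg.oddCore G))
    (h : Group.IsSolvable (G ⧸ Cfsg.oddCore G)) : Group.IsSolvable G := by
  haveI := h
  letI : CommGroup ↥(Cfsg.oddCore G) :=
    { (inferInstance : Group ↥(Cfsg.oddCore G)) with mul_comm := hc.is_comm.comm }
  haveI : Group.IsSolvable ↥(Cfsg.oddCore G) := inferInstance
  exact Group.isSolvable_of_ker_le_range (Cfsg.oddCore G).subtype
    (QuotientGroup.mk' (Cfsg.oddCore G)) (by simp)

end CfsgLib.InvChar.LThreeFourAut
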