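import Cfsg.Agent.Lib.InvChar.LThreeFourAut.Defs
import Cfsg.Agent.Lib.Solvable.Nilpotent
import Cfsg.Agent.Lib.Solvable.PCore
import Cfsg.Prelude.Def_CaseTheorems

/-!
Normal subgroups of a group with the local data `Loc`: each nontrivial one contains the involution
`z`, and a nontrivial one with trivial centre has trivial centraliser.
-/

set_option autoImplicit false

namespace CfsgLib.InvChar.LThreeFourAut

open Subgroup

universe u

variable {G : Type u} [Group G] [Finite G]

/-- If the conjugates of `z` under `G` and under the normal subgroup `L` agree, the index of the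
centraliser is the same in both. -/
theorem card_mul_of_one_class (L : Subgroup G) [hL : L.Normal] {z : G}
    (hone : ∀ g : G, ∃ l ∈ L, l * z * l⁻¹ = g * z * g⁻¹) :
    Nat.card G * Nat.card ↥(L ⊓ cz z) = Nat.card ↥L * Nat.card ↥(cz z) := by
  have hsup : cz z ⊔ L = ⊤ := by
    refine eq_top_iff.2 fun g _ => ?_
    obtain ⟨l, hl, e⟩ := hone g
    rw [show g = l * (l⁻¹ * g) by group]
    refine mul_mem (mem_sup_right hl) (mem_sup_left (mem_centralizer_singleton_iff.2 ?_))
    calc l⁻¹ * g * z = l⁻¹ * (g * z * g⁻¹) * g := by group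
      _ = z * (l⁻¹ * g) := by rw [← e]; group
  have h1 : L.relIndex (cz z) = L.index := by
    rw [← relIndex_sup_right (H := cz z) (K := L), hsup, relIndex_top_right]
  have h2 : Nat.card ↥(L ⊓ cz z) * L.relIndex (cz z) = Nat.card ↥(cz z) := by
    rw [← inf_relIndex_right, relIndex, ← card_mul_index ((L ⊓ cz z).subgroupOf (cz z)),
      Nat.card_congr (subgroupOfEquivOfLe (inf_le_right : L ⊓ cz z ≤ cz z)).toEquiv]
  rw [← L.card_mul_index, ← h2, h1]
  ring

/-- With trivial odd core, nontrivial normal subgroups have even order. -/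
theorem two_dvd_of_normal (hO : Cfsg.oddCore G = ⊥) {N : Subgroup G} (hN : N.Normal)
    (h : N ≠ ⊥) : 2 ∣ Nat.card N := by
  by_contra hd
  exact h (eq_bot_iff.2 (hO ▸ CfsgLib.Solvable.le_pPrimeCore hN
    (Nat.coprime_two_right.2 (Nat.odd_iff.2 (Nat.two_dvd_ne_zero.1 hd)))))

/-- A normal subgroup of even order contains a central involution of each Sylow 2-subgroup. -/
theorem exists_central_invol (P : Sylow 2 G) {N : Subgroup G} [hN : N.Normal]
    (h2 : 2 ∣ Nat.card N) :
    ∃ k ∈ N, k ∈ (P : Subgroup G) ∧ k * k = 1 ∧ k ≠ 1 ∧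
      ∀ q ∈ (P : Subgroup G), q * k = k * q := by
  haveI : Fact (Nat.Prime 2) := ⟨Nat.prime_two⟩
  obtain ⟨⟨j, hjN⟩, hj⟩ := exists_prime_orderOf_dvd_card' 2 h2
  have hj' : orderOf j = 2 := by rw [← Subgroup.orderOf_coe] at hj; exact hj
  have hpj : IsPGroup 2 ↥(zpowers j) := IsPGroup.of_card (n := 1) (by rw [Nat.card_zpowers, hj']; rfl)
  obtain ⟨Q, hQ⟩ := hpj.exists_le_sylow
  obtain ⟨g, rfl⟩ := MulAction.exists_smul_eq G Q P
  have hgj : g * j * g⁻¹ ∈ ((g • Q : Sylow 2 G) : Subgroup G) := by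
    rw [Sylow.coe_subgroup_smul]
    exact ⟨j, hQ (mem_zpowers j), rfl⟩
  set P : Sylow 2 G := g • Q
  set M : Subgroup ↥(P : Subgroup G) := N.subgroupOf (P : Subgroup G)
  haveI : M.Normal := Normal.subgroupOf hN _
  have hM : M ≠ ⊥ := fun h => by
    have hmem : (⟨_, hgj⟩ : ↥(P : Subgroup G)) ∈ M := hN.conj_mem j hjN g
    rw [h, mem_bot] at hmem
    have hone : g * j * g⁻¹ = 1 := congrArg Subtype.val hmem
    rw [conj_eq_one_iff] at hone
    rw [hone, orderOf_one] at hj'
    exact absurd hj' (by norm_num)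
  haveI : Group.IsNilpotent ↥(P : Subgroup G) := P.isPGroup'.isNilpotent
  have hMc := CfsgLib.Solvable.normal_inf_center_ne_bot M hM
  obtain ⟨n, hn⟩ := IsPGroup.iff_card.1 (P.isPGroup'.to_subgroup (M ⊓ center ↥(P : Subgroup G)))
  have hn0 : n ≠ 0 := fun h => hMc (Subgroup.eq_bot_of_card_eq _ (by rw [hn, h, pow_zero]))
  obtain ⟨k, hk⟩ := exists_prime_orderOf_dvd_card' 2
    (show 2 ∣ Nat.card ↥(M ⊓ center ↥(P : Subgroup G)) from hn ▸ dvd_pow_self 2 hn0)
  have hk' : orderOf ((k : ↥(P : Subgroup G)) : G) = 2 := by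
    rw [Subgroup.orderOf_coe, Subgroup.orderOf_coe, hk]
  refine ⟨_, k.2.1, (k : ↥(P : Subgroup G)).2, ?_, fun h => ?_, fun q hq => ?_⟩
  · have h := pow_orderOf_eq_one ((k : ↥(P : Subgroup G)) : G)
    rw [hk', pow_two] at h
    exact h
  · have h' : ((k : ↥(P : Subgroup G)) : G) = 1 := h
    rw [h', orderOf_one] at hk'; exact absurd hk' (by norm_num)
  · exact congrArg Subtype.val (mem_center_iff.1 k.2.2 ⟨q, hq⟩)

namespace Loc

variable {z : G} {U T A B D : Subgroup G} {a w x o : G}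

theorem normal_T (L : Loc z U T A B D a w x o) : (T.subgroupOf D).Normal :=
  ⟨fun t ht d => L.nT (d : G) (L.hD d.2) t ht⟩

/-- The involutions of `D` lie in `T`. -/
theorem mem_T_of_invol (L : Loc z U T A B D a w x o) {d : G} (hd : d ∈ D) (h2 : d * d = 1) :
    d ∈ T := by
  haveI := L.normal_T
  have hi : (T.subgroupOf D).index = 3 := by
    have h := (T.subgroupOf D).card_mul_index
    rw [Nat.card_congr (subgroupOfEquivOfLe L.hTD).toEquiv, L.cardT, L.cardD] at h
    omega
  have h3 := (T.subgroupOf D).pow_index_mem ⟨d, hd⟩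
  rw [hi] at h3
  have : d ^ 3 ∈ T := h3
  rwa [pow_succ, pow_two, h2, one_mul] at this

/-- `T` lies in each Sylow 2-subgroup inside `C(z)`. -/
theorem T_le_sylow (L : Loc z U T A B D a w x o) {P : Sylow 2 G} (hP : (P : Subgroup G) ≤ cz z) :
    T ≤ (P : Subgroup G) := by
  haveI : Fact (Nat.Prime 2) := ⟨Nat.prime_two⟩
  have hPT : (P : Subgroup G) ≤ normalizer (T : Set G) := fun g hg => by
    refine mem_normalizer_iff.2 fun t => ⟨fun ht => L.nT g (hP hg) t ht, fun ht => ?_⟩
    have := L.nT g⁻¹ (inv_mem (hP hg)) _ ht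
    simpa [mul_assoc] using this
  have hT : IsPGroup 2 ↥T := IsPGroup.of_card (n := 6) (by rw [L.cardT]; rfl)
  have h := P.3 (P.2.to_sup_of_normal_right' hT hPT) le_sup_left
  exact h ▸ le_sup_right

/-- A central involution of a Sylow 2-subgroup of `C(z)` which lies in `D` is `z`. -/
theorem eq_z_of_central (L : Loc z U T A B D a w x o) {P : Sylow 2 G}
    (hP : (P : Subgroup G) ≤ cz z) {k : G} (hk : k ∈ D) (h2 : k * k = 1) (hk1 : k ≠ 1)
    (hc : ∀ q ∈ (P : Subgroup G), q * k = k * q) : k = z := by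
  haveI : Fact (Nat.Prime 2) := ⟨Nat.prime_two⟩
  have hkT := L.mem_T_of_invol hk h2
  have hkU : k ∈ U := by
    by_contra hnU
    have key : ∀ C : Subgroup G, C ≤ T → Nat.card C = 16 →
        (∀ t ∈ T, t * k = k * t → t ∈ C) → False := fun C hC h16 h => by
      have := Subgroup.card_le_of_le (show T ≤ C from fun t ht => h t ht (hc t (L.T_le_sylow hP ht)))
      rw [L.cardT, h16] at this
      omega
    rcases L.invol k hkT h2 with h | h
    · exact key A L.hA L.cardA (L.selfA k h hnU)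
    · exact key B L.hB L.cardB (L.selfB k h hnU)
  by_contra hkz
  have h384 := L.centU k hkU hk1 hkz
  have hle : (P : Subgroup G) ≤ cz z ⊓ cz k := le_inf hP fun q hq =>
    mem_centralizer_singleton_iff.2 (hc q hq)
  have h256 : 256 ∣ Nat.card ↥(P : Subgroup G) := by
    refine P.pow_dvd_card_of_pow_dvd_card (n := 8) ?_
    exact (show 2 ^ 8 ∣ Nat.card ↥(cz z) by rw [L.cardH]; norm_num).trans
      (Subgroup.card_subgroup_dvd_card _)
  have := h256.trans (Subgroup.card_dvd_of_le hle)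
  rw [h384] at this
  norm_num at this

/-- Each nontrivial normal subgroup contains `z`. -/
theorem z_mem_of_normal (L : Loc z U T A B D a w x o) (hO : Cfsg.oddCore G = ⊥)
    {N₀ : Subgroup G} (hN₀ : N₀.Normal) (hi : N₀.index = 4) (hND : N₀ ⊓ cz z = D)
    {N : Subgroup G} (hN : N.Normal) (hne : N ≠ ⊥) : z ∈ N := by
  haveI : Fact (Nat.Prime 2) := ⟨Nat.prime_two⟩
  obtain ⟨P, hP⟩ := L.sylow
  by_cases hbot : N ⊓ N₀ = ⊥
  · exfalso
    obtain ⟨k, hkN, hkP, h2, hk1, hc⟩ := exists_central_invol P (two_dvd_of_normal hO hN hne)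
    have hkz : k ∈ cz z := hP hkP
    have hkD : k ∉ D := fun h => hk1 (by
      have : k ∈ N ⊓ N₀ := ⟨hkN, (mem_inf.1 (hND.ge h)).1⟩
      rwa [hbot, mem_bot] at this)
    have hcD : ∀ d ∈ D, d * k = k * d := fun d hd =>
      (commute_of_normal_of_disjoint N N₀ hN hN₀ (disjoint_iff.2 hbot) k d hkN
        (mem_inf.1 (hND.ge hd)).1).symm
    have hall : (P : Subgroup G) ⊔ D = cz z := by
      refine eq_of_le_of_card_ge (sup_le hP L.hD) ?_
      have h1 : 256 ∣ Nat.card ↥((P : Subgroup G) ⊔ D) :=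
        (show 256 ∣ Nat.card ↥(P : Subgroup G) from P.pow_dvd_card_of_pow_dvd_card (n := 8)
          ((show 2 ^ 8 ∣ Nat.card ↥(cz z) by rw [L.cardH]; norm_num).trans
            (Subgroup.card_subgroup_dvd_card _))).trans (Subgroup.card_dvd_of_le le_sup_left)
      have h2 : 3 ∣ Nat.card ↥((P : Subgroup G) ⊔ D) :=
        (show 3 ∣ Nat.card ↥D by rw [L.cardD]; norm_num).trans
          (Subgroup.card_dvd_of_le le_sup_right)
      rw [L.cardH]
      exact Nat.le_of_dvd Nat.card_pos (Nat.Coprime.mul_dvd_of_dvd_of_dvd (by norm_num) h1 h2)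
    have hcH : cz z ≤ cz k := by
      rw [← hall]
      exact sup_le (fun q hq => mem_centralizer_singleton_iff.2 (hc q hq))
        fun d hd => mem_centralizer_singleton_iff.2 (hcD d hd)
    have hwk : w * k = k * w := mem_centralizer_singleton_iff.1 (hcH L.hw)
    obtain ⟨Y, hY, hY32⟩ := L.big (w * k) (mul_mem L.hw hkz)
      (by rw [show w * k * (w * k) = w * (k * w) * k by group, ← hwk,
        show w * (w * k) * k = (w * w) * (k * k) by group, L.wsq, h2, one_mul])
      (by rw [hwk, mul_assoc, mul_inv_cancel, mul_one]; exact hkD)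
    have hle : Y ≤ cz z ⊓ cz w := fun q hq => by
      obtain ⟨hqz, hqk⟩ := mem_inf.1 (hY hq)
      have h1 : q * (w * k) = w * k * q := mem_centralizer_singleton_iff.1 hqk
      have h3 : q * k = k * q := mem_centralizer_singleton_iff.1 (hcH hqz)
      refine mem_inf.2 ⟨hqz, mem_centralizer_singleton_iff.2 (mul_right_cancel (b := k) ?_)⟩
      rw [mul_assoc, h1, mul_assoc, mul_assoc, h3]
    have := Subgroup.card_le_of_le hle
    rw [L.wcard, hY32] at this
    omega
  · haveI : (N ⊓ N₀).Normal := inferInstance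
    obtain ⟨k, hk, hkP, h2, hk1, hc⟩ := exists_central_invol P
      (two_dvd_of_normal hO (inferInstance : (N ⊓ N₀).Normal) hbot)
    exact L.eq_z_of_central hP (hND.le (mem_inf.2 ⟨hk.2, hP hkP⟩)) h2 hk1 hc ▸ hk.1

/-- A nontrivial normal subgroup with trivial centre has trivial centraliser. -/
theorem centralizer_eq_bot (L : Loc z U T A B D a w x o) (hO : Cfsg.oddCore G = ⊥)
    {N₀ : Subgroup G} (hN₀ : N₀.Normal) (hi : N₀.index = 4) (hND : N₀ ⊓ cz z = D)
    (M : Subgroup G) [hM : M.Normal] (hne : M ≠ ⊥) (hcM : center ↥M = ⊥) :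
    centralizer (M : Set G) = ⊥ := by
  by_contra h
  have hzM := L.z_mem_of_normal hO hN₀ hi hND hM hne
  have hzC := L.z_mem_of_normal hO hN₀ hi hND
    (inferInstance : (centralizer (M : Set G)).Normal) h
  have : (⟨z, hzM⟩ : ↥M) ∈ center ↥M := mem_center_iff.2 fun l =>
    Subtype.ext (mem_centralizer_iff.1 hzC l l.2)
  rw [hcM, mem_bot] at this
  have hz1 : z = 1 := congrArg Subtype.val this
  have := L.hz
  rw [hz1, orderOf_one] at this
  exact absurd this (by norm_num)

end Loc

end CfsgLib.InvChar.LThreeFourAut
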