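import Cfsg.Agent.Lib.Invol.CAInvol
import Cfsg.Agent.Lib.Classical.PSLTwoPerm
import Cfsg.Agent.Lib.InvChar.LThreeFour.Orbit

/-!
Groups with a four-group which is the centraliser of each of its involutions.
-/

set_option autoImplicit false

namespace CfsgLib.InvChar.LThreeFourAut

open Subgroup

universe u

variable {K : Type u} [Group K] [Finite K]

/-- Such a group has order 4, 12 or 60. -/
theorem four_card {V : Subgroup K} (hV : Nat.card V = 4) (h2 : ∀ v ∈ V, v * v = 1)
    (hc : ∀ v ∈ V, v ≠ 1 → centralizer ({v} : Set K) = V) :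
    Nat.card K = 4 ∨ Nat.card K = 12 ∨ Nat.card K = 60 := by
  classical
  haveI : Fact (Nat.Prime 2) := ⟨Nat.prime_two⟩
  obtain ⟨S, hS⟩ := (IsPGroup.of_card (p := 2) (n := 2) (G := V) (by rw [hV]; norm_num)).exists_le_sylow
  have hSV : (S : Subgroup K) = V := by
    refine le_antisymm ?_ hS
    have hne : V ≠ ⊥ := fun e => by rw [e, Subgroup.card_bot] at hV; omega
    haveI : Nontrivial S := (Subgroup.nontrivial_iff_ne_bot _).2 fun e => hne (le_bot_iff.1 (e ▸ hS))
    haveI := S.isPGroup'.center_nontrivial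
    obtain ⟨⟨c, hc'⟩, hc1⟩ := exists_ne (1 : center S)
    have hcne : (c : K) ≠ 1 := fun e => hc1 (Subtype.ext (Subtype.ext e))
    obtain ⟨v, hv, hv1⟩ := V.ne_bot_iff_exists_ne_one.1 hne |> fun ⟨v, hv⟩ =>
      (⟨(v : K), v.2, fun e => hv (Subtype.ext e)⟩ : ∃ v ∈ V, v ≠ 1)
    have hcV : (c : K) ∈ V := by
      rw [← hc v hv hv1, mem_centralizer_singleton_iff]
      exact (congrArg Subtype.val (mem_center_iff.1 hc' ⟨v, hS hv⟩)).symm
    intro y hy
    rw [← hc _ hcV hcne, mem_centralizer_singleton_iff]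
    exact congrArg Subtype.val (mem_center_iff.1 hc' ⟨y, hy⟩)
  by_cases hn : (S : Subgroup K).Normal
  · obtain ⟨v, hv, hv1⟩ : ∃ v ∈ V, v ≠ 1 := by
      by_contra h
      push Not at h
      have : V = ⊥ := (Subgroup.eq_bot_iff_forall _).2 h
      rw [this, Subgroup.card_bot] at hV
      omega
    have horb := CfsgLib.InvChar.LThreeFour.orbit_card (⊤ : Subgroup K) v
    rw [top_inf_eq, hc v hv hv1, hV, Subgroup.card_top] at horb
    have hsub : {y : K | ∃ n ∈ (⊤ : Subgroup K), n * v * n⁻¹ = y} ⊆ (V : Set K) \ {1} := by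
      rintro _ ⟨n, -, rfl⟩
      refine ⟨?_, fun e => hv1 (conj_eq_one_iff.1 (Set.mem_singleton_iff.1 e))⟩
      rw [← hSV] at hv ⊢
      exact hn.conj_mem _ hv n
    have hle := Set.ncard_le_ncard hsub (Set.toFinite _)
    rw [Set.ncard_sdiff_singleton_of_mem (one_mem V),
      show (V : Set K).ncard = 4 by rw [← Nat.card_coe_set_eq, SetLike.coe_sort_coe, hV]] at hle
    have hodd : ¬ 8 ∣ Nat.card K := by
      intro h8
      obtain ⟨R, hR⟩ := Sylow.exists_subgroup_card_pow_prime 2 (n := 3) (G := K) (by simpa using h8)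
      obtain ⟨R', hR'⟩ := (IsPGroup.of_card hR).exists_le_sylow
      have h3 := card_le_of_le hR'
      rw [hR, show Nat.card R' = Nat.card S from
        (Sylow.card_eq_multiplicity R').trans (Sylow.card_eq_multiplicity S).symm, hSV, hV] at h3
      norm_num at h3
    have hpos : 0 < Nat.card K := Nat.card_pos
    set o := {y : K | ∃ n ∈ (⊤ : Subgroup K), n * v * n⁻¹ = y}.ncard with ho
    rcases (show o = 1 ∨ o = 2 ∨ o = 3 ∨ 3 < o ∨ o = 0 by omega) with e | e | e | e | e
    · left; rw [e] at horb; omega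
    · refine absurd ?_ hodd
      rw [e] at horb
      omega
    · right; left; rw [e] at horb; omega
    · omega
    · rw [e] at horb; omega
  · right; right
    have hncyc : ¬ IsCyclic (S : Subgroup K) := by
      intro hcy
      obtain ⟨g, hg⟩ := hcy.exists_generator
      have ho : orderOf g = 4 := by rw [orderOf_eq_card_of_forall_mem_zpowers hg, hSV, hV]
      have hg2 : g * g = 1 := Subtype.ext (h2 g (hSV ▸ g.2))
      have := Nat.le_of_dvd (by norm_num) (orderOf_dvd_of_pow_eq_one ((pow_two g).trans hg2))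
      omega
    have hcent : ∀ t : K, orderOf t = 2 → IsMulCommutative (centralizer ({t} : Set K)) ∧
        ∀ c ∈ centralizer ({t} : Set K), c ^ 2 = 1 := by
      intro t ht
      obtain ⟨R, hR⟩ := (IsPGroup.of_card (p := 2) (n := 1) (G := zpowers t)
        (by rw [Nat.card_zpowers, ht, pow_one])).exists_le_sylow
      obtain ⟨g, hg⟩ := MulAction.exists_smul_eq K R S
      have hgt : g * t * g⁻¹ ∈ V := by
        rw [← hSV, ← hg, Sylow.coe_subgroup_smul]
        exact ⟨t, hR (mem_zpowers t), rfl⟩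
      have ht1 : t ≠ 1 := fun e => by rw [e, orderOf_one] at ht; omega
      have hcg := hc _ hgt fun e => ht1 (conj_eq_one_iff.1 e)
      have hmap : ∀ c ∈ centralizer ({t} : Set K), g * c * g⁻¹ ∈ V := fun c hc' => by
        rw [← hcg, mem_centralizer_singleton_iff]
        rw [mem_centralizer_singleton_iff] at hc'
        calc g * c * g⁻¹ * (g * t * g⁻¹) = g * (c * t) * g⁻¹ := by group
          _ = g * (t * c) * g⁻¹ := by rw [hc']
          _ = g * t * g⁻¹ * (g * c * g⁻¹) := by group
      refine ⟨⟨⟨fun c d => Subtype.ext ?_⟩⟩, fun c hc' => ?_⟩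
      · have hcd := mul_mem (hmap c c.2) (hmap d d.2)
        have h1 := inv_eq_of_mul_eq_one_right (h2 _ (hmap c c.2))
        have h2' := inv_eq_of_mul_eq_one_right (h2 _ (hmap d d.2))
        have h3 := inv_eq_of_mul_eq_one_right (h2 _ hcd)
        rw [mul_inv_rev, h1, h2'] at h3
        apply (MulAut.conj g).injective
        rw [coe_mul, coe_mul, map_mul, map_mul]
        exact h3.symm
      · have h1 := h2 _ (hmap c hc')
        rw [show g * c * g⁻¹ * (g * c * g⁻¹) = g * (c * c) * g⁻¹ by group, conj_eq_one_iff] at h1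
        rw [pow_two, h1]
    obtain ⟨F, iF, iFt, hF, ⟨e⟩⟩ := (⟨hncyc, hn, hcent⟩ : CfsgLib.Invol.CAHyp S).exists_psl
    rw [Nat.card_congr e.toEquiv, CfsgLib.Classical.card_psl_two_eq
      (hF.trans (by rw [hSV, hV])) 60 (by norm_num)]

/-- Elements of order three generate their centralisers. -/
theorem four_three {V : Subgroup K} (hV : Nat.card V = 4) (h2 : ∀ v ∈ V, v * v = 1)
    (hc : ∀ v ∈ V, v ≠ 1 → centralizer ({v} : Set K) = V) :
    ¬ 9 ∣ Nat.card K ∧ ∀ x w : K, orderOf x = 3 → w * x = x * w → (orderOf w).Coprime 3 → w = 1 := by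
  classical
  haveI : Fact (Nat.Prime 2) := ⟨Nat.prime_two⟩
  haveI : Fact (Nat.Prime 5) := ⟨by norm_num⟩
  have hK := four_card hV h2 hc
  refine ⟨by rcases hK with e | e | e <;> rw [e] <;> norm_num, fun x w hx hwx hw => ?_⟩
  by_contra hw1
  -- no involution centralises `x`
  have hodd : ¬ 2 ∣ orderOf w := by
    intro hd
    set t := w ^ (orderOf w / 2) with ht
    have hpos : 0 < orderOf w := orderOf_pos w
    have ht2 : orderOf t = 2 := by
      rw [ht, orderOf_pow' _ (by have := Nat.le_of_dvd hpos hd; omega),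
        Nat.gcd_eq_right (Nat.div_dvd_of_dvd hd), Nat.div_div_self hd hpos.ne']
    have hxt : x ∈ centralizer ({t} : Set K) := mem_centralizer_singleton_iff.2
      ((show Commute w x from hwx).pow_left _).symm.eq
    obtain ⟨R, hR⟩ := (IsPGroup.of_card (p := 2) (n := 1) (G := zpowers t)
      (by rw [Nat.card_zpowers, ht2, pow_one])).exists_le_sylow
    obtain ⟨S, hS⟩ := (IsPGroup.of_card (p := 2) (n := 2) (G := V)
      (by rw [hV]; norm_num)).exists_le_sylow
    have hS8 : ¬ 8 ∣ Nat.card K := by rcases hK with e | e | e <;> rw [e] <;> norm_num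
    have hSV : (S : Subgroup K) = V := by
      refine (Subgroup.eq_of_le_of_card_ge hS ?_).symm
      obtain ⟨j, hj⟩ := S.isPGroup'.exists_card_eq
      have h1 : j ≤ 2 := by
        by_contra hj2
        exact hS8 (((show (8 : ℕ) = 2 ^ 3 by norm_num) ▸ Nat.pow_dvd_pow 2 (not_le.1 hj2)).trans
          (hj ▸ card_subgroup_dvd_card _))
      rw [hV, hj]
      exact (Nat.pow_le_pow_right (by norm_num) h1).trans (by norm_num)
    obtain ⟨g, hg⟩ := MulAction.exists_smul_eq K R S
    have hgt : g * t * g⁻¹ ∈ V := by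
      rw [← hSV, ← hg, Sylow.coe_subgroup_smul]
      exact ⟨t, hR (mem_zpowers t), rfl⟩
    have hgx : g * x * g⁻¹ ∈ V := by
      rw [← hc _ hgt fun e => by rw [conj_eq_one_iff.1 e, orderOf_one] at ht2; omega,
        mem_centralizer_singleton_iff]
      rw [mem_centralizer_singleton_iff] at hxt
      calc g * x * g⁻¹ * (g * t * g⁻¹) = g * (x * t) * g⁻¹ := by group
        _ = g * (t * x) * g⁻¹ := by rw [hxt]
        _ = g * t * g⁻¹ * (g * x * g⁻¹) := by group
    have h4 := Subgroup.orderOf_dvd_natCard _ hgx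
    rw [show g * x * g⁻¹ = MulAut.conj g x from rfl, MulEquiv.orderOf_eq, hx, hV] at h4
    norm_num at h4
  have hdvd := orderOf_dvd_natCard w
  have h3 : ¬ 3 ∣ orderOf w := fun hd => by
    have := Nat.eq_one_of_dvd_coprimes hw hd dvd_rfl
    omega
  have hne : orderOf w ≠ 1 := fun e => hw1 (orderOf_eq_one_iff.1 e)
  have h60 : orderOf w ∣ 60 := hdvd.trans (by rcases hK with e | e | e <;> rw [e] <;> norm_num)
  have hw5 : orderOf w = 5 := by
    have hle := Nat.le_of_dvd (by norm_num) h60
    generalize orderOf w = m at *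
    interval_cases m <;> omega
  have hK60 : Nat.card K = 60 := by
    rcases hK with e | e | e
    · rw [e, hw5] at hdvd; norm_num at hdvd
    · rw [e, hw5] at hdvd; norm_num at hdvd
    · exact e
  -- the subgroup generated by `w` is normal
  obtain ⟨P, hP⟩ := (IsPGroup.of_card (p := 5) (n := 1) (G := zpowers w)
    (by rw [Nat.card_zpowers, hw5, pow_one])).exists_le_sylow
  have hPw : (P : Subgroup K) = zpowers w := by
    refine (Subgroup.eq_of_le_of_card_ge hP ?_).symm
    obtain ⟨j, hj⟩ := P.isPGroup'.exists_card_eq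
    have h1 : j ≤ 1 := by
      by_contra hj1
      have h25 := (Nat.pow_dvd_pow 5 (not_le.1 hj1)).trans (hj ▸ card_subgroup_dvd_card _)
      rw [hK60] at h25
      norm_num at h25
    rw [Nat.card_zpowers, hw5, hj]
    exact (Nat.pow_le_pow_right (by norm_num) h1).trans (by norm_num)
  have hn : Nat.card (Sylow 5 K) = 1 := by
    have h1 := card_sylow_modEq_one 5 K
    have h15 : 15 ∣ Nat.card ↥(normalizer ((P : Subgroup K) : Set K)) := by
      have hwN : w ∈ normalizer ((P : Subgroup K) : Set K) := le_normalizer (hP (mem_zpowers w))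
      have ha := Subgroup.orderOf_dvd_natCard _ hwN
      rw [hw5] at ha
      have hxN : x ∈ normalizer ((P : Subgroup K) : Set K) := by
        refine mem_normalizer_fintype fun y hy => ?_
        rw [hPw, SetLike.mem_coe] at hy ⊢
        obtain ⟨i, rfl⟩ := mem_zpowers_iff.1 hy
        rw [← ((show Commute w x from hwx).zpow_left i).eq, mul_inv_cancel_right]
        exact zpow_mem (mem_zpowers w) i
      have hb := Subgroup.orderOf_dvd_natCard _ hxN
      rw [hx] at hb
      exact Nat.Coprime.mul_dvd_of_dvd_of_dvd (by norm_num : Nat.Coprime 5 3) ha hb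
    have hidx := (normalizer ((P : Subgroup K) : Set K)).index_mul_card
    have hc5 : Nat.card (Sylow 5 K) = (normalizer ((P : Subgroup K) : Set K)).index :=
      P.card_eq_index_normalizer
    rw [← hc5, hK60] at hidx
    obtain ⟨k, hk⟩ := h15
    rw [hk] at hidx
    have h4 : Nat.card (Sylow 5 K) ∣ 4 := ⟨k, by
      have : Nat.card (Sylow 5 K) * k * 15 = 4 * 15 := by
        rw [mul_assoc, mul_comm k 15, hidx]
      exact (Nat.eq_of_mul_eq_mul_right (by norm_num) this).symm⟩
    have hle := Nat.le_of_dvd (by norm_num) h4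
    unfold Nat.ModEq at h1
    omega
  haveI : Subsingleton (Sylow 5 K) := (Nat.card_eq_one_iff_unique.1 hn).1
  have hnorm : (zpowers w).Normal := hPw ▸ P.normal_of_subsingleton
  -- each involution of `V` inverts `w`
  have hinv : ∀ v ∈ V, v ≠ 1 → v * w * v⁻¹ = w⁻¹ := by
    intro v hv hv1
    obtain ⟨i, hi⟩ := mem_zpowers_iff.1 (hnorm.conj_mem w (mem_zpowers w) v)
    have h1 : w ^ (i * i) = w := by
      rw [zpow_mul, hi, conj_zpow, hi]
      rw [show v * (v * w * v⁻¹) * v⁻¹ = v * v * w * (v * v)⁻¹ by group, h2 v hv, one_mul, inv_one,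
        mul_one]
    have h5 : (5 : ℤ) ∣ i * i - 1 := by
      rw [show ((5 : ℤ)) = (orderOf w : ℤ) by rw [hw5]; rfl, orderOf_dvd_iff_zpow_eq_one, zpow_sub,
        zpow_one, h1, mul_inv_cancel]
    rcases (Int.Prime.dvd_mul' (p := 5) (by norm_num) (show (5 : ℤ) ∣ (i - 1) * (i + 1) by
      rw [show (i - 1) * (i + 1) = i * i - 1 by ring]; exact h5)) with h | h
    · exfalso
      have he : w ^ i = w := by
        have : w ^ (i - 1) = 1 := orderOf_dvd_iff_zpow_eq_one.1 (by rw [hw5]; exact h)
        rwa [zpow_sub, zpow_one, mul_inv_eq_one] at this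
      have hwV : w ∈ V := by
        rw [← hc v hv hv1, mem_centralizer_singleton_iff]
        exact (mul_inv_eq_iff_eq_mul.1 (hi.symm.trans he)).symm
      have := Subgroup.orderOf_dvd_natCard _ hwV
      rw [hw5, hV] at this
      norm_num at this
    · rw [← hi]
      have : w ^ (i + 1) = 1 := orderOf_dvd_iff_zpow_eq_one.1 (by rw [hw5]; exact h)
      rw [zpow_add, zpow_one] at this
      exact eq_inv_of_mul_eq_one_left this
  obtain ⟨u, hu, v, hv, hu1, hv1, huv⟩ : ∃ u ∈ V, ∃ v ∈ V, u ≠ 1 ∧ v ≠ 1 ∧ u * v ≠ 1 := by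
    obtain ⟨u, hu, hu1⟩ : ∃ u ∈ V, u ≠ 1 := by
      by_contra h
      push Not at h
      rw [(Subgroup.eq_bot_iff_forall _).2 h, Subgroup.card_bot] at hV
      omega
    obtain ⟨v, hv, hvn⟩ : ∃ v ∈ V, v ∉ zpowers u := by
      by_contra h
      push Not at h
      have := card_le_of_le (show V ≤ zpowers u from h)
      rw [hV, Nat.card_zpowers] at this
      have := Nat.le_of_dvd (by norm_num) (orderOf_dvd_of_pow_eq_one ((pow_two u).trans (h2 u hu)))
      omega
    exact ⟨u, hu, v, hv, hu1, fun e => hvn (e ▸ one_mem _),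
      fun e => hvn ((eq_inv_of_mul_eq_one_right e) ▸ inv_mem (mem_zpowers u))⟩
  have h := hinv _ (mul_mem hu hv) huv
  rw [show u * v * w * (u * v)⁻¹ = u * (v * w * v⁻¹) * u⁻¹ by group, hinv v hv hv1,
    ← conj_inv, hinv u hu hu1, inv_inv] at h
  have hw2 : orderOf w ∣ 2 := orderOf_dvd_of_pow_eq_one (by
    rw [pow_two]; nth_rewrite 2 [h]; exact mul_inv_cancel w)
  rw [hw5] at hw2
  norm_num at hw2

end CfsgLib.InvChar.LThreeFourAut
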