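import Cfsg.Agent.Lib.InvChar.LThreeFourAut.ThreeAbelian
import Cfsg.Agent.Lib.InvChar.LThreeFour.Orbit
import Cfsg.Agent.Lib.PLocal.Section
import Cfsg.Agent.Lib.Transfer.Frobenius
import Mathlib.GroupTheory.Abelianization.Defs
import Mathlib.GroupTheory.Transfer

/-!
Fusion of an element of order three whose centraliser has Sylow 3-subgroups of order nine at most:
a non-real such element survives in the transfer to the abelianisation of a Sylow 3-subgroup.
-/

set_option autoImplicit false

namespace CfsgLib.InvChar.LThreeFourAut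

open Subgroup

universe u

variable {G : Type u} [Group G]

/-- The hypotheses on the element `a`. -/
structure Thin (a : G) : Prop where
  ha : orderOf a = 3
  not_real : ∀ g : G, g * a * g⁻¹ ≠ a⁻¹
  bound : ∀ Q : Subgroup G, IsPGroup 3 Q → Q ≤ centralizer ({a} : Set G) → Nat.card Q ≤ 9
  self : ∀ x w : G, x * a = a * x → w * a = a * w → w * x = x * w → x ∉ zpowers a →
    (∃ k, orderOf x = 3 ^ k) → (orderOf w).Coprime 3 → w = 1

/-- A coatom of a `3`-group has abelian quotient. -/
theorem commutative_of_coatom [Finite G] {Q : Subgroup G} (hQ : IsPGroup 3 Q) (M : Subgroup Q)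
    [M.Normal] (hM : IsCoatom M) : Std.Commutative (α := Q ⧸ M) (· * ·) := by
  haveI : Fact (Nat.Prime 3) := ⟨Nat.prime_three⟩
  haveI : Group.IsNilpotent Q := hQ.isNilpotent
  obtain ⟨n, hn⟩ := (hQ.to_quotient M).exists_card_eq
  haveI : IsSimpleGroup (Q ⧸ M) := by
    haveI : Nontrivial (Q ⧸ M) := QuotientGroup.nontrivial_iff.2 hM.1
    refine ⟨fun H _ => ?_⟩
    have hle : M ≤ H.comap (QuotientGroup.mk' M) := fun x hx => by
      rw [Subgroup.mem_comap, QuotientGroup.mk'_apply, (QuotientGroup.eq_one_iff x).2 hx]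
      exact one_mem H
    rcases eq_or_lt_of_le hle with e | e
    · left
      rw [← Subgroup.map_comap_eq_self_of_surjective (QuotientGroup.mk'_surjective M) H, ← e,
        Subgroup.map_eq_bot_iff, QuotientGroup.ker_mk']
    · right
      rw [← Subgroup.map_comap_eq_self_of_surjective (QuotientGroup.mk'_surjective M) H, hM.2 _ e,
        Subgroup.map_top_of_surjective _ (QuotientGroup.mk'_surjective M)]
  haveI : Nontrivial (center (Q ⧸ M)) := (hQ.to_quotient M).center_nontrivial
  rcases (inferInstance : (center (Q ⧸ M)).Normal).eq_bot_or_eq_top with e | e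
  · exact absurd e ((Subgroup.nontrivial_iff_ne_bot _).1 inferInstance)
  · exact ⟨fun x y => (Subgroup.mem_center_iff.1 (e ▸ Subgroup.mem_top x) y).symm⟩

namespace Thin

variable [Finite G] {a : G} {Q : Subgroup G}

theorem conj (h : Thin a) (g : G) : Thin (g * a * g⁻¹) where
  ha := by rw [show g * a * g⁻¹ = MulAut.conj g a from rfl, MulEquiv.orderOf_eq, h.ha]
  not_real k e := h.not_real (g⁻¹ * k * g) (by
    calc g⁻¹ * k * g * a * (g⁻¹ * k * g)⁻¹ = g⁻¹ * (k * (g * a * g⁻¹) * k⁻¹) * g := by group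
      _ = a⁻¹ := by rw [e]; group)
  bound R hR hRc := by
    rw [Nat.card_congr (R.equivMapOfInjective (MulAut.conj g⁻¹).toMonoidHom
      (MulAut.conj g⁻¹).injective).toEquiv]
    refine h.bound _ (hR.map _) ?_
    rintro _ ⟨y, hy, rfl⟩
    have h1 := mem_centralizer_singleton_iff.1 (hRc hy)
    rw [mem_centralizer_singleton_iff]
    change g⁻¹ * y * g⁻¹⁻¹ * a = a * (g⁻¹ * y * g⁻¹⁻¹)
    calc g⁻¹ * y * g⁻¹⁻¹ * a = g⁻¹ * (y * (g * a * g⁻¹)) * g := by group
      _ = g⁻¹ * (g * a * g⁻¹ * y) * g := by rw [h1]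
      _ = a * (g⁻¹ * y * g⁻¹⁻¹) := by group
  self x w h1 h2 h3 hx h4 h5 := by
    let φ := MulAut.conj g⁻¹
    have hφ : φ (g * a * g⁻¹) = a := by simp [φ, mul_assoc]
    have := h.self (φ x) (φ w) (by rw [← hφ, ← map_mul, h1, map_mul])
      (by rw [← hφ, ← map_mul, h2, map_mul]) (by rw [← map_mul, h3, map_mul]) (fun hm => hx ?_)
      (by obtain ⟨k, hk⟩ := h4; exact ⟨k, by rw [MulEquiv.orderOf_eq, hk]⟩)
      (by rw [MulEquiv.orderOf_eq]; exact h5)
    · exact φ.injective (this.trans (map_one φ).symm)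
    · obtain ⟨i, hi⟩ := mem_zpowers_iff.1 hm
      refine mem_zpowers_iff.2 ⟨i, φ.injective ?_⟩
      rw [map_zpow, hφ, hi]

variable (h : Thin a) (hQ : IsPGroup 3 Q) (haQ : a ∈ Q)
  (h9 : Nat.card ↥(Q ⊓ centralizer ({a} : Set G)) = 9)
include h hQ haQ h9

theorem inf_eq {R : Subgroup G} (hR : IsPGroup 3 R)
    (hRc : R ≤ centralizer ({a} : Set G)) (hle : Q ⊓ centralizer ({a} : Set G) ≤ R) :
    R ≤ Q :=
  (Subgroup.eq_of_le_of_card_ge hle (by rw [h9]; exact h.bound R hR hRc)).ge.trans inf_le_left

theorem card_abelianization_and_class :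
    Nat.card (Abelianization Q) = 9 ∧ orderOf (Abelianization.of (⟨a, haQ⟩ : Q)) = 3 ∧
      ∀ x : Q, Abelianization.of x = Abelianization.of (⟨a, haQ⟩ : Q) →
        ∃ q ∈ Q, q * a * q⁻¹ = x := by
  classical
  haveI : Fact (Nat.Prime 3) := ⟨Nat.prime_three⟩
  set v := Abelianization.of (⟨a, haQ⟩ : Q) with hv
  have horb := CfsgLib.InvChar.LThreeFour.orbit_card Q a
  rw [h9] at horb
  set S := {y : G | ∃ n ∈ Q, n * a * n⁻¹ = y}
  -- the class lies in the coset of the derived subgroup
  have hsub : S ⊆ Subtype.val '' {x : Q | Abelianization.of x = v} := by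
    rintro _ ⟨n, hn, rfl⟩
    refine ⟨⟨n, hn⟩ * ⟨a, haQ⟩ * (⟨n, hn⟩ : Q)⁻¹, ?_, rfl⟩
    rw [Set.mem_setOf_eq, map_mul, map_mul, map_inv, mul_comm (Abelianization.of (⟨n, hn⟩ : Q)),
      mul_inv_cancel_right]
  have hfib : {x : Q | Abelianization.of x = v}.ncard = Nat.card (commutator Q) := by
    rw [← Nat.card_coe_set_eq]
    refine Nat.card_congr
      { toFun := fun x => ⟨(⟨a, haQ⟩ : Q)⁻¹ * x.1, by
          rw [← Abelianization.ker_of, MonoidHom.mem_ker, map_mul, map_inv, x.2, inv_mul_cancel]⟩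
        invFun := fun c => ⟨(⟨a, haQ⟩ : Q) * c.1, by
          have hc : Abelianization.of c.1 = 1 := by
            rw [← MonoidHom.mem_ker, Abelianization.ker_of]; exact c.2
          rw [Set.mem_setOf_eq, map_mul, hc, mul_one]⟩
        left_inv := fun x => Subtype.ext (by simp)
        right_inv := fun c => Subtype.ext (by simp) }
  have hle : S.ncard ≤ Nat.card (commutator Q) := by
    rw [← hfib, ← Set.ncard_image_of_injective _ Subtype.val_injective]
    exact Set.ncard_le_ncard hsub (Set.toFinite _)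
  have hcardA : Nat.card (Abelianization Q) * Nat.card (commutator Q) = Nat.card Q := by
    change Nat.card (Q ⧸ commutator Q) * _ = _
    rw [← Subgroup.index_eq_card, Subgroup.index_mul_card]
  -- the abelianisation has order nine at least
  have hge : 9 ≤ Nat.card (Abelianization Q) := by
    by_contra hlt
    push Not at hlt
    obtain ⟨k, hk⟩ := (IsPGroup.of_surjective hQ
      (Abelianization.of : Q →* Abelianization Q) QuotientGroup.mk_surjective).exists_card_eq
    have hk2 : k ≤ 1 := by
      by_contra hk2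
      have := Nat.pow_le_pow_right (show 3 > 0 by norm_num) (not_le.1 hk2)
      omega
    haveI : IsCyclic (Abelianization Q) := by
      rcases Nat.le_one_iff_eq_zero_or_eq_one.1 hk2 with rfl | rfl
      · haveI : Subsingleton (Abelianization Q) :=
          (Nat.card_eq_one_iff_unique.1 (by simpa using hk)).1
        infer_instance
      · exact isCyclic_of_prime_card (p := 3) (by simpa using hk)
    obtain ⟨g, hg⟩ := IsCyclic.exists_generator (α := Abelianization Q)
    obtain ⟨q, rfl⟩ : ∃ q, Abelianization.of q = g := QuotientGroup.mk_surjective g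
    haveI : Group.IsNilpotent Q := hQ.isNilpotent
    have hcomm : commutator Q ≤ frattini Q := by
      refine le_iInf₂ fun M hM => ?_
      haveI : M.Normal := NormalizerCondition.normal_of_coatom M
        Group.normalizerCondition_of_isNilpotent hM
      haveI := (IsPGroup.of_surjective hQ (QuotientGroup.mk' M)
        (QuotientGroup.mk'_surjective M))
      exact (Subgroup.Normal.quotient_commutative_iff_commutator_le (N := M)).1
        ⟨commutative_of_coatom hQ M hM⟩
    have htop : zpowers q ⊔ frattini Q = ⊤ := by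
      refine eq_top_iff.2 fun y _ => ?_
      obtain ⟨i, hi⟩ := mem_zpowers_iff.1 (hg (Abelianization.of y))
      rw [← map_zpow] at hi
      have : q ^ (-i) * y ∈ commutator Q := by
        rw [← Abelianization.ker_of, MonoidHom.mem_ker, map_mul, zpow_neg, map_inv, hi,
          inv_mul_cancel]
      rw [show y = q ^ i * (q ^ (-i) * y) by group]
      exact mul_mem_sup (zpow_mem (mem_zpowers q) i) (hcomm this)
    have hq := frattini_nongenerating htop
    have hbot : commutator Q = ⊥ := by
      rw [_root_.commutator_def, eq_bot_iff, Subgroup.commutator_le]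
      intro p _ r _
      rw [mem_bot, commutatorElement_eq_one_iff_mul_comm]
      obtain ⟨i, rfl⟩ := mem_zpowers_iff.1 (hq ▸ mem_top p : p ∈ zpowers q)
      obtain ⟨j, rfl⟩ := mem_zpowers_iff.1 (hq ▸ mem_top r : r ∈ zpowers q)
      rw [← zpow_add, ← zpow_add, add_comm]
    rw [hbot, Subgroup.card_bot, mul_one] at hcardA
    have := card_le_of_le (inf_le_left : Q ⊓ centralizer ({a} : Set G) ≤ Q)
    omega
  have heq : Nat.card (Abelianization Q) = 9 ∧ S.ncard = Nat.card (commutator Q) := by
    have hpos : 0 < Nat.card (commutator Q) := Nat.card_pos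
    rw [← hcardA] at horb
    constructor <;> nlinarith
  have himg := Set.eq_of_subset_of_ncard_le hsub (by
    rw [Set.ncard_image_of_injective _ Subtype.val_injective, hfib, heq.2]) (Set.toFinite _)
  have hclass : ∀ x : Q, Abelianization.of x = v → ∃ q ∈ Q, q * a * q⁻¹ = x := by
    intro x hx
    have : (x : G) ∈ S := himg ▸ ⟨x, hx, rfl⟩
    exact this
  refine ⟨heq.1, ?_, hclass⟩
  have h3 : v ^ 3 = 1 := by
    rw [hv, ← map_pow, show (⟨a, haQ⟩ : Q) ^ 3 = 1 from Subtype.ext (by
      rw [coe_pow, ← h.ha, pow_orderOf_eq_one]; rfl), map_one]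
  refine orderOf_eq_prime h3 fun e => ?_
  obtain ⟨q, -, hq⟩ := hclass 1 (by rw [map_one, e])
  have hne : a ≠ 1 := fun e1 => by have := h.ha; rw [e1, orderOf_one] at this; omega
  exact hne (conj_eq_one_iff.1 hq)

/-- The action of the normaliser on the abelianisation of `Q`. -/
theorem exists_action :
    ∃ R : Subgroup (MulAut (Abelianization Q)),
      Nat.card R * Nat.card Q = Nat.card ↥(normalizer (Q : Set G)) ∧
      (∀ r ∈ R, r (Abelianization.of (⟨a, haQ⟩ : Q)) ≠ (Abelianization.of (⟨a, haQ⟩ : Q))⁻¹) ∧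
      (∀ r ∈ R, r (Abelianization.of (⟨a, haQ⟩ : Q)) = Abelianization.of (⟨a, haQ⟩ : Q) →
        r ^ 3 = 1 → r = 1) ∧
      (∀ x : Q, (∃ r ∈ R, r (Abelianization.of (⟨a, haQ⟩ : Q)) = Abelianization.of x) ↔
        ∃ n ∈ normalizer (Q : Set G), n * a * n⁻¹ = x) := by
  classical
  haveI : Fact (Nat.Prime 3) := ⟨Nat.prime_three⟩
  obtain ⟨hA, hv3, hclass⟩ := card_abelianization_and_class h hQ haQ h9
  set N := normalizer (Q : Set G)
  let F : MulAut Q →* MulAut (Abelianization Q) :=
    { toFun := fun e => e.abelianizationCongr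
      map_one' := abelianizationCongr_refl
      map_mul' := fun e f => (abelianizationCongr_trans f e).symm }
  let ρ : N →* MulAut (Abelianization Q) := F.comp Q.normalizerMonoidHom
  have hρ : ∀ (n : N) (x : Q),
      ρ n (Abelianization.of x) = Abelianization.of (Q.normalizerMonoidHom n x) :=
    fun n x => rfl
  have hval : ∀ (n : N) (x : Q), (Q.normalizerMonoidHom n x : G) = n * x * (n : G)⁻¹ :=
    fun n x => rfl
  have hlift : ∀ (n : N) (x : Q),
      ρ n (Abelianization.of (⟨a, haQ⟩ : Q)) = Abelianization.of x →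
      ∃ m ∈ N, m * a * m⁻¹ = x := by
    intro n x e
    have e' : Abelianization.of ((Q.normalizerMonoidHom n).symm x) =
        Abelianization.of (⟨a, haQ⟩ : Q) := by
      refine (ρ n).injective ?_
      rw [e, hρ, MulEquiv.apply_symm_apply]
    obtain ⟨q, hq, hqa⟩ := hclass _ e'
    refine ⟨n * q, mul_mem n.2 (le_normalizer hq), ?_⟩
    calc (n : G) * q * a * ((n : G) * q)⁻¹ = (n : G) * (q * a * q⁻¹) * (n : G)⁻¹ := by group
      _ = x := by rw [hqa, ← hval, MulEquiv.apply_symm_apply]
  -- the kernel of the action is `Q`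
  have hker : ρ.ker = Q.subgroupOf N := by
    refine le_antisymm (fun n hn => ?_) (fun n hn => ?_)
    swap
    · rw [MonoidHom.mem_ker]
      refine MulEquiv.ext fun z => ?_
      obtain ⟨x, rfl⟩ : ∃ x, Abelianization.of x = z := QuotientGroup.mk_surjective z
      rw [hρ, MulAut.one_apply]
      have : Q.normalizerMonoidHom n x = ⟨n, mem_subgroupOf.1 hn⟩ * x * (⟨n, mem_subgroupOf.1 hn⟩ : Q)⁻¹ :=
        Subtype.ext (hval n x)
      rw [this, map_mul, map_mul, map_inv, mul_comm (Abelianization.of _), mul_inv_cancel_right]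
    · rw [mem_subgroupOf]
      rw [MonoidHom.mem_ker] at hn
      -- a 3-element of the kernel lies in `Q`
      have hthree : ∀ m ∈ N, (∀ y ∈ Q, m * y * m⁻¹ ∈ Q) → (∃ k, orderOf m = 3 ^ k) →
          m * a * m⁻¹ = a → m ∈ Q := by
        intro m hmN _ hk hma
        have hmc : m ∈ centralizer ({a} : Set G) :=
          mem_centralizer_singleton_iff.2 (mul_inv_eq_iff_eq_mul.1 hma)
        have hnorm : ∀ y ∈ zpowers m, y ∈ normalizer ((Q ⊓ centralizer ({a} : Set G) : Subgroup G) : Set G) := by
          refine zpowers_le.2 (mem_normalizer_fintype fun y hy => ?_)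
          obtain ⟨h1, h2⟩ := mem_inf.1 hy
          exact mem_inf.2 ⟨(mem_normalizer_iff.1 hmN y).1 h1,
            mul_mem (mul_mem hmc h2) (inv_mem hmc)⟩
        have pR : IsPGroup 3 ↥((Q ⊓ centralizer ({a} : Set G)) ⊔ zpowers m) := by
          obtain ⟨k, hk⟩ := hk
          refine IsPGroup.to_sup_of_normal_left' (hQ.to_le inf_le_left)
            (IsPGroup.of_card (n := k) (by rw [Nat.card_zpowers, hk])) hnorm
        exact inf_eq h hQ haQ h9 pR (sup_le inf_le_right (zpowers_le.2 hmc)) le_sup_left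
          ((le_sup_right : zpowers m ≤ _) (mem_zpowers m))
      -- fix `a`
      have hna : ρ n (Abelianization.of (⟨a, haQ⟩ : Q)) = Abelianization.of (⟨a, haQ⟩ : Q) := by
        rw [hn, MulAut.one_apply]
      have hqx : Abelianization.of (Q.normalizerMonoidHom n ⟨a, haQ⟩) =
          Abelianization.of (⟨a, haQ⟩ : Q) := (hρ n _).symm.trans hna
      obtain ⟨q, hq, hqa⟩ := hclass _ hqx
      rw [hval] at hqa
      set m : N := ⟨q, le_normalizer hq⟩⁻¹ * n with hm
      have hma : (m : G) * a * (m : G)⁻¹ = a := by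
        rw [hm, coe_mul, coe_inv]
        calc (q : G)⁻¹ * n * a * ((q : G)⁻¹ * n)⁻¹ = q⁻¹ * ((n : G) * a * (n : G)⁻¹) * q := by group
          _ = a := by rw [← hqa]; group
      suffices hmQ : (m : G) ∈ Q by
        have := mul_mem hq hmQ
        rwa [hm, coe_mul, coe_inv, mul_inv_cancel_left] at this
      have hmρ : ρ m = 1 := by
        rw [hm, map_mul, map_inv, hn, mul_one, inv_eq_one]
        refine MulEquiv.ext fun z => ?_
        obtain ⟨x, rfl⟩ : ∃ x, Abelianization.of x = z := QuotientGroup.mk_surjective z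
        rw [hρ, MulAut.one_apply]
        have : Q.normalizerMonoidHom ⟨q, le_normalizer hq⟩ x = ⟨q, hq⟩ * x * (⟨q, hq⟩ : Q)⁻¹ :=
          Subtype.ext (hval _ x)
        rw [this, map_mul, map_mul, map_inv, mul_comm (Abelianization.of _), mul_inv_cancel_right]
      -- split into a 3-part and a part of order prime to 3
      obtain ⟨k, r, hr3, hr⟩ := Nat.exists_eq_pow_mul_and_not_dvd (orderOf_pos (m : G)).ne' 3
        (by norm_num)
      have hcop : r.Coprime (3 ^ k) :=
        ((Nat.Prime.coprime_iff_not_dvd Nat.prime_three).2 hr3).symm.pow_right k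
      have hpk : (orderOf ((m : G) ^ (3 ^ k : ℕ))).Coprime 3 := by
        rw [orderOf_pow' _ (pow_ne_zero _ (by norm_num)), hr, Nat.gcd_eq_right (dvd_mul_right _ _),
          Nat.mul_div_cancel_left _ (pow_pos (by norm_num) k)]
        exact ((Nat.Prime.coprime_iff_not_dvd Nat.prime_three).2 hr3).symm
      -- that part is trivial
      have hw1 : (m : G) ^ (3 ^ k : ℕ) = 1 := by
        set w := (m : G) ^ (3 ^ k : ℕ) with hw
        have hwN : w ∈ N := pow_mem m.2 _
        have hwρ : ρ ⟨w, hwN⟩ = 1 := by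
          rw [show (⟨w, hwN⟩ : N) = m ^ (3 ^ k : ℕ) from Subtype.ext (coe_pow _ _ _).symm,
            map_pow, hmρ, one_pow]
        have hwa : w * a = a * w :=
          (Commute.pow_left (mul_inv_eq_iff_eq_mul.1 hma : Commute (m : G) a) _).eq
        haveI : Group.IsNilpotent Q := hQ.isNilpotent
        have hwc : w ∈ centralizer (Q : Set G) := by
          refine CfsgLib.PLocal.centralizes_of_trivial_on_frattini_quotient hQ hwN hpk
            fun y hy => ⟨(⟨y, hy⟩ : Q)⁻¹ * (Q.normalizerMonoidHom ⟨w, hwN⟩).symm ⟨y, hy⟩, ?_, ?_⟩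
          · have hcomm : commutator Q ≤ frattini Q := by
              refine le_iInf₂ fun M hM => ?_
              haveI : M.Normal := NormalizerCondition.normal_of_coatom M
                Group.normalizerCondition_of_isNilpotent hM
              exact (Subgroup.Normal.quotient_commutative_iff_commutator_le (N := M)).1
                ⟨commutative_of_coatom hQ M hM⟩
            refine hcomm ?_
            rw [← Abelianization.ker_of, MonoidHom.mem_ker, map_mul, map_inv, inv_mul_eq_one]
            refine (ρ ⟨w, hwN⟩).injective ?_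
            rw [hρ ⟨w, hwN⟩ ((Q.normalizerMonoidHom ⟨w, hwN⟩).symm _), MulEquiv.apply_symm_apply,
              hwρ, MulAut.one_apply]
          · have h2 : ((Q.normalizerMonoidHom ⟨w, hwN⟩).symm ⟨y, hy⟩ : G) = w⁻¹ * y * w := by
              have := hval ⟨w, hwN⟩ ((Q.normalizerMonoidHom ⟨w, hwN⟩).symm ⟨y, hy⟩)
              rw [MulEquiv.apply_symm_apply] at this
              change y = w * _ * w⁻¹ at this
              conv_rhs => rw [this]
              group
            change (y⁻¹ * ((Q.normalizerMonoidHom ⟨w, hwN⟩).symm ⟨y, hy⟩ : G)) = _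
            rw [h2]
            group
        obtain ⟨c, hc, hca⟩ : ∃ c ∈ Q ⊓ centralizer ({a} : Set G), c ∉ zpowers a := by
          by_contra hno
          push Not at hno
          have := card_le_of_le (show Q ⊓ centralizer ({a} : Set G) ≤ zpowers a from hno)
          rw [h9, Nat.card_zpowers, h.ha] at this
          omega
        obtain ⟨j, hj⟩ := IsPGroup.iff_orderOf.1 hQ ⟨c, (mem_inf.1 hc).1⟩
        exact h.self c w (mem_centralizer_singleton_iff.1 (mem_inf.1 hc).2) hwa
          ((mem_centralizer_iff.1 hwc c (mem_inf.1 hc).1).symm) hca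
          ⟨j, by rwa [Subgroup.orderOf_mk] at hj⟩ hpk
      exact hthree m m.2 (fun y hy => (mem_normalizer_iff.1 m.2 y).1 hy)
        (by
          obtain ⟨j, -, hj⟩ := (Nat.dvd_prime_pow Nat.prime_three).1
            (orderOf_dvd_of_pow_eq_one hw1)
          exact ⟨j, hj⟩) hma
  refine ⟨ρ.range, ?_, ?_, ?_, fun x => ⟨?_, ?_⟩⟩
  · rw [← Subgroup.index_ker, hker, mul_comm]
    conv_lhs =>
      rw [← Nat.card_congr (subgroupOfEquivOfLe (le_normalizer : Q ≤ N)).toEquiv]
    exact Subgroup.card_mul_index _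
  · rintro _ ⟨n, rfl⟩ e
    rw [← map_inv] at e
    obtain ⟨m, -, hm⟩ := hlift n _ e
    exact h.not_real m hm
  · rintro _ ⟨n, rfl⟩ hfix hcube
    rw [← map_pow, ← MonoidHom.mem_ker, hker, mem_subgroupOf, coe_pow] at hcube
    rw [hρ] at hfix
    obtain ⟨q, hq, hqa⟩ := hclass _ hfix
    rw [hval] at hqa
    have hnQ : (n : G) ∈ Q := by
      have hpow : ∃ k, orderOf (n : G) = 3 ^ k := by
        obtain ⟨j, hj⟩ := IsPGroup.iff_orderOf.1 hQ ⟨_, hcube⟩
        rw [Subgroup.orderOf_mk] at hj
        obtain ⟨i, -, hi⟩ := (Nat.dvd_prime_pow (m := j + 1) Nat.prime_three).1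
          (orderOf_dvd_of_pow_eq_one (x := (n : G)) (n := 3 ^ (j + 1)) (by
            rw [pow_succ', pow_mul, ← hj, pow_orderOf_eq_one]))
        exact ⟨i, hi⟩
      obtain ⟨k, hk⟩ := hpow
      -- `Q⟨n⟩` is a 3-group
      have pR : IsPGroup 3 ↥(Q ⊔ zpowers (n : G)) :=
        IsPGroup.to_sup_of_normal_left' hQ (IsPGroup.of_card (n := k) (by rw [Nat.card_zpowers, hk]))
          (zpowers_le.2 n.2)
      set d := q⁻¹ * (n : G) with hd
      have hdR : d ∈ Q ⊔ zpowers (n : G) :=
        mul_mem (mem_sup_left (inv_mem hq)) (mem_sup_right (mem_zpowers _))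
      have hdc : d ∈ centralizer ({a} : Set G) := by
        rw [mem_centralizer_singleton_iff, ← mul_inv_eq_iff_eq_mul, hd]
        calc q⁻¹ * (n : G) * a * (q⁻¹ * (n : G))⁻¹ = q⁻¹ * ((n : G) * a * (n : G)⁻¹) * q := by group
          _ = a := by rw [← hqa]; group
      have := inf_eq h hQ haQ h9 (R := (Q ⊔ zpowers (n : G)) ⊓ centralizer ({a} : Set G))
        (pR.to_le inf_le_left) inf_le_right (inf_le_inf_right _ le_sup_left) (mem_inf.2 ⟨hdR, hdc⟩)
      rw [hd] at this
      have h2 := mul_mem hq this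
      rwa [mul_inv_cancel_left] at h2
    rw [← MonoidHom.mem_ker, hker, mem_subgroupOf]
    exact hnQ
  · rintro ⟨_, ⟨n, rfl⟩, e⟩
    exact hlift n x e
  · rintro ⟨n, hn, e⟩
    refine ⟨ρ ⟨n, hn⟩, ⟨_, rfl⟩, ?_⟩
    rw [hρ]
    exact congrArg _ (Subtype.ext e)

/-- Only one Sylow subgroup of the normaliser of a non-Sylow `Q`. -/
theorem le_sylow_of_normalizes (P : Sylow 3 G) (hQP : Q < (P : Subgroup G)) {R : Subgroup G}
    (hR : IsPGroup 3 R) (hRN : R ≤ normalizer (Q : Set G)) : R ≤ (P : Subgroup G) := by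
  classical
  haveI : Fact (Nat.Prime 3) := ⟨Nat.prime_three⟩
  obtain ⟨hA, hv3, -⟩ := card_abelianization_and_class h hQ haQ h9
  obtain ⟨W, hW, hnr, hst, -⟩ := exists_action h hQ haQ h9
  obtain ⟨o, s, hos, hs1, hs2, ho4, -⟩ := orbit_bound hA hv3 W hnr hst
  set N := normalizer (Q : Set G)
  set R1 := (P : Subgroup G) ⊓ N with hR1
  have hQR1 : Q < R1 := by
    refine lt_of_le_of_ne (le_inf hQP.le le_normalizer) fun e => ?_
    haveI : Group.IsNilpotent P := P.isPGroup'.isNilpotent
    have hlt : Q.subgroupOf (P : Subgroup G) < ⊤ :=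
      lt_top_iff_ne_top.2 fun e' => hQP.ne (le_antisymm hQP.le (subgroupOf_eq_top.1 e'))
    obtain ⟨n, hn, hnQ⟩ := SetLike.exists_of_lt
      (Group.normalizerCondition_of_isNilpotent (G := P) _ hlt)
    refine hnQ (mem_subgroupOf.2 ?_)
    have : (n : G) ∈ R1 := mem_inf.2 ⟨n.2, mem_normalizer_fintype fun y hy =>
      mem_subgroupOf.1 ((mem_normalizer_iff.1 hn ⟨y, hQP.le hy⟩).1 (mem_subgroupOf.2 hy))⟩
    rwa [← e] at this
  have pR1 : IsPGroup 3 R1 := P.isPGroup'.to_le inf_le_left
  obtain ⟨i, hi⟩ := hQ.exists_card_eq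
  obtain ⟨j, hj⟩ := pR1.exists_card_eq
  have hij : i < j := (Nat.pow_lt_pow_iff_right (show 1 < 3 by norm_num)).1 (by
    rw [← hi, ← hj]
    exact lt_of_le_of_ne (card_le_of_le hQR1.le) fun e =>
      hQR1.ne (Subgroup.eq_of_le_of_card_ge hQR1.le e.ge))
  have hd : 3 ∣ Nat.card W := by
    have h1 : 3 ^ (i + 1) ∣ Nat.card W * Nat.card Q :=
      hW ▸ ((Nat.pow_dvd_pow 3 hij).trans hj.symm.dvd).trans (card_dvd_of_le inf_le_right)
    rw [hi, pow_succ', mul_comm 3] at h1
    exact (Nat.mul_dvd_mul_iff_left (pow_pos (show 0 < 3 by norm_num) i)).1 (by rwa [mul_comm (Nat.card W)] at h1)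
  have h36 : Nat.card W = 3 ∨ Nat.card W = 6 := by
    rw [hos] at hd ⊢
    have hpos : 0 < Nat.card W := Nat.card_pos
    rw [hos] at hpos
    interval_cases o <;> interval_cases s <;> omega
  have hR1c : Nat.card R1 = 3 * Nat.card Q := by
    have h1 := card_dvd_of_le (inf_le_right : R1 ≤ N)
    rw [← hW, hj, hi] at h1
    rw [hj, hi, ← pow_succ']
    congr 1
    refine le_antisymm ?_ hij
    by_contra hji
    have h2 : 3 ^ (i + 2) ∣ Nat.card W * 3 ^ i := (Nat.pow_dvd_pow 3 (by omega)).trans h1
    rw [pow_add, mul_comm (Nat.card W)] at h2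
    have h3 := (Nat.mul_dvd_mul_iff_left (pow_pos (show 0 < 3 by norm_num) i)).1 h2
    rcases h36 with e | e <;> rw [e] at h3 <;> norm_num at h3
  -- `R1` has index at most two
  have hidx : (R1.subgroupOf N).index = 1 ∨ (R1.subgroupOf N).index = 2 := by
    have h1 := Subgroup.card_mul_index (R1.subgroupOf N)
    rw [Nat.card_congr (subgroupOfEquivOfLe (inf_le_right : R1 ≤ N)).toEquiv, hR1c, ← hW] at h1
    have hpos : 0 < Nat.card Q := Nat.card_pos
    rcases h36 with e | e <;> rw [e] at h1
    · left; nlinarith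
    · right; nlinarith
  haveI : (R1.subgroupOf N).Normal := by
    rcases hidx with e | e
    · rw [index_eq_one.1 e]; infer_instance
    · exact normal_of_index_eq_two e
  refine le_trans (fun r hr => ?_) (inf_le_left : R1 ≤ (P : Subgroup G))
  have h1 := (R1.subgroupOf N).pow_index_mem ⟨r, hRN hr⟩
  rw [mem_subgroupOf, coe_pow] at h1
  obtain ⟨k, hk⟩ := IsPGroup.iff_orderOf.1 hR ⟨r, hr⟩
  rw [Subgroup.orderOf_mk] at hk
  rcases hidx with e | e <;> rw [e] at h1
  · rw [pow_one] at h1; exact h1
  · have hc : Nat.Coprime 2 (orderOf r) := by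
      rw [hk]; exact Nat.Coprime.pow_right _ (by norm_num)
    obtain ⟨t, ht⟩ := exists_pow_eq_self_of_coprime hc
    exact ht ▸ pow_mem h1 t

end Thin

/-- Two Sylow 3-subgroups over the Sylow subgroup of `C(a)` coincide. -/
theorem Thin.sylow_unique [Finite G] {a : G} (h : Thin a) {C : Subgroup G}
    (hC : C ≤ centralizer ({a} : Set G)) (hC9 : Nat.card C = 9) (haC : a ∈ C) (P R : Sylow 3 G)
    (hP : C ≤ (P : Subgroup G)) (hR : C ≤ (R : Subgroup G)) : P = R := by
  classical
  haveI : Fact (Nat.Prime 3) := ⟨Nat.prime_three⟩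
  by_contra hne
  set Q := (P : Subgroup G) ⊓ (R : Subgroup G) with hQ
  have pQ : IsPGroup 3 Q := P.isPGroup'.to_le inf_le_left
  have h9 : Nat.card ↥(Q ⊓ centralizer ({a} : Set G)) = 9 := by
    refine le_antisymm (h.bound _ (pQ.to_le inf_le_left) inf_le_right) ?_
    rw [← hC9]
    exact card_le_of_le (le_inf (le_inf hP hR) hC)
  have hQP : Q < (P : Subgroup G) := by
    refine lt_of_le_of_ne inf_le_left fun e => hne (Sylow.ext ?_)
    exact (P.3 R.isPGroup' (inf_eq_left.1 e)).symm
  have hQR : Q < (R : Subgroup G) := by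
    refine lt_of_le_of_ne inf_le_right fun e => hne (Sylow.ext ?_)
    exact R.3 P.isPGroup' (inf_eq_right.1 e)
  haveI : Group.IsNilpotent (R : Subgroup G) := R.isPGroup'.isNilpotent
  have hlt : Q.subgroupOf (R : Subgroup G) < ⊤ :=
    lt_top_iff_ne_top.2 fun e' => hQR.ne (le_antisymm hQR.le (subgroupOf_eq_top.1 e'))
  obtain ⟨n, hn, hnQ⟩ := SetLike.exists_of_lt
    (Group.normalizerCondition_of_isNilpotent (G := (R : Subgroup G)) _ hlt)
  refine hnQ (mem_subgroupOf.2 (mem_inf.2 ⟨?_, n.2⟩))
  have hN : (n : G) ∈ normalizer (Q : Set G) := mem_normalizer_fintype fun y hy =>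
    mem_subgroupOf.1 ((mem_normalizer_iff.1 hn ⟨y, hQR.le hy⟩).1 (mem_subgroupOf.2 hy))
  exact h.le_sylow_of_normalizes pQ (mem_inf.2 ⟨hP haC, hR haC⟩) h9 P hQP
    (R := (R : Subgroup G) ⊓ normalizer (Q : Set G)) (R.isPGroup'.to_le inf_le_left) inf_le_right
    (mem_inf.2 ⟨n.2, hN⟩)

/-- A thin element is outside the derived subgroup. -/
theorem Thin.false [Finite G] [IsSimpleGroup G] {a : G} (h : Thin a) (hG : ¬ IsMulCommutative G) :
    False := by
  classical
  haveI : Fact (Nat.Prime 3) := ⟨Nat.prime_three⟩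
  set Ca := centralizer ({a} : Set G) with hCa
  obtain ⟨C', -⟩ := (IsPGroup.of_card (p := 3) (n := 1) (G := zpowers (⟨a,
    mem_centralizer_singleton_iff.2 rfl⟩ : Ca)) (by
      rw [Nat.card_zpowers, Subgroup.orderOf_mk, h.ha, pow_one])).exists_le_sylow
  set C := (C' : Subgroup Ca).map Ca.subtype with hC
  have hCle : C ≤ Ca := map_subtype_le _
  have pC : IsPGroup 3 C := C'.isPGroup'.map _
  have hmax : ∀ Q : Subgroup G, IsPGroup 3 Q → C ≤ Q → Q ≤ Ca → Q = C := by
    intro Q pQ hCQ hQ
    have := C'.3 (pQ.of_equiv (subgroupOfEquivOfLe hQ).symm) (fun x hx =>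
      mem_subgroupOf.2 (hCQ ⟨x, hx, rfl⟩))
    rw [hC, ← this, subgroupOf_map_subtype, inf_eq_left.2 hQ]
  have hnormal : (zpowers a).subgroupOf Ca ≤ (C' : Subgroup Ca) := by
    have hc : (zpowers a).subgroupOf Ca ≤ center Ca := by
      intro x hx
      obtain ⟨k, hk⟩ := mem_zpowers_iff.1 (mem_subgroupOf.1 hx)
      refine mem_center_iff.2 fun y => Subtype.ext ?_
      rw [coe_mul, coe_mul, ← hk]
      exact ((show Commute (y : G) a from mem_centralizer_singleton_iff.1 y.2).zpow_right k).eq
    haveI : ((zpowers a).subgroupOf Ca).Normal := ⟨fun n hn g => by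
      rwa [mem_center_iff.1 (hc hn) g, mul_inv_cancel_right]⟩
    have pz : IsPGroup 3 ((zpowers a).subgroupOf Ca) := by
      refine IsPGroup.of_card (n := 1) ?_
      rw [Nat.card_congr (subgroupOfEquivOfLe (zpowers_le.2 (show a ∈ Ca from
        mem_centralizer_singleton_iff.2 rfl))).toEquiv, Nat.card_zpowers, h.ha, pow_one]
    exact le_trans le_sup_left (C'.3 (pz.to_sup_of_normal_left C'.isPGroup') le_sup_right).le
  have haC : a ∈ C := ⟨⟨a, mem_centralizer_singleton_iff.2 rfl⟩,
    hnormal (mem_subgroupOf.2 (mem_zpowers a)), rfl⟩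
  obtain ⟨P, hP⟩ := pC.exists_le_sylow
  have hPC : (P : Subgroup G) ⊓ Ca = C :=
    hmax _ (P.isPGroup'.to_le inf_le_left) (le_inf hP hCle) inf_le_right
  -- either `C = ⟨a⟩` is a Sylow subgroup, or it has order nine
  obtain ⟨k, hk⟩ := pC.exists_card_eq
  have hk2 : k ≤ 2 := by
    have := h.bound C pC hCle
    rw [hk] at this
    by_contra hk2
    have := Nat.pow_le_pow_right (show 3 > 0 by norm_num) (not_le.1 hk2)
    omega
  have hk1 : 1 ≤ k := by
    rcases Nat.eq_zero_or_pos k with rfl | hk1
    · have := card_le_of_le (zpowers_le.2 haC)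
      rw [Nat.card_zpowers, h.ha, hk] at this
      norm_num at this
    · exact hk1
  rcases (show k = 1 ∨ k = 2 by omega) with rfl | rfl
  · have hCz : C = zpowers a := (Subgroup.eq_of_le_of_card_ge (zpowers_le.2 haC) (by
      rw [hk, Nat.card_zpowers, h.ha, pow_one])).symm
    have hPeq : (P : Subgroup G) = C := by
      by_contra hne
      have hlt : C.subgroupOf (P : Subgroup G) < ⊤ :=
        lt_top_iff_ne_top.2 fun e => hne (le_antisymm (subgroupOf_eq_top.1 e) hP)
      haveI : Group.IsNilpotent P := P.isPGroup'.isNilpotent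
      obtain ⟨n, hn, hnC⟩ := SetLike.exists_of_lt
        (Group.normalizerCondition_of_isNilpotent (G := P) _ hlt)
      refine hnC (mem_subgroupOf.2 (hPC ▸ mem_inf.2 ⟨n.2, ?_⟩))
      have h1 : (n : G) * a * (n : G)⁻¹ ∈ zpowers a := hCz ▸ mem_subgroupOf.1
        ((mem_normalizer_iff.1 hn ⟨a, hP haC⟩).1 (mem_subgroupOf.2 haC))
      rw [hCa, mem_centralizer_singleton_iff, ← mul_inv_eq_iff_eq_mul]
      obtain ⟨i, hi⟩ := mem_zpowers_iff.1 h1
      rw [← zpow_mod_orderOf, h.ha] at hi
      have h0 : 0 ≤ i % (3 : ℕ) := Int.emod_nonneg _ (by norm_num)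
      have h3 : i % (3 : ℕ) < 3 := Int.emod_lt_of_pos _ (by norm_num)
      interval_cases hi3 : i % (3 : ℕ)
      · exfalso
        have := h.ha
        rw [show a = 1 from conj_eq_one_iff.1 (hi.symm.trans (zpow_zero a)), orderOf_one] at this
        omega
      · rw [← hi, zpow_one]
      · refine absurd (hi.symm.trans ?_) (h.not_real n)
        rw [zpow_two, ← mul_eq_one_iff_eq_inv, ← pow_two, ← pow_succ]
        rw [show (2 : ℕ) + 1 = 3 from rfl, ← h.ha, pow_orderOf_eq_one]
    obtain ⟨Q', O, hOn, hcompl⟩ := CfsgLib.Transfer.hasNormalPComplement_of_normalizer_le_centralizer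
      (p := 3) P (by
        intro n hn
        refine mem_centralizer_iff.2 fun y hy => ?_
        rw [SetLike.mem_coe, hPeq, hCz] at hy
        obtain ⟨i, rfl⟩ := mem_zpowers_iff.1 hy
        have h1 : n * a * n⁻¹ ∈ zpowers a := by
          rw [← hCz, ← hPeq]
          exact (mem_normalizer_iff.1 hn a).1 (hPeq ▸ haC)
        obtain ⟨j, hj⟩ := mem_zpowers_iff.1 h1
        rw [← zpow_mod_orderOf, h.ha] at hj
        have h0 : 0 ≤ j % (3 : ℕ) := Int.emod_nonneg _ (by norm_num)
        have h3 : j % (3 : ℕ) < 3 := Int.emod_lt_of_pos _ (by norm_num)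
        have hna : n * a * n⁻¹ = a := by
          interval_cases hj3 : j % (3 : ℕ)
          · exfalso
            have := h.ha
            rw [show a = 1 from conj_eq_one_iff.1 (hj.symm.trans (zpow_zero a)), orderOf_one] at this
            omega
          · rw [← hj, zpow_one]
          · refine absurd (hj.symm.trans ?_) (h.not_real n)
            rw [zpow_two, ← mul_eq_one_iff_eq_inv, ← pow_two, ← pow_succ]
            rw [show (2 : ℕ) + 1 = 3 from rfl, ← h.ha, pow_orderOf_eq_one]
        exact ((show Commute a n from (mul_inv_eq_iff_eq_mul.1 hna).symm).zpow_left i).eq)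
    have hQ3 : Nat.card Q' = 3 := by
      rw [show Nat.card Q' = Nat.card P from
        (Sylow.card_eq_multiplicity Q').trans (Sylow.card_eq_multiplicity P).symm, hPeq, hk, pow_one]
    rcases hOn.eq_bot_or_eq_top with e | e
    · have h1 := hcompl.card_mul
      rw [e, Subgroup.card_bot, one_mul, hQ3] at h1
      exact hG (isCyclic_of_prime_card (p := 3) h1.symm).isMulCommutative
    · have h1 := hcompl.card_mul
      rw [e, Subgroup.card_top, hQ3] at h1
      have hpos : 0 < Nat.card G := Nat.card_pos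
      omega
  -- order nine
  have hC9 : Nat.card C = 9 := hk
  have haP : a ∈ (P : Subgroup G) := hP haC
  have h9 : Nat.card ↥((P : Subgroup G) ⊓ Ca) = 9 := by rw [hPC, hC9]
  obtain ⟨hA, hv3, hclass⟩ := h.card_abelianization_and_class P.isPGroup' haP h9
  obtain ⟨W, hW, hnr, hst, horbit⟩ := h.exists_action P.isPGroup' haP h9
  set v := Abelianization.of (⟨a, haP⟩ : P) with hv
  obtain ⟨o, s, hos, hs1, hs2, ho4, ho⟩ := orbit_bound hA hv3 W hnr hst
  set S : Finset (Abelianization P) := (Set.toFinite {x | ∃ r ∈ W, r v = x}).toFinset with hS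
  have hScard : S.card = o := by rw [hS, ho, Set.ncard_eq_toFinset_card]
  have hW3 : ¬ 3 ∣ Nat.card W := by
    intro hd
    have h2 : 3 * Nat.card P ∣ Nat.card G :=
      (Nat.mul_dvd_mul_right hd _).trans (hW ▸ card_subgroup_dvd_card _)
    obtain ⟨j, hj⟩ := P.isPGroup'.exists_card_eq
    rw [hj, ← pow_succ'] at h2
    obtain ⟨R, hR⟩ := Sylow.exists_subgroup_card_pow_prime 3 h2
    obtain ⟨R', hR'⟩ := (IsPGroup.of_card hR).exists_le_sylow
    have h3 := card_le_of_le hR'
    rw [hR, show Nat.card R' = Nat.card P from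
      (Sylow.card_eq_multiplicity R').trans (Sylow.card_eq_multiplicity P).symm, hj] at h3
    exact absurd h3 (not_le.2 (Nat.pow_lt_pow_right (by norm_num) (Nat.lt_succ_self j)))
  have ho124 : o = 1 ∨ o = 2 ∨ o = 4 := by
    have hpos : 0 < Nat.card W := Nat.card_pos
    rw [hos] at hpos hW3
    interval_cases o <;> omega
  have hmemS : ∀ x, x ∈ S ↔ ∃ r ∈ W, r v = x := fun x => by rw [hS, Set.Finite.mem_toFinset]; rfl
  have hprod : ∏ x ∈ S, x ≠ 1 := by
    refine prod_ne_one hA S (fun x hx => ?_) (fun x hx hxi => ?_) (hScard ▸ ho124)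
    · obtain ⟨r, -, rfl⟩ := (hmemS x).1 hx
      rw [MulEquiv.orderOf_eq, hv3]
    · obtain ⟨r, hr, rfl⟩ := (hmemS x).1 hx
      obtain ⟨r', hr', e⟩ := (hmemS _).1 hxi
      refine hnr (r⁻¹ * r') (mul_mem (inv_mem hr) hr') ?_
      change r⁻¹ (r' v) = v⁻¹
      rw [e, ← map_inv]
      exact r.symm_apply_apply _
  -- conjugates of `a` in `P`
  have hcoset : ∀ b : P, (∃ g : G, g⁻¹ * a * g = b) ↔ Abelianization.of b ∈ S := by
    intro b
    rw [hmemS, horbit b]
    constructor
    · rintro ⟨g, hg⟩
      have hb : Thin (b : G) := by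
        rw [← hg]; simpa using h.conj g⁻¹
      -- `C_P(b)` has order nine
      have hbP9 : Nat.card ↥((P : Subgroup G) ⊓ centralizer ({(b : G)} : Set G)) = 9 := by
        have pI : IsPGroup 3 ↥((P : Subgroup G) ⊓ centralizer ({(b : G)} : Set G)) :=
          P.isPGroup'.to_le inf_le_left
        obtain ⟨j, hj⟩ := pI.exists_card_eq
        have hbound := hb.bound _ pI inf_le_right
        have hbmem : (b : G) ∈ (P : Subgroup G) ⊓ centralizer ({(b : G)} : Set G) :=
          mem_inf.2 ⟨b.2, mem_centralizer_singleton_iff.2 rfl⟩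
        by_contra hne
        have hIb : (P : Subgroup G) ⊓ centralizer ({(b : G)} : Set G) = zpowers (b : G) := by
          refine (Subgroup.eq_of_le_of_card_ge (zpowers_le.2 hbmem) ?_).symm
          rw [Nat.card_zpowers, hb.ha, hj]
          rw [hj] at hbound hne
          rcases j with _ | _ | _ | j
          · norm_num
          · norm_num
          · exact absurd rfl hne
          · exfalso
            have := Nat.pow_le_pow_right (show 3 > 0 by norm_num) (show 3 ≤ j + 1 + 1 + 1 by omega)
            omega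
        haveI : Nontrivial P := ⟨⟨⟨a, haP⟩, 1, fun e => by
          have := h.ha
          rw [show a = 1 from congrArg Subtype.val e, orderOf_one] at this
          omega⟩⟩
        haveI := P.isPGroup'.center_nontrivial
        obtain ⟨⟨c, hc⟩, hc1⟩ := exists_ne (1 : center P)
        have hcI : (c : G) ∈ (P : Subgroup G) ⊓ centralizer ({(b : G)} : Set G) :=
          mem_inf.2 ⟨c.2, mem_centralizer_singleton_iff.2
            (congrArg Subtype.val (mem_center_iff.1 hc b)).symm⟩
        rw [hIb] at hcI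
        -- so `b` is central, and all of `P` centralises it
        have hbc : (b : P) ∈ center P := by
          obtain ⟨i, hi⟩ := mem_zpowers_iff.1 hcI
          rw [← zpow_mod_orderOf, hb.ha] at hi
          have h0 : 0 ≤ i % (3 : ℕ) := Int.emod_nonneg _ (by norm_num)
          have h3 : i % (3 : ℕ) < 3 := Int.emod_lt_of_pos _ (by norm_num)
          interval_cases hi3 : i % (3 : ℕ)
          · exact absurd (Subtype.ext (Subtype.ext (hi.symm.trans (zpow_zero _)))) hc1
          · rw [show b = c from Subtype.ext ((zpow_one (b : G)).symm.trans hi)]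
            exact hc
          · have e : b = c⁻¹ := by
              refine eq_inv_of_mul_eq_one_left (Subtype.ext ?_)
              rw [coe_mul, ← hi, ← zpow_one_add, coe_one]
              have h33 : (b : G) ^ orderOf (b : G) = 1 := pow_orderOf_eq_one _
              rw [hb.ha] at h33
              exact_mod_cast h33
            rw [e]
            exact inv_mem hc
        have hPle : (P : Subgroup G) ≤ zpowers (b : G) := hIb ▸ le_inf le_rfl fun y hy =>
          mem_centralizer_singleton_iff.2 (congrArg Subtype.val (mem_center_iff.1 hbc ⟨y, hy⟩))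
        have h1 := card_le_of_le ((inf_le_left : (P : Subgroup G) ⊓ Ca ≤ _).trans hPle)
        rw [h9, Nat.card_zpowers, hb.ha] at h1
        omega
      -- move the Sylow subgroup of `C(b)`
      set Cb := centralizer ({(b : G)} : Set G) with hCb
      have hgC : ∀ y ∈ C, g⁻¹ * y * g ∈ Cb := fun y hy => by
        rw [hCb, mem_centralizer_singleton_iff, ← hg]
        calc g⁻¹ * y * g * (g⁻¹ * a * g) = g⁻¹ * (y * a) * g := by group
          _ = g⁻¹ * (a * y) * g := by rw [mem_centralizer_singleton_iff.1 (hCle hy)]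
          _ = g⁻¹ * a * g * (g⁻¹ * y * g) := by group
      set C1 := C.map (MulAut.conj g⁻¹).toMonoidHom with hC1
      have hC1le : C1 ≤ Cb := by
        rintro _ ⟨y, hy, rfl⟩
        simpa [mul_assoc] using hgC y hy
      set C2 := (P : Subgroup G) ⊓ Cb with hC2
      have hsyl : ∀ X : Subgroup G, X ≤ Cb → Nat.card X = 9 →
          ∃ Z : Sylow 3 Cb, (Z : Subgroup Cb) = X.subgroupOf Cb := by
        intro X hX hX9
        have hX' : Nat.card (X.subgroupOf Cb) = 9 := by
          rw [Nat.card_congr (subgroupOfEquivOfLe hX).toEquiv, hX9]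
        obtain ⟨Z, hZ⟩ := (IsPGroup.of_card (p := 3) (n := 2) (hX'.trans (by norm_num))).exists_le_sylow
        refine ⟨Z, (Subgroup.eq_of_le_of_card_ge hZ ?_).symm⟩
        rw [hX', Nat.card_congr ((Z : Subgroup Cb).equivMapOfInjective Cb.subtype
          Cb.subtype_injective).toEquiv]
        exact hb.bound _ (Z.isPGroup'.map _) (map_subtype_le _)
      obtain ⟨Z1, hZ1⟩ := hsyl C1 hC1le (by
        rw [hC1, Subgroup.card_map_of_injective (MulAut.conj g⁻¹).injective, hC9])
      obtain ⟨Z2, hZ2⟩ := hsyl C2 inf_le_right hbP9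
      obtain ⟨c, hc⟩ := MulAction.exists_smul_eq Cb Z1 Z2
      set m := (c : G) * g⁻¹ with hm
      have hCP : ∀ y ∈ C, m * y * m⁻¹ ∈ (P : Subgroup G) := by
        intro y hy
        have h1 : c * ⟨g⁻¹ * y * g, hgC y hy⟩ * c⁻¹ ∈ (Z2 : Subgroup Cb) := by
          rw [← hc, Sylow.coe_subgroup_smul]
          refine ⟨_, ?_, rfl⟩
          rw [hZ1]
          exact mem_subgroupOf.2 ⟨y, hy, by simp [mul_assoc]⟩
        rw [hZ2] at h1
        have h2 := (mem_inf.1 (mem_subgroupOf.1 h1)).1
        rw [hm]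
        simpa [mul_assoc] using h2
      have hmP : m⁻¹ • P = P := (h.sylow_unique hCle hC9 haC P (m⁻¹ • P) hP (fun y hy => by
        rw [Sylow.coe_subgroup_smul]
        exact ⟨m * y * m⁻¹, hCP y hy, by simp [mul_assoc]⟩)).symm
      refine ⟨m, ?_, ?_⟩
      · have := Sylow.smul_eq_iff_mem_normalizer.1 hmP
        simpa using inv_mem this
      · rw [hm]
        calc (c : G) * g⁻¹ * a * ((c : G) * g⁻¹)⁻¹ = (c : G) * (g⁻¹ * a * g) * (c : G)⁻¹ := by
              group
          _ = b := by rw [hg, mem_centralizer_singleton_iff.1 c.2, mul_inv_cancel_right]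
    · rintro ⟨n, -, hn⟩
      exact ⟨n⁻¹, by rw [inv_inv]; exact hn⟩
  -- the transfer
  let f : (P : Subgroup G) →* Abelianization P := Abelianization.of
  let τ : G →* Abelianization P := MonoidHom.transfer f
  have hτ : τ a = 1 := by
    rcases (inferInstance : τ.ker.Normal).eq_bot_or_eq_top with e | e
    · exact absurd ⟨⟨fun p q => (MonoidHom.ker_eq_bot_iff τ).1 e
        (by rw [map_mul, map_mul, mul_comm])⟩⟩ hG
    · exact MonoidHom.mem_ker.1 (e ▸ mem_top a)
  let Pt : Subgroup G := P
  let Fx : Type u := {q : G ⧸ Pt // a • q = q}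
  have hmem : ∀ g : G, a • (g : G ⧸ Pt) = (g : G ⧸ Pt) ↔ g⁻¹ * a * g ∈ Pt := by
    intro g
    rw [show a • (g : G ⧸ Pt) = ((a * g : G) : G ⧸ Pt) from rfl, eq_comm, QuotientGroup.eq,
      mul_assoc]
  let val : Fx → Abelianization P := fun q =>
    f ⟨q.1.out⁻¹ * a * q.1.out, (hmem _).1 (by rw [QuotientGroup.out_eq']; exact q.2)⟩
  haveI : Fintype Fx := Fintype.ofFinite _
  have hval : τ a = ∏ q : Fx, val q := by
    let _ : Fintype (Quotient (MulAction.orbitRel (zpowers a) (G ⧸ Pt))) := Fintype.ofFinite _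
    change MonoidHom.transfer f a = _
    rw [MonoidHom.transfer_eq_prod_quotient_orbitRel_zpowers_quot]
    refine (Finset.prod_of_injOn (fun q : Fx => Quotient.mk _ q.1) ?_ ?_ ?_ ?_).symm
    · intro p _ q _ e
      obtain ⟨⟨y, hy⟩, hyq⟩ := MulAction.orbitRel_apply.1 (Quotient.exact e)
      obtain ⟨i, rfl⟩ := mem_zpowers_iff.1 hy
      refine Subtype.ext (hyq.symm.trans ?_)
      exact MulAction.mem_stabilizer_iff.1 (zpow_mem (MulAction.mem_stabilizer_iff.2 q.2 : a ∈ MulAction.stabilizer G q.1) i)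
    · intro q _; exact Finset.mem_coe.2 (Finset.mem_univ _)
    · intro q _ hq
      -- an orbit of length three
      have hnot : ¬ a • q.out = q.out := fun e =>
        hq ⟨⟨q.out, e⟩, Finset.mem_univ _, Quotient.out_eq q⟩
      have hper : Function.minimalPeriod (a • ·) q.out = 3 := by
        have hd : Function.minimalPeriod (a • ·) q.out ∣ 3 := by
          apply Function.IsPeriodicPt.minimalPeriod_dvd
          change ((a • ·)^[3]) q.out = q.out
          rw [smul_iterate]
          change a ^ 3 • q.out = q.out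
          rw [show a ^ 3 = 1 from h.ha ▸ pow_orderOf_eq_one a, one_smul]
        rcases (Nat.dvd_prime Nat.prime_three).1 hd with e | e
        · exact absurd (Function.minimalPeriod_eq_one_iff_isFixedPt.1 e) hnot
        · exact e
      refine (congrArg f (Subtype.ext ?_ : _ = (1 : P))).trans (map_one f)
      change q.out.out⁻¹ * a ^ _ * q.out.out = 1
      rw [hper, show a ^ 3 = 1 from h.ha ▸ pow_orderOf_eq_one a, mul_one, inv_mul_cancel]
    · intro q _
      -- an orbit of length one
      have hout : (Quotient.mk (MulAction.orbitRel (zpowers a) (G ⧸ Pt)) q.1).out = q.1 := by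
        obtain ⟨⟨y, hy⟩, hyq⟩ := MulAction.orbitRel_apply.1
          (Quotient.exact (Quotient.out_eq (Quotient.mk (MulAction.orbitRel (zpowers a) (G ⧸ Pt)) q.1)))
        obtain ⟨i, rfl⟩ := mem_zpowers_iff.1 hy
        exact hyq.symm.trans (MulAction.mem_stabilizer_iff.1 (zpow_mem (MulAction.mem_stabilizer_iff.2 q.2 : a ∈ MulAction.stabilizer G q.1) i))
      have hper : Function.minimalPeriod (a • ·) q.1 = 1 :=
        Function.minimalPeriod_eq_one_iff_isFixedPt.2 q.2
      refine congrArg f (Subtype.ext ?_)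
      erw [hout]
      change q.1.out⁻¹ * a * q.1.out = q.1.out⁻¹ * a ^ Function.minimalPeriod (a • ·) q.1 * q.1.out
      rw [hper, pow_one]
  -- each value in the orbit occurs equally often
  let nC := Nat.card Ca
  have hcount : ∀ x : Abelianization P,
      (Finset.univ.filter fun q : Fx => val q = x).card * 9 = if x ∈ S then nC else 0 := by
    intro x
    let X := {g : G // ∃ hg : g⁻¹ * a * g ∈ Pt, f ⟨_, hg⟩ = x}
    let T : Set (G ⧸ Pt) := {q | ∃ hq : a • q = q, val ⟨q, hq⟩ = x}
    have e1 : Nat.card X = Nat.card Pt * Nat.card T := by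
      rw [← Nat.card_prod, ← Nat.card_congr (QuotientGroup.preimageMkEquivSubgroupProdSet Pt T)]
      refine Nat.card_congr (Equiv.subtypeEquivRight fun g => ?_)
      change _ ↔ ∃ hq : a • (g : G ⧸ Pt) = (g : G ⧸ Pt), val ⟨_, hq⟩ = x
      obtain ⟨p, hp⟩ : ∃ p : Pt, g * (p : G) = (g : G ⧸ Pt).out := by
        obtain ⟨p, hp⟩ := QuotientGroup.mk_out_eq_mul Pt g
        exact ⟨p, hp.symm⟩
      have key : ∀ (hg : g⁻¹ * a * g ∈ Pt) (hq : a • (g : G ⧸ Pt) = (g : G ⧸ Pt)),
          val ⟨_, hq⟩ = f ⟨_, hg⟩ := by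
        intro hg hq
        have e : (⟨(g : G ⧸ Pt).out⁻¹ * a * (g : G ⧸ Pt).out,
            (hmem _).1 (by rw [QuotientGroup.out_eq']; exact hq)⟩ : P) =
            p⁻¹ * ⟨_, hg⟩ * p := Subtype.ext (by
              change (g : G ⧸ Pt).out⁻¹ * a * (g : G ⧸ Pt).out = (p : G)⁻¹ * (g⁻¹ * a * g) * (p : G)
              rw [← hp]
              group)
        change f _ = f _
        rw [e, map_mul, map_mul, map_inv, mul_right_comm, inv_mul_cancel, one_mul]
      exact ⟨fun ⟨hg, e⟩ => ⟨(hmem g).2 hg, (key hg _).trans e⟩,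
        fun ⟨hq, e⟩ => ⟨(hmem g).1 hq, (key _ hq).symm.trans e⟩⟩
    have eT : Nat.card T = (Finset.univ.filter fun q : Fx => val q = x).card := by
      rw [← Fintype.card_subtype, ← Nat.card_eq_fintype_card]
      exact Nat.card_congr
        { toFun := fun q => ⟨⟨q.1, q.2.1⟩, q.2.2⟩
          invFun := fun q => ⟨q.1.1, q.1.2, q.2⟩
          left_inv := fun _ => rfl
          right_inv := fun _ => rfl }
    have e2 : Nat.card X * 9 = (if x ∈ S then nC else 0) * Nat.card Pt := by
      by_cases hx : x ∈ S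
      · rw [if_pos hx]
        -- `X` is a union of `|P'|` right cosets of `C(a)`
        let F := {b : P // f b = x}
        have hF : Nat.card F * 9 = Nat.card Pt := by
          obtain ⟨b0, hb0⟩ : ∃ b, f b = x := QuotientGroup.mk_surjective x
          rw [Nat.card_congr (show F ≃ commutator P from
            { toFun := fun b => ⟨b0⁻¹ * b.1, by
                rw [← Abelianization.ker_of, MonoidHom.mem_ker, map_mul, map_inv]
                change (f b0)⁻¹ * f b.1 = 1
                rw [b.2, hb0, inv_mul_cancel]⟩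
              invFun := fun c => ⟨b0 * c.1, by
                have hc : Abelianization.of c.1 = 1 := by
                  rw [← MonoidHom.mem_ker, Abelianization.ker_of]; exact c.2
                rw [map_mul, hb0]
                exact (congrArg (x * ·) hc).trans (mul_one x)⟩
              left_inv := fun b => Subtype.ext (by simp)
              right_inv := fun c => Subtype.ext (by simp) }), ← hA]
          change Nat.card (commutator P) * Nat.card (↥Pt ⧸ commutator P) = _
          rw [← Subgroup.index_eq_card, Subgroup.card_mul_index]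
        let φ : X → F := fun g => ⟨⟨g.1⁻¹ * a * g.1, g.2.1⟩, g.2.2⟩
        have hfib : ∀ b : F, Nat.card {g : X // φ g = b} = nC := by
          intro b
          obtain ⟨g0, hg0⟩ := (hcoset b.1).2 (by
            have : f b.1 = x := b.2
            change f b.1 ∈ S
            rw [this]; exact hx)
          refine Nat.card_congr
            { toFun := fun g => ⟨g.1.1 * g0⁻¹, by
                have e : g.1.1⁻¹ * a * g.1.1 = g0⁻¹ * a * g0 :=
                  (congrArg (fun t : F => ((t.1 : P) : G)) g.2).trans hg0.symm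
                rw [hCa, mem_centralizer_singleton_iff]
                calc g.1.1 * g0⁻¹ * a = g.1.1 * (g0⁻¹ * a * g0) * g0⁻¹ := by group
                  _ = g.1.1 * (g.1.1⁻¹ * a * g.1.1) * g0⁻¹ := by rw [e]
                  _ = a * (g.1.1 * g0⁻¹) := by group⟩
              invFun := fun c => ?_
              left_inv := ?_
              right_inv := ?_ }
          · have e : ((c : G) * g0)⁻¹ * a * ((c : G) * g0) = b.1 := by
              rw [← hg0]
              calc ((c : G) * g0)⁻¹ * a * ((c : G) * g0) = g0⁻¹ * ((c : G)⁻¹ * (a * c)) * g0 := by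
                    group
                _ = g0⁻¹ * ((c : G)⁻¹ * (c * a)) * g0 := by
                    rw [mem_centralizer_singleton_iff.1 c.2]
                _ = g0⁻¹ * a * g0 := by group
            refine ⟨⟨(c : G) * g0, e.symm ▸ b.1.2, ?_⟩, ?_⟩
            · refine (congrArg f (Subtype.ext e)).trans b.2
            · exact Subtype.ext (Subtype.ext e)
          · exact fun g => Subtype.ext (Subtype.ext (inv_mul_cancel_right g.1.1 g0))
          · exact fun c => Subtype.ext (mul_inv_cancel_right (c : G) g0)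
        haveI : Fintype F := Fintype.ofFinite _
        rw [← Nat.card_congr (Equiv.sigmaFiberEquiv φ), Nat.card_sigma,
          Finset.sum_congr rfl (fun b _ => hfib b), Finset.sum_const, Finset.card_univ,
          smul_eq_mul, ← Nat.card_eq_fintype_card, ← hF]
        ring
      · rw [if_neg hx, zero_mul]
        haveI : IsEmpty X := ⟨fun ⟨g, hg, e⟩ => hx (e ▸ (hcoset ⟨_, hg⟩).1 ⟨g, rfl⟩)⟩
        rw [Nat.card_of_isEmpty, zero_mul]
    rw [e1, eT] at e2
    refine Nat.eq_of_mul_eq_mul_left (show 0 < Nat.card Pt from Nat.card_pos) ?_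
    rw [← mul_assoc, e2, mul_comm]
  -- the common multiplicity is prime to three
  obtain ⟨m, hm⟩ : 9 ∣ nC := hC9 ▸ card_dvd_of_le hCle
  have hm3 : ¬ 3 ∣ m := by
    rintro ⟨c, rfl⟩
    have hd : 3 ^ 3 ∣ Nat.card Ca := ⟨c, by rw [show Nat.card Ca = nC from rfl, hm]; ring⟩
    obtain ⟨R, hR⟩ := Sylow.exists_subgroup_card_pow_prime 3 hd
    have := h.bound (R.map Ca.subtype)
      ((IsPGroup.of_card hR).map _) (map_subtype_le _)
    rw [Subgroup.card_map_of_injective Ca.subtype_injective, hR] at this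
    norm_num at this
  have hpow : ∏ q : Fx, val q = (∏ x ∈ S, x) ^ m := by
    haveI : Fintype (Abelianization P) := Fintype.ofFinite _
    rw [← Finset.prod_fiberwise_of_maps_to (g := val) (t := Finset.univ)
      (fun q _ => Finset.mem_univ _)]
    rw [← Finset.prod_pow, ← Finset.prod_subset (Finset.subset_univ S) (fun x _ hx => ?_)]
    · refine Finset.prod_congr rfl fun x hx => ?_
      have hc := hcount x
      rw [if_pos hx, hm] at hc
      rw [Finset.prod_congr rfl (g := fun _ => x) (fun q hq => (Finset.mem_filter.1 hq).2),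
        Finset.prod_const]
      congr 1
      omega
    · have hc := hcount x
      rw [if_neg hx] at hc
      rw [Finset.card_eq_zero.1 (by omega : (Finset.univ.filter fun q : Fx => val q = x).card = 0),
        Finset.prod_empty]
  have hcop : Nat.Coprime m (orderOf (∏ x ∈ S, x)) := by
    have h9' : orderOf (∏ x ∈ S, x) ∣ 3 ^ 2 := by
      have := orderOf_dvd_natCard (∏ x ∈ S, x)
      rwa [hA] at this
    exact Nat.Coprime.coprime_dvd_right h9'
      (((Nat.Prime.coprime_iff_not_dvd Nat.prime_three).2 hm3).symm.pow_right 2)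
  have h1 : (∏ x ∈ S, x) ^ m = 1 := by rw [← hpow, ← hval, hτ]
  have h2 := Nat.Coprime.eq_one_of_dvd hcop.symm (orderOf_dvd_of_pow_eq_one h1)
  exact hprod (orderOf_eq_one_iff.1 h2)

end CfsgLib.InvChar.LThreeFourAut
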