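import Cfsg.Agent.Lib.InvChar.LThreeFourAut.Fusion
import Cfsg.Agent.Lib.InvChar.LThreeFourAut.ThreeFour
import Cfsg.Agent.Lib.InvChar.LThreeFourAut.ThreeFusion

/-!
A simple group has no involution centraliser of the shape `T⟨a⟩` of order 192 (statement 3237):
the element `a` would survive in a transfer.
-/

set_option autoImplicit false

namespace CfsgLib.InvChar.LThreeFourAut

open Subgroup

universe u

variable {G : Type u} [Group G] [Finite G] {z : G} {U T A B D : Subgroup G} {a : G}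

namespace TThree

variable (S : TThree z U T A B D a)
include S

theorem a3 : a ^ 3 = 1 := S.orderA ▸ pow_orderOf_eq_one a

theorem a_notMem : a ∉ T := fun h => by
  have := Subgroup.orderOf_dvd_natCard _ h
  rw [S.orderA, S.cardT] at this
  norm_num at this

/-- The elements of `D`. -/
theorem exists_decomp {d : G} (hd : d ∈ D) : ∃ t ∈ T, ∃ i : ℕ, d = t * a ^ i := by
  classical
  let f : T × Fin 3 → D := fun p => ⟨p.1 * a ^ (p.2 : ℕ), mul_mem (S.hTD p.1.2) (pow_mem S.ha _)⟩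
  have hf : Function.Injective f := by
    rintro ⟨t, i⟩ ⟨t', j⟩ e
    have e' : (t : G) * a ^ (i : ℕ) = (t' : G) * a ^ (j : ℕ) := congrArg Subtype.val e
    have key : ∀ (p q : T) (m n : ℕ), m ≤ n → n < 3 → (p : G) * a ^ m = (q : G) * a ^ n → m = n := by
      intro p q m n hmn hn e1
      by_contra hne
      have hmem : a ^ (n - m) ∈ T := by
        have : a ^ (n - m) = (q : G)⁻¹ * p := by
          refine mul_right_cancel (b := a ^ m) ?_
          rw [← pow_add, Nat.sub_add_cancel hmn, mul_assoc, e1, inv_mul_cancel_left]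
        rw [this]
        exact mul_mem (inv_mem q.2) p.2
      have h12 : n - m = 1 ∨ n - m = 2 := by omega
      rcases h12 with e2 | e2 <;> rw [e2] at hmem
      · exact S.a_notMem (by simpa using hmem)
      · refine S.a_notMem ?_
        have := inv_mem hmem
        rwa [show (a ^ 2)⁻¹ = a from inv_eq_of_mul_eq_one_right (by rw [← pow_succ]; exact S.a3)] at this
    have hij : (i : ℕ) = j := by
      rcases le_total (i : ℕ) j with h | h
      · exact key t t' i j h j.2 e'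
      · exact (key t' t j i h i.2 e'.symm).symm
    obtain rfl := Fin.ext hij
    exact Prod.ext (Subtype.ext (mul_right_cancel e')) rfl
  have hb := (Nat.bijective_iff_injective_and_card f).2 ⟨hf, by
    rw [Nat.card_prod, Nat.card_fin, S.cardT, S.cardD]⟩
  obtain ⟨⟨t, i⟩, e⟩ := hb.2 ⟨d, hd⟩
  exact ⟨t, t.2, i, (congrArg Subtype.val e).symm⟩

theorem commD {d v : G} (hd : d ∈ D) (hv : v ∈ U) : d * v = v * d := by
  obtain ⟨t, ht, i, rfl⟩ := S.exists_decomp hd
  have h1 : Commute (a ^ i) v := (show Commute a v from S.aU v hv).pow_left i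
  calc t * a ^ i * v = t * (a ^ i * v) := mul_assoc _ _ _
    _ = t * v * a ^ i := by rw [h1.eq, mul_assoc]
    _ = v * (t * a ^ i) := by rw [S.commU v hv t ht, mul_assoc]

theorem cz_eq {v : G} (hv : v ∈ U) (hv1 : v ≠ 1) : cz v = D := by
  refine (Subgroup.eq_of_le_of_card_ge (fun d hd => mem_cz.2 (S.commD hd hv)) ?_).symm
  obtain ⟨g, rfl⟩ := isConj_iff.1 (S.conjU v hv hv1)
  have h := card_cz_inf g z z
  rw [inf_idem, inf_idem, S.hD] at h
  rw [h]

/-- The centraliser of `a` in `D`. -/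
theorem mem_of_commute {d : G} (hd : d ∈ D) (h : d * a = a * d) :
    ∃ u ∈ U, ∃ i : ℕ, d = u * a ^ i := by
  obtain ⟨t, ht, i, rfl⟩ := S.exists_decomp hd
  refine ⟨t, S.afix t ht ?_, i, rfl⟩
  refine mul_right_cancel (b := a ^ i) ?_
  calc a * t * a ^ i = a * (t * a ^ i) := mul_assoc _ _ _
    _ = t * a ^ i * a := h.symm
    _ = t * a * a ^ i := by rw [mul_assoc, mul_assoc, ← pow_succ, pow_succ']

theorem eU' : ∀ u ∈ U, u * u = 1 := S.toTwoSixteen.eU

theorem z_ne : z ≠ 1 := fun h => by simpa [h] using S.hz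

/-- The normaliser of `U` normalises `T`. -/
theorem normalises_T {g : G} (hg : g ∈ normalizer (U : Set G)) :
    ∀ t ∈ T, g * t * g⁻¹ ∈ T := by
  intro t ht
  have hv : g * z * g⁻¹ ∈ U := (mem_normalizer_iff.1 hg z).1 S.zU
  have hgD : g * t * g⁻¹ ∈ D := by
    rw [← S.cz_eq hv fun e => S.z_ne (conj_eq_one_iff.1 e)]
    exact conj_mem_cz g (S.hD.symm ▸ S.hTD ht)
  haveI : (T.subgroupOf D).Normal :=
    ⟨fun t ht d => mem_subgroupOf.2 (S.nT d d.2 t (mem_subgroupOf.1 ht))⟩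
  have hi : (T.subgroupOf D).index = 3 := by
    have h1 := Subgroup.card_mul_index (T.subgroupOf D)
    rw [Nat.card_congr (subgroupOfEquivOfLe S.hTD).toEquiv, S.cardT, S.cardD] at h1
    omega
  have h3 := (T.subgroupOf D).pow_index_mem ⟨_, hgD⟩
  rw [hi, mem_subgroupOf, coe_pow] at h3
  have hc : Nat.Coprime 3 (orderOf (g * t * g⁻¹)) := by
    rw [show g * t * g⁻¹ = MulAut.conj g t from rfl, MulEquiv.orderOf_eq]
    refine Nat.Coprime.coprime_dvd_right (Subgroup.orderOf_dvd_natCard _ ht) ?_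
    rw [S.cardT]; norm_num
  obtain ⟨k, hk⟩ := exists_pow_eq_self_of_coprime hc
  exact hk ▸ pow_mem h3 k

/-- A power of two in the normaliser of `T` lies in `T`. -/
theorem mem_T_of_two {n : G} (hn : ∀ t ∈ T, n * t * n⁻¹ ∈ T) (h2 : ∃ k, orderOf n = 2 ^ k) :
    n ∈ T := by
  haveI : Fact (Nat.Prime 2) := ⟨Nat.prime_two⟩
  obtain ⟨k, hk⟩ := h2
  have hN : n ∈ normalizer (T : Set G) := mem_normalizer_fintype hn
  have pR : IsPGroup 2 ↥(T ⊔ zpowers n) :=
    IsPGroup.to_sup_of_normal_left' (IsPGroup.of_card (n := 6) (by rw [S.cardT]; rfl))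
      (IsPGroup.of_card (n := k) (by rw [Nat.card_zpowers, hk])) (zpowers_le.2 hN)
  obtain ⟨j, hj⟩ := pR.exists_card_eq
  have hidx : T.relIndex (T ⊔ zpowers n) = 1 := by
    have hd : T.relIndex (T ⊔ zpowers n) ∣ 2 ^ j := hj ▸ relIndex_dvd_card _ _
    obtain ⟨i, -, hi⟩ := (Nat.dvd_prime_pow Nat.prime_two).1 hd
    rcases i with _ | i
    · simpa using hi
    · exfalso
      refine S.odd_index (dvd_trans ?_ (relIndex_dvd_index_of_le (le_sup_left : T ≤ T ⊔ zpowers n)))
      rw [hi, pow_succ]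
      exact dvd_mul_left _ _
  exact relIndex_eq_one.1 hidx ((le_sup_right : zpowers n ≤ _) (mem_zpowers n))

/-- `U` is a Sylow subgroup of `C(a)`. -/
theorem exists_sylow_U (hUC : U ≤ cz a) :
    ∃ P : Sylow 2 (cz a), (P : Subgroup (cz a)) = U.subgroupOf (cz a) := by
  haveI : Fact (Nat.Prime 2) := ⟨Nat.prime_two⟩
  have hU4 : Nat.card (U.subgroupOf (cz a)) = 4 := by
    rw [Nat.card_congr (subgroupOfEquivOfLe hUC).toEquiv, S.cardU]
  obtain ⟨P, hP⟩ := (IsPGroup.of_card (p := 2) (n := 2) (hU4.trans (by norm_num))).exists_le_sylow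
  refine ⟨P, le_antisymm ?_ hP⟩
  by_contra hne
  have hlt : (U.subgroupOf (cz a)).subgroupOf (P : Subgroup (cz a)) < ⊤ :=
    lt_top_iff_ne_top.2 fun e => hne (subgroupOf_eq_top.1 e)
  haveI : Group.IsNilpotent P := P.isPGroup'.isNilpotent
  obtain ⟨n, hn, hnU⟩ := SetLike.exists_of_lt
    (Group.normalizerCondition_of_isNilpotent (G := P) _ hlt)
  have hnN : ((n : cz a) : G) ∈ normalizer (U : Set G) := mem_normalizer_fintype fun y hy =>
    mem_subgroupOf.1 (mem_subgroupOf.1 ((mem_normalizer_iff.1 hn ⟨⟨y, hUC hy⟩,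
      hP (mem_subgroupOf.2 hy)⟩).1 (mem_subgroupOf.2 (mem_subgroupOf.2 hy))))
  have hnT : ((n : cz a) : G) ∈ T := by
    obtain ⟨k, hk⟩ := IsPGroup.iff_orderOf.1 P.isPGroup' n
    exact S.mem_T_of_two (S.normalises_T hnN) ⟨k, by rw [Subgroup.orderOf_coe, Subgroup.orderOf_coe, hk]⟩
  exact hnU (mem_subgroupOf.2 (mem_subgroupOf.2
    (S.afix _ hnT (mem_cz.1 (n : cz a).2).symm)))

theorem not_real (g : G) : g * a * g⁻¹ ≠ a⁻¹ := by
  intro e
  haveI : Fact (Nat.Prime 2) := ⟨Nat.prime_two⟩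
  have hUC : U ≤ cz a := fun u hu => mem_cz.2 (S.aU u hu).symm
  obtain ⟨P, hP⟩ := S.exists_sylow_U hUC
  have hgC : ∀ y ∈ cz a, g * y * g⁻¹ ∈ cz a := fun y hy => by
    have := conj_mem_cz g hy
    rw [e] at this
    rw [mem_cz] at this ⊢
    exact (show Commute (g * y * g⁻¹) a⁻¹ from this).inv_right.eq |> fun h => by simpa using h
  let E := (U.map (MulAut.conj g).toMonoidHom)
  have hEC : E ≤ cz a := by
    rintro _ ⟨y, hy, rfl⟩
    exact hgC y (hUC hy)
  have hE4 : Nat.card (E.subgroupOf (cz a)) = 4 := by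
    rw [Nat.card_congr (subgroupOfEquivOfLe hEC).toEquiv, card_map_conj', S.cardU]
  obtain ⟨R, hR⟩ := (IsPGroup.of_card (p := 2) (n := 2) (hE4.trans (by norm_num))).exists_le_sylow
  obtain ⟨c, hc⟩ := MulAction.exists_smul_eq (cz a) R P
  set n := (c : G) * g with hn
  have hnN : n ∈ normalizer (U : Set G) := mem_normalizer_fintype fun y hy => by
    have h1 : c * ⟨g * y * g⁻¹, hgC y (hUC hy)⟩ * c⁻¹ ∈ (P : Subgroup (cz a)) := by
      rw [← hc, Sylow.coe_subgroup_smul]
      exact ⟨_, hR (mem_subgroupOf.2 ⟨y, hy, rfl⟩), rfl⟩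
    rw [hP] at h1
    have h2 := mem_subgroupOf.1 h1
    change (c : G) * (g * y * g⁻¹) * (c : G)⁻¹ ∈ U at h2
    rw [hn]
    simpa [mul_assoc] using h2
  have hna : n * a * n⁻¹ = a⁻¹ := by
    rw [hn, show (c : G) * g * a * ((c : G) * g)⁻¹ = (c : G) * (g * a * g⁻¹) * (c : G)⁻¹ by group, e]
    have hca : Commute (c : G) a := mem_cz.1 c.2
    rw [hca.inv_right.eq, mul_inv_cancel_right]
  -- an odd power of `n` lies in `T`
  obtain ⟨k, r, hr2, hr⟩ := Nat.exists_eq_pow_mul_and_not_dvd (orderOf_pos n).ne' 2 (by norm_num)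
  have hnT : n ^ r ∈ T := by
    refine S.mem_T_of_two (S.normalises_T (pow_mem hnN r)) ?_
    obtain ⟨j, -, hj⟩ := (Nat.dvd_prime_pow (m := k) Nat.prime_two).1
      (orderOf_dvd_of_pow_eq_one (x := n ^ r) (n := 2 ^ k) (by
        rw [← pow_mul, mul_comm, ← hr, pow_orderOf_eq_one]))
    exact ⟨j, hj⟩
  have hpow : ∀ m : ℕ, n ^ (2 * m + 1) * a * (n ^ (2 * m + 1))⁻¹ = a⁻¹ := by
    intro m
    induction m with
    | zero => simpa using hna
    | succ m ih =>
      rw [show 2 * (m + 1) + 1 = 2 + (2 * m + 1) by ring, pow_add]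
      generalize n ^ (2 * m + 1) = q at ih ⊢
      calc n ^ 2 * q * a * (n ^ 2 * q)⁻¹ = n * (n * (q * a * q⁻¹) * n⁻¹) * n⁻¹ := by
            rw [pow_two]; group
        _ = n * (n * a * n⁻¹)⁻¹ * n⁻¹ := by rw [ih]; group
        _ = n * a * n⁻¹ := by rw [hna, inv_inv]; exact hna
        _ = a⁻¹ := hna
  obtain ⟨m, hm⟩ : ∃ m, r = 2 * m + 1 := ⟨r / 2, by omega⟩
  have hta := hpow m
  rw [← hm] at hta
  set t := n ^ r
  have hmem : a ∈ T := by
    have h1 : t * (a * t⁻¹ * a⁻¹) ∈ T := mul_mem hnT (S.nT a S.ha _ (inv_mem hnT))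
    rwa [show t * (a * t⁻¹ * a⁻¹) = t * a * t⁻¹ * a⁻¹ by group, hta,
      show a⁻¹ * a⁻¹ = a from by
        rw [← mul_inv_rev, inv_eq_iff_mul_eq_one, mul_assoc, ← pow_three]
        simpa using S.a3] at h1
  exact S.a_notMem hmem

/-- The element `a` satisfies the hypotheses of the transfer. -/
theorem thin : Thin a := by
  classical
  have hUC : U ≤ cz a := fun u hu => mem_cz.2 (S.aU u hu).symm
  haveI : ((zpowers a).subgroupOf (cz a)).Normal := ⟨fun x hx y => by
    obtain ⟨i, hi⟩ := mem_zpowers_iff.1 (mem_subgroupOf.1 hx)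
    refine mem_subgroupOf.2 (mem_zpowers_iff.2 ⟨i, ?_⟩)
    rw [coe_mul, coe_mul, coe_inv, ← hi,
      ((show Commute (y : G) a from mem_cz.1 y.2).zpow_right i).eq, mul_inv_cancel_right]⟩
  set Z := (zpowers a).subgroupOf (cz a) with hZ
  let π : cz a →* cz a ⧸ Z := QuotientGroup.mk' Z
  let V : Subgroup (cz a ⧸ Z) := (U.subgroupOf (cz a)).map π
  have hzero : ∀ u ∈ U, ∀ i : ℕ, (u * a ^ i) * (u * a ^ i) = 1 → a ^ i = 1 := by
    intro u hu i h
    have hc : Commute (a ^ i) u := (show Commute a u from S.aU u hu).pow_left i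
    rw [mul_assoc, ← mul_assoc (a ^ i), hc.eq, mul_assoc u (a ^ i), ← mul_assoc u, S.eU' u hu,
      one_mul, ← pow_add] at h
    have hd := orderOf_dvd_of_pow_eq_one h
    rw [S.orderA] at hd
    obtain ⟨j, hj⟩ := (show 3 ∣ i by omega)
    rw [hj, pow_mul, S.a3, one_pow]
  have hinj : ∀ u ∈ U, u ∈ zpowers a → u = 1 := by
    intro u hu h
    have h1 : orderOf u ∣ 3 := S.orderA ▸ (Nat.card_zpowers a ▸ Subgroup.orderOf_dvd_natCard _ h)
    have h2 : orderOf u ∣ 2 := orderOf_dvd_of_pow_eq_one ((pow_two u).trans (S.eU' u hu))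
    exact orderOf_eq_one_iff.1 (Nat.eq_one_of_dvd_coprimes (by norm_num : Nat.Coprime 3 2) h1 h2)
  have hV4 : Nat.card V = 4 := by
    have hi : Function.Injective (π.subgroupMap (U.subgroupOf (cz a))) := by
      rw [injective_iff_map_eq_one]
      intro x hx
      have h1 : ((x : cz a) : G) ∈ zpowers a :=
        mem_subgroupOf.1 ((QuotientGroup.eq_one_iff _).1 (congrArg Subtype.val hx))
      exact Subtype.ext (Subtype.ext (hinj _ (mem_subgroupOf.1 x.2) h1))
    rw [← Nat.card_congr (Equiv.ofBijective _ ⟨hi, π.subgroupMap_surjective _⟩),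
      Nat.card_congr (subgroupOfEquivOfLe hUC).toEquiv, S.cardU]
  have hV2 : ∀ v ∈ V, v * v = 1 := by
    rintro _ ⟨x, hx, rfl⟩
    rw [← map_mul, show x * x = 1 from Subtype.ext (S.eU' _ (mem_subgroupOf.1 hx)), map_one]
  have hVc : ∀ v ∈ V, v ≠ 1 → centralizer ({v} : Set (cz a ⧸ Z)) = V := by
    rintro _ ⟨x, hx, rfl⟩ hne
    have hxU := mem_subgroupOf.1 hx
    have hx1 : (x : G) ≠ 1 := fun e => hne (by rw [show x = 1 from Subtype.ext e, map_one])
    refine le_antisymm (fun q hq => ?_) ?_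
    · obtain ⟨y, rfl⟩ : ∃ y, π y = q := QuotientGroup.mk'_surjective Z q
      have h1 := mem_centralizer_singleton_iff.1 hq
      rw [← map_mul, ← map_mul, eq_comm] at h1
      have h2 := QuotientGroup.eq.1 h1
      rw [hZ, mem_subgroupOf, coe_mul, coe_inv, coe_mul, coe_mul] at h2
      obtain ⟨i, hi'⟩ := mem_zpowers_iff.1 h2
      obtain ⟨j, hj⟩ : ∃ j : ℕ, ((x : G) * y)⁻¹ * (y * x) = a ^ j :=
        ⟨(i % (orderOf a : ℤ)).toNat, by
          rw [← hi', ← zpow_natCast, Int.toNat_of_nonneg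
            (Int.emod_nonneg _ (Int.natCast_ne_zero.2 (orderOf_pos a).ne')), zpow_mod_orderOf]⟩
      have hyc : Commute (y : G) (a ^ j) := (show Commute (y : G) a from mem_cz.1 y.2).pow_right j
      -- `y x y⁻¹ = x a^j` is an involution
      have hconj : (y : G) * x * (y : G)⁻¹ = x * a ^ j := by
        calc (y : G) * x * (y : G)⁻¹ = (x : G) * y * (((x : G) * y)⁻¹ * (y * x)) * (y : G)⁻¹ := by
              group
          _ = x * (y * a ^ j) * (y : G)⁻¹ := by rw [hj]; group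
          _ = x * a ^ j := by rw [hyc.eq]; group
      have hj1 : a ^ j = 1 := hzero _ hxU j (by
        rw [← hconj, show (y : G) * x * (y : G)⁻¹ * ((y : G) * x * (y : G)⁻¹) =
          y * ((x : G) * x) * (y : G)⁻¹ by group, S.eU' _ hxU, mul_one, mul_inv_cancel])
      rw [hj1, mul_one] at hconj
      have hyD : (y : G) ∈ D := by
        rw [← S.cz_eq hxU hx1]
        exact mem_cz.2 (mul_inv_eq_iff_eq_mul.1 hconj)
      obtain ⟨u, hu, k, hk⟩ := S.mem_of_commute hyD (mem_cz.1 y.2)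
      refine ⟨⟨u, hUC hu⟩, mem_subgroupOf.2 hu, QuotientGroup.eq.2 ?_⟩
      rw [hZ, mem_subgroupOf, coe_mul, coe_inv, hk]
      change (u⁻¹ * (u * a ^ k)) ∈ zpowers a
      rw [inv_mul_cancel_left]
      exact npow_mem_zpowers a k
    · rintro _ ⟨y, hy, rfl⟩
      rw [mem_centralizer_singleton_iff, ← map_mul, ← map_mul]
      exact congrArg π (Subtype.ext (S.commU _ hxU _ (S.toTwoSixteen.hUT (mem_subgroupOf.1 hy))))
  obtain ⟨h9, hself⟩ := four_three hV4 hV2 hVc
  have hZ3 : Nat.card Z = 3 := by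
    rw [hZ, Nat.card_congr (subgroupOfEquivOfLe (zpowers_le.2 (mem_cz.2 rfl))).toEquiv,
      Nat.card_zpowers, S.orderA]
  refine ⟨S.orderA, S.not_real, fun Q pQ hQ => ?_, fun x w hx hw hwx hxz hx3 hw3 => ?_⟩
  · haveI : Fact (Nat.Prime 3) := ⟨Nat.prime_three⟩
    obtain ⟨k, hk⟩ := pQ.exists_card_eq
    rw [hk]
    by_contra hlt
    have hk3 : 3 ≤ k := by
      by_contra hk3
      exact hlt ((Nat.pow_le_pow_right (by norm_num) (show k ≤ 2 by omega)).trans (by norm_num))
    have h27 : 27 ∣ Nat.card (cz a) :=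
      ((show (27 : ℕ) = 3 ^ 3 by norm_num) ▸ Nat.pow_dvd_pow 3 hk3).trans (hk ▸ card_dvd_of_le hQ)
    rw [← Subgroup.card_mul_index Z, hZ3, Subgroup.index_eq_card] at h27
    exact h9 (Nat.dvd_of_mul_dvd_mul_left (show 0 < 3 by norm_num) (by
      rw [show 3 * 9 = 27 by norm_num]; exact h27))
  · let X : cz a := ⟨x, mem_cz.2 hx⟩
    let W : cz a := ⟨w, mem_cz.2 hw⟩
    have hX1 : π X ≠ 1 := fun e => hxz (mem_subgroupOf.1 ((QuotientGroup.eq_one_iff _).1 e))
    have hdX : orderOf (π X) ∣ orderOf x :=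
      (orderOf_map_dvd π X).trans (dvd_of_eq (Subgroup.orderOf_mk _ _))
    obtain ⟨k, hk⟩ := hx3
    rw [hk] at hdX
    obtain ⟨j, -, hj⟩ := (Nat.dvd_prime_pow Nat.prime_three).1 hdX
    have hXo : orderOf (π X) = 3 := by
      rcases j with _ | _ | j
      · exact absurd (orderOf_eq_one_iff.1 (by simpa using hj)) hX1
      · simpa using hj
      · exfalso
        refine h9 ((Dvd.intro_left (3 ^ j) ?_).trans (orderOf_dvd_natCard (π X)))
        rw [hj, pow_succ, pow_succ, mul_assoc]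
        norm_num
    have hWo : (orderOf (π W)).Coprime 3 :=
      Nat.Coprime.coprime_dvd_left
        ((orderOf_map_dvd π W).trans (dvd_of_eq (Subgroup.orderOf_mk _ _))) hw3
    have hW1 := hself (π X) (π W) hXo (by
      rw [← map_mul, ← map_mul]; exact congrArg π (Subtype.ext hwx)) hWo
    have hwa : w ∈ zpowers a := mem_subgroupOf.1 ((QuotientGroup.eq_one_iff _).1 hW1)
    exact orderOf_eq_one_iff.1 (Nat.eq_one_of_dvd_coprimes hw3 dvd_rfl
      (S.orderA ▸ (Nat.card_zpowers a ▸ Subgroup.orderOf_dvd_natCard _ hwa)))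

/-- No simple group has such a centraliser. -/
protected theorem false [IsSimpleGroup G] (hG : ¬ IsMulCommutative G) : False :=
  S.thin.false hG

end TThree

end CfsgLib.InvChar.LThreeFourAut
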