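import Mathlib.GroupTheory.GroupAction.Quotient
import Mathlib.GroupTheory.OrderOfElement
import Mathlib.Algebra.BigOperators.Group.Finset.Basic
import Mathlib.Data.Set.Card
import Mathlib.GroupTheory.Sylow
import Mathlib.Tactic

/-!
Automorphisms of an abelian group of order nine which do not invert a given element.
-/

set_option autoImplicit false

namespace CfsgLib.InvChar.LThreeFourAut

universe u

variable {V : Type u} [CommGroup V]

/-- Two independent elements give all nine elements. -/
theorem exists_coord [Finite V] (hV : Nat.card V = 9) {v u : V} (hv : orderOf v = 3)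
    (hu : u ∉ Subgroup.zpowers v) (x : V) : ∃ i : Fin 3, ∃ j : Fin 3, x = v ^ (i : ℕ) * u ^ (j : ℕ) := by
  have hv3 : v ^ 3 = 1 := hv ▸ pow_orderOf_eq_one v
  have hKi : (Subgroup.zpowers v).index = 3 := by
    have := Subgroup.card_mul_index (Subgroup.zpowers v)
    rw [Nat.card_zpowers, hv, hV] at this
    omega
  let f : Fin 3 × Fin 3 → V := fun p => v ^ (p.1 : ℕ) * u ^ (p.2 : ℕ)
  have hu3 : u ^ 3 ∈ Subgroup.zpowers v := by
    have := (Subgroup.zpowers v).pow_index_mem u
    rwa [hKi] at this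
  have hpow : ∀ k : ℕ, 0 < k → k < 3 → u ^ k ∉ Subgroup.zpowers v := by
    intro k h0 h3 hk
    refine hu ?_
    interval_cases k
    · simpa using hk
    · have := mul_mem hu3 (inv_mem hk)
      rwa [show u ^ 3 * (u ^ 2)⁻¹ = u by group] at this
  have hf : Function.Injective f := by
    rintro ⟨i, j⟩ ⟨i', j'⟩ h
    simp only [f] at h
    have key : ∀ p q p' q' : ℕ, p < 3 → p' < 3 → q ≤ q' → q' < 3 →
        v ^ p * u ^ q = v ^ p' * u ^ q' → p = p' ∧ q = q' := by
      intro p q p' q' hp hp' hqq hq' e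
      have hmem : u ^ (q' - q) ∈ Subgroup.zpowers v := by
        have e' : u ^ (q' - q) = (v ^ p')⁻¹ * v ^ p := by
          rw [eq_inv_mul_iff_mul_eq]
          refine mul_right_cancel (b := u ^ q) ?_
          rw [mul_assoc, ← pow_add, Nat.sub_add_cancel hqq, ← e]
        rw [e']
        exact mul_mem (inv_mem (Subgroup.npow_mem_zpowers v p'))
          (Subgroup.npow_mem_zpowers v p)
      have hq0 : q = q' := by
        by_contra hne
        exact hpow (q' - q) (by omega) (by omega) hmem
      subst hq0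
      exact ⟨pow_injOn_Iio_orderOf (by rw [hv]; exact hp) (by rw [hv]; exact hp')
        (mul_right_cancel e), rfl⟩
    rcases le_total (j : ℕ) j' with hjj | hjj
    · obtain ⟨h1, h2⟩ := key i j i' j' i.2 i'.2 hjj j'.2 h
      exact Prod.ext (Fin.ext h1) (Fin.ext h2)
    · obtain ⟨h1, h2⟩ := key i' j' i j i'.2 i.2 hjj j.2 h.symm
      exact Prod.ext (Fin.ext h1.symm) (Fin.ext h2.symm)
  have hb := (Nat.bijective_iff_injective_and_card f).2 ⟨hf, by simp [hV]⟩
  obtain ⟨⟨i, j⟩, e⟩ := hb.2 x
  exact ⟨i, j, e.symm⟩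

/-- The stabiliser and the orbit of `v` are small. -/
theorem orbit_bound [Finite V] (hV : Nat.card V = 9) {v : V} (hv : orderOf v = 3)
    (R : Subgroup (MulAut V)) (hR : ∀ r ∈ R, r v ≠ v⁻¹)
    (h3 : ∀ r ∈ R, r v = v → r ^ 3 = 1 → r = 1) :
    ∃ o s : ℕ, Nat.card R = o * s ∧ 1 ≤ s ∧ s ≤ 2 ∧ o ≤ 4 ∧
      o = {x : V | ∃ r ∈ R, r v = x}.ncard := by
  classical
  have hv1 : v ≠ 1 := fun e => by simp [e] at hv
  let K : Subgroup R :=
    { carrier := {r | (r : MulAut V) v = v}
      one_mem' := rfl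
      mul_mem' := fun {p q} hp hq => by
        change (p : MulAut V) ((q : MulAut V) v) = v
        rw [hq, hp]
      inv_mem' := fun {p} hp => by
        change (p : MulAut V)⁻¹ v = v
        conv_lhs => rw [← hp]
        exact (p : MulAut V).symm_apply_apply v }
  let φ : R ⧸ K → {x : V | ∃ r ∈ R, r v = x} :=
    Quotient.lift (fun r => ⟨(r : MulAut V) v, r, r.2, rfl⟩) fun p q h => Subtype.ext (by
      have h' : ((p : MulAut V)⁻¹ * q) v = v := QuotientGroup.leftRel_apply.1 h
      change (p : MulAut V) v = (q : MulAut V) v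
      conv_lhs => rw [← h']
      exact (p : MulAut V).apply_symm_apply _)
  have hφ : Function.Bijective φ := by
    refine ⟨fun p q h => ?_, ?_⟩
    · induction p using Quotient.inductionOn with | _ p => ?_
      induction q using Quotient.inductionOn with | _ q => ?_
      refine Quotient.sound (QuotientGroup.leftRel_apply.2 ?_)
      have h' : (p : MulAut V) v = (q : MulAut V) v := congrArg Subtype.val h
      change (p : MulAut V)⁻¹ ((q : MulAut V) v) = v
      rw [← h']
      exact (p : MulAut V).symm_apply_apply v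
    · rintro ⟨x, r, hr, rfl⟩
      exact ⟨Quotient.mk _ ⟨r, hr⟩, rfl⟩
  have horb : K.index = {x : V | ∃ r ∈ R, r v = x}.ncard := by
    rw [← Nat.card_coe_set_eq]
    exact Nat.card_congr (Equiv.ofBijective φ hφ)
  refine ⟨_, Nat.card K, ?_, Nat.card_pos, ?_, ?_, rfl⟩
  · rw [← horb, mul_comm]
    exact (Subgroup.card_mul_index K).symm
  · -- an element of the stabiliser fixes `u` modulo `v` or inverts it
    obtain ⟨u, hu⟩ : ∃ u : V, u ∉ Subgroup.zpowers v := by
      by_contra hno
      push Not at hno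
      have h9 : Nat.card V ≤ Nat.card (Subgroup.zpowers v) :=
        Nat.card_le_card_of_injective (fun y => (⟨y, hno y⟩ : Subgroup.zpowers v))
          fun p q e => congrArg Subtype.val e
      rw [Nat.card_zpowers, hv, hV] at h9
      omega
    have hv3 : v ^ 3 = 1 := hv ▸ pow_orderOf_eq_one v
    have hcoord := exists_coord hV hv hu
    have hext : ∀ p q : MulAut V, p v = q v → p u = q u → p = q := by
      intro p q e1 e2
      refine MulEquiv.ext fun x => ?_
      obtain ⟨i, j, rfl⟩ := hcoord x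
      rw [map_mul, map_mul, map_pow, map_pow, map_pow, map_pow, e1, e2]
    have hclass : ∀ r : K, ∃ j : Fin 3, j ≠ 0 ∧ ∃ i : Fin 3,
        ((r : R) : MulAut V) u = v ^ (i : ℕ) * u ^ (j : ℕ) := by
      intro r
      obtain ⟨i, j, e⟩ := hcoord (((r : R) : MulAut V) u)
      refine ⟨j, ?_, i, e⟩
      rintro rfl
      refine hu ?_
      have hrv : ((r : R) : MulAut V) v = v := r.2
      have e' : ((r : R) : MulAut V) u = ((r : R) : MulAut V) (v ^ (i : ℕ)) := by
        rw [e, map_pow, hrv]; simp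
      rw [((r : R) : MulAut V).injective e']
      exact Subgroup.npow_mem_zpowers v _
    choose J hJ0 I hI using hclass
    suffices hinj : Function.Injective fun r : K => decide (J r = 1) by
      have := Nat.card_le_card_of_injective _ hinj
      simpa using this
    intro r r' e
    have e' : J r = J r' := by
      simp only [decide_eq_decide] at e
      rcases Fin.exists_fin_succ.1 ⟨J r, rfl⟩ with h | ⟨i, h⟩
      all_goals
        revert e
        have h0 := hJ0 r
        have h0' := hJ0 r'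
        generalize J r = p at h0 ⊢
        generalize J r' = q at h0' ⊢
        revert p q
        decide
    have hrv : ((r : R) : MulAut V) v = v := r.2
    have hrv' : ((r' : R) : MulAut V) v = v := r'.2
    -- `r⁻¹ r'` fixes `v` and moves `u` inside its coset
    set d : MulAut V := ((r : R) : MulAut V)⁻¹ * ((r' : R) : MulAut V) with hd
    have hdv : d v = v := by
      change ((r : R) : MulAut V)⁻¹ (((r' : R) : MulAut V) v) = v
      rw [hrv']
      conv_lhs => rw [← hrv]
      exact ((r : R) : MulAut V).symm_apply_apply v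
    set c : V := (v ^ (I r : ℕ))⁻¹ * v ^ (I r' : ℕ) with hc
    have hdu : d u = c * u := by
      have h1 : ((r' : R) : MulAut V) u = ((r : R) : MulAut V) (c * u) := by
        rw [map_mul, hc, map_mul, map_inv, map_pow, map_pow, hrv, hI, hI, ← e', mul_comm
          (v ^ (I r : ℕ))⁻¹ (v ^ (I r' : ℕ)), mul_assoc, inv_mul_cancel_left]
      change ((r : R) : MulAut V)⁻¹ (((r' : R) : MulAut V) u) = c * u
      rw [h1]
      exact ((r : R) : MulAut V).symm_apply_apply _
    have hdc : d c = c := by rw [hc, map_mul, map_inv, map_pow, map_pow, hdv]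
    have hc3 : c * c * c = 1 := by
      rw [← pow_two, ← pow_succ, hc, mul_pow, inv_pow, ← pow_mul, ← pow_mul, mul_comm _ 3,
        mul_comm _ 3, pow_mul, pow_mul, hv3, one_pow, one_pow, inv_one, one_mul]
    have hd3 : d ^ 3 = 1 := by
      refine hext _ _ ?_ ?_
      · rw [pow_three]
        change d (d (d v)) = v
        rw [hdv, hdv, hdv]
      · rw [pow_three]
        change d (d (d u)) = u
        have hdy : ∀ y, d (c * y) = c * d y := fun y => by rw [map_mul, hdc]
        rw [hdu, hdy, hdu, hdy, hdy, hdu, ← mul_assoc, ← mul_assoc, hc3, one_mul]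
    have hdR : d ∈ R := mul_mem (inv_mem (r : R).2) (r' : R).2
    have hd1 := h3 d hdR hdv hd3
    rw [hd, inv_mul_eq_one] at hd1
    exact Subtype.ext (Subtype.ext hd1)
  · -- the orbit meets each pair of inverses at most once and avoids one
    set S : Set V := {x : V | ∃ r ∈ R, r v = x}
    have hdisj : Disjoint S ((fun x => x⁻¹) '' S) := by
      rw [Set.disjoint_left]
      rintro x ⟨r, hr, rfl⟩ ⟨y, ⟨r', hr', rfl⟩, e⟩
      refine hR (r'⁻¹ * r) (mul_mem (inv_mem hr') hr) ?_
      change r'⁻¹ (r v) = v⁻¹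
      simp only at e
      rw [← e, ← map_inv]
      exact r'.symm_apply_apply _
    have h1 : (1 : V) ∉ S ∪ (fun x => x⁻¹) '' S := by
      rintro (⟨r, -, e⟩ | ⟨y, ⟨r, -, rfl⟩, e⟩)
      · exact hv1 ((map_eq_one_iff r r.injective).1 e)
      · exact hv1 ((map_eq_one_iff r r.injective).1 (inv_eq_one.1 e))
    have h2 : (insert (1 : V) (S ∪ (fun x => x⁻¹) '' S)).ncard ≤ 9 := by
      rw [← hV]
      exact Set.ncard_le_card _
    rw [Set.ncard_insert_of_notMem h1, Set.ncard_union_eq hdisj,
      Set.ncard_image_of_injective _ inv_injective] at h2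
    omega

/-- The product over a set of 1, 2 or 4 elements of order three without inverse pairs is not `1`. -/
theorem prod_ne_one [Finite V] (hV : Nat.card V = 9) (S : Finset V)
    (h3 : ∀ x ∈ S, orderOf x = 3) (hinv : ∀ x ∈ S, x⁻¹ ∉ S)
    (hc : S.card = 1 ∨ S.card = 2 ∨ S.card = 4) : ∏ x ∈ S, x ≠ 1 := by
  classical
  rcases hc with hc | hc | hc
  · obtain ⟨x, rfl⟩ := Finset.card_eq_one.1 hc
    rw [Finset.prod_singleton]
    intro e
    have := h3 x (Finset.mem_singleton_self x)
    rw [e, orderOf_one] at this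
    omega
  · obtain ⟨x, y, hxy, rfl⟩ := Finset.card_eq_two.1 hc
    rw [Finset.prod_pair hxy]
    intro e
    exact hinv x (by simp) (by rw [inv_eq_of_mul_eq_one_right e]; simp)
  · obtain ⟨a, ha⟩ : S.Nonempty := Finset.card_pos.1 (by omega)
    obtain ⟨b, hb, hba⟩ : ∃ b ∈ S, b ∉ Subgroup.zpowers a := by
      by_contra hno
      push Not at hno
      have hsub : S ⊆ {1, a, a⁻¹} := by
        intro x hx
        obtain ⟨k, rfl⟩ := Subgroup.mem_zpowers_iff.1 (hno x hx)
        rw [← zpow_mod_orderOf, h3 a ha]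
        have h0 : 0 ≤ k % (3 : ℕ) := Int.emod_nonneg _ (by norm_num)
        have h3' : k % (3 : ℕ) < 3 := Int.emod_lt_of_pos _ (by norm_num)
        interval_cases hk : k % (3 : ℕ)
        · simp
        · simp
        · have h23 : a ^ (2 : ℤ) = a⁻¹ := by
            rw [zpow_two, ← mul_eq_one_iff_eq_inv]
            have h33 : a ^ 3 = 1 := h3 a ha ▸ pow_orderOf_eq_one a
            rw [← h33, pow_three']
          simp [h23]
      have h1 : (1 : V) ∉ S := fun h => by
        have := h3 1 h
        rw [orderOf_one] at this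
        omega
      have hsub' : S ⊆ {a, a⁻¹} := fun x hx => by
        rcases Finset.mem_insert.1 (hsub hx) with rfl | h
        · exact absurd hx h1
        · exact h
      have := (Finset.card_le_card hsub').trans Finset.card_le_two
      omega
    have hab : a ≠ b := fun e => hba (e ▸ Subgroup.mem_zpowers a)
    have ha3 : a ^ 3 = 1 := h3 a ha ▸ pow_orderOf_eq_one a
    have hb3 : b ^ 3 = 1 := h3 b hb ▸ pow_orderOf_eq_one b
    have hai : a⁻¹ = a ^ 2 := inv_eq_of_mul_eq_one_right (by rw [← pow_succ']; exact ha3)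
    have hbi : b⁻¹ = b ^ 2 := inv_eq_of_mul_eq_one_right (by rw [← pow_succ']; exact hb3)
    have h1 : (1 : V) ∉ S := fun h => by
      have := h3 1 h
      rw [orderOf_one] at this
      omega
    have hcases : ∀ x ∈ S, x ≠ a → x ≠ b →
        x = a * b ∨ x = a⁻¹ * b⁻¹ ∨ x = a * b⁻¹ ∨ x = a⁻¹ * b := by
      intro x hx hxa hxb
      obtain ⟨i, j, rfl⟩ := exists_coord hV (h3 a ha) hba x
      fin_cases i <;> fin_cases j <;> simp at hx hxa hxb ⊢
      · exact absurd hx h1
      · exact absurd (by rw [hbi]; exact hx) (hinv b hb)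
      · exact Or.inr (Or.inr (Or.inl (by rw [hbi])))
      · exact absurd (by rw [hai]; exact hx) (hinv a ha)
      · exact Or.inr (Or.inr (Or.inr (by rw [hai])))
      · exact Or.inr (Or.inl (by rw [hai, hbi]))
    obtain ⟨c, d, hcd, he⟩ := Finset.card_eq_two.1 (show ((S.erase a).erase b).card = 2 by
      rw [Finset.card_erase_of_mem (Finset.mem_erase.2 ⟨hab.symm, hb⟩),
        Finset.card_erase_of_mem ha, hc])
    have hcS : c ≠ b ∧ c ≠ a ∧ c ∈ S := by
      have : c ∈ (S.erase a).erase b := by rw [he]; simp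
      simpa [Finset.mem_erase] using this
    have hdS : d ≠ b ∧ d ≠ a ∧ d ∈ S := by
      have : d ∈ (S.erase a).erase b := by rw [he]; simp
      simpa [Finset.mem_erase] using this
    rw [← Finset.mul_prod_erase S _ ha,
      ← Finset.mul_prod_erase (S.erase a) _ (Finset.mem_erase.2 ⟨hab.symm, hb⟩), he,
      Finset.prod_pair hcd]
    intro e
    have ne_a : a ≠ 1 := fun h => h1 (h ▸ ha)
    have ne_b : b ≠ 1 := fun h => h1 (h ▸ hb)
    have hab2 : a ≠ b⁻¹ := fun h => hinv b hb (h ▸ ha)
    have k1 : (a * b)⁻¹ = a⁻¹ * b⁻¹ := mul_inv a b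
    have k2 : (a * b⁻¹)⁻¹ = a⁻¹ * b := by rw [mul_inv, inv_inv]
    have hno1 : ¬ (a * b ∈ S ∧ a⁻¹ * b⁻¹ ∈ S) := fun h => hinv _ h.1 (k1.symm ▸ h.2)
    have hno2 : ¬ (a * b⁻¹ ∈ S ∧ a⁻¹ * b ∈ S) := fun h => hinv _ h.1 (k2.symm ▸ h.2)
    rcases hcases c hcS.2.2 hcS.2.1 hcS.1 with rfl | rfl | rfl | rfl <;>
      rcases hcases d hdS.2.2 hdS.2.1 hdS.1 with rfl | rfl | rfl | rfl <;>
      first
        | exact hcd rfl
        | exact hno1 ⟨hcS.2.2, hdS.2.2⟩
        | exact hno1 ⟨hdS.2.2, hcS.2.2⟩
        | exact hno2 ⟨hcS.2.2, hdS.2.2⟩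
        | exact hno2 ⟨hdS.2.2, hcS.2.2⟩
        | skip
    all_goals
      have f1 : a * (b * (a * b * (a * b⁻¹))) = b := by
        rw [show a * (b * (a * b * (a * b⁻¹))) = a ^ 3 * b * (b * b⁻¹) by rw [pow_three]; ac_rfl,
          ha3, one_mul, mul_inv_cancel, mul_one]
      have f2 : a * (b * (a * b * (a⁻¹ * b))) = a := by
        rw [show a * (b * (a * b * (a⁻¹ * b))) = b ^ 3 * a * (a * a⁻¹) by rw [pow_three]; ac_rfl,
          hb3, one_mul, mul_inv_cancel, mul_one]
      have f3 : a * (b * (a⁻¹ * b⁻¹ * (a * b⁻¹))) = a * b⁻¹ := by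
        rw [show a * (b * (a⁻¹ * b⁻¹ * (a * b⁻¹))) = a * a⁻¹ * (b * b⁻¹) * (a * b⁻¹) by ac_rfl,
          mul_inv_cancel, mul_inv_cancel, one_mul, one_mul]
      have f4 : a * (b * (a⁻¹ * b⁻¹ * (a⁻¹ * b))) = a⁻¹ * b := by
        rw [show a * (b * (a⁻¹ * b⁻¹ * (a⁻¹ * b))) = a * a⁻¹ * (b * b⁻¹) * (a⁻¹ * b) by ac_rfl,
          mul_inv_cancel, mul_inv_cancel, one_mul, one_mul]
      first
        | exact ne_b (f1.symm.trans e)
        | exact ne_a (f2.symm.trans e)
        | exact hab (mul_inv_eq_one.1 (f3.symm.trans e))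
        | exact hab (inv_mul_eq_one.1 (f4.symm.trans e))
        | exact ne_b (f1.symm.trans (by rw [← e]; ac_rfl))
        | exact ne_a (f2.symm.trans (by rw [← e]; ac_rfl))
        | exact hab (mul_inv_eq_one.1 (f3.symm.trans (by rw [← e]; ac_rfl)))
        | exact hab (inv_mul_eq_one.1 (f4.symm.trans (by rw [← e]; ac_rfl)))

end CfsgLib.InvChar.LThreeFourAut
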