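import Cfsg.Agent.Lib.InvChar.LThreeFourAut.Defs

/-!
Interface of the exclusion of an involution centraliser of order 192: a pair of elements of order
three in the centraliser of the element of order three of that centraliser.
-/

set_option autoImplicit false

namespace CfsgLib.InvChar.LThreeFourAut

open Subgroup

universe u

variable {G : Type u} [Group G]

/-- An element `f` of order three in the centraliser of `a`, inverted there by an involution `s`;
the centraliser of `a` has Sylow 3-subgroups of order nine at most, and the elements of `⟨a, f⟩`
outside `⟨f⟩` centralise involutions. -/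
structure ThreePair (a f s : G) : Prop where
  orderA : orderOf a = 3
  orderF : orderOf f = 3
  comm : a * f = f * a
  not_mem : f ∉ zpowers a
  hs : orderOf s = 2
  sa : s * a = a * s
  sf : s * f * s⁻¹ = f⁻¹
  bound : ¬ 27 ∣ Nat.card (centralizer ({a} : Set G))
  lines : ∀ x ∈ closure ({a, f} : Set G), x ∉ zpowers f → ∃ i, orderOf i = 2 ∧ i * x = x * i

end CfsgLib.InvChar.LThreeFourAut
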